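import Cfsg.Agent.Lib.Thompson.FFSL2.Spe

/-!
With a strongly `p`-embedded subgroup, a quadratic offender bounds the order of every `p`-subgroup.
-/

set_option autoImplicit false
set_option linter.unusedSectionVars false
set_option linter.style.haveILetI false

namespace Cfsg.Agent.MaxEss41

open Cfsg.Agent.FFSL2
open Pointwise

variable {H : Type*} [Group H] [Finite H] {V : Type*} [AddCommGroup V] [Finite V]
  [DistribMulAction H V] {p : ℕ} [hpp : Fact p.Prime]

/-- A `p`-subgroup is no larger than a quadratic offender. -/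
theorem card_le_offender {X : Subgroup H} (hX : Cfsg.IsStronglyPEmbedded p X)
    (hfaith : ∀ h : H, (∀ v : V, h • v = v) → h = 1) (hp : ∀ v : V, p • v = 0)
    {A : Subgroup H} (hA : Offender V p A) {D : Subgroup H} (hD : IsPGroup p ↥D) :
    Nat.card ↥D ≤ Nat.card ↥A := by
  classical
  set S := confSys hX hA with hS
  have hsmall : S.Small := confSys_small hX hfaith hp hA
  obtain ⟨g₀, hAB⟩ := exists_opp hX hfaith hA
  set B := cj g₀ A with hBdef
  have hAm : A ∈ S.fam := self_mem_fam hX hA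
  have hBm : B ∈ S.fam := ⟨g₀, rfl⟩
  -- members with the label of `A` equal `A`
  have huni : ∀ A₁ ∈ S.fam, ∀ A₂ ∈ S.fam, S.lab A₁ = S.lab A₂ → A₁ = A₂ := by
    intro A₁ h1 A₂ h2 h
    obtain ⟨E, hE, hne⟩ : ∃ E ∈ S.fam, S.lab A₁ ≠ S.lab E := by
      by_cases h' : S.lab A₁ = S.lab A
      · exact ⟨B, hBm, h'.symm ▸ hAB⟩
      · exact ⟨A, hAm, h'⟩
    obtain ⟨b, hb, rfl⟩ := S.orbit hfaith hsmall hE h1 h2 hne.symm (h ▸ hne.symm)
    have h' : S.lab (cj 1 A₁) = S.lab (cj b A₁) := by rw [cj_one]; exact h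
    rw [← S.lab_cj_inj hfaith hE h1 hne.symm E.one_mem hb h', cj_one]
  have hfam : ∀ E ∈ S.fam, E = A ∨ ∃ a ∈ A, E = cj a B := by
    intro E hE
    by_cases h : S.lab A = S.lab E
    · exact Or.inl (huni A hAm E hE h).symm
    · exact Or.inr (S.orbit hfaith hsmall hAm hBm hE hAB h)
  -- every `p`-element lies in a member
  have hpel : ∀ x : H, (∃ k : ℕ, orderOf x = p ^ k) → ∃ E ∈ S.fam, x ∈ E := by
    rintro x ⟨k, hk⟩
    have hxp : IsPGroup p ↥(Subgroup.zpowers x) :=
      IsPGroup.of_card (n := k) (by rw [Nat.card_zpowers, hk])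
    obtain ⟨g, hg⟩ := exists_le_cj hX hxp
    obtain ⟨gA, hgA⟩ := exists_label_eq hX hA.pgroup
    set E := cj (g * gA⁻¹) A with hE
    have hEm : E ∈ S.fam := ⟨_, rfl⟩
    have hEl : label X E = cj g X := by
      rw [hE, label_cj hX hA.pgroup hA.ne_bot, hgA, ← cj_mul, inv_mul_cancel_right]
    have hx : x ∈ cj g X := hg (Subgroup.mem_zpowers x)
    have hnorm : ∀ y ∈ cj g X, cj y E = E := by
      intro y hy
      refine huni _ ⟨y * (g * gA⁻¹), cj_mul _ _ A⟩ E hEm ?_
      show label X (cj y E) = label X E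
      rw [label_cj hX (hA.cj _).pgroup (hA.cj _).ne_bot, hEl, cj_self hy]
    have hxN : Subgroup.zpowers x ≤ Subgroup.normalizer (E : Set H) := by
      intro y hy
      rw [Subgroup.mem_normalizer_iff]
      intro h
      conv_rhs => rw [← hnorm y (hg hy), mem_cj]
      simp [mul_assoc]
    have hP : IsPGroup p ↥(E ⊔ Subgroup.zpowers x : Subgroup H) :=
      (hA.cj _).pgroup.to_sup_of_normal_left' hxp hxN
    have hPle : E ⊔ Subgroup.zpowers x ≤ cj g X :=
      sup_le (hEl ▸ le_label hX (hA.cj _).pgroup) hg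
    obtain ⟨E', hE'm, hne⟩ : ∃ E' ∈ S.fam, S.lab E ≠ S.lab E' := by
      by_cases h' : S.lab E = S.lab A
      · exact ⟨B, hBm, h'.symm ▸ hAB⟩
      · exact ⟨A, hAm, h'⟩
    have horb : ∀ d : ↥(E ⊔ Subgroup.zpowers x : Subgroup H), ∃ e : ↥E,
        cj (d : H) E' = cj (e : H) E' := by
      intro d
      have hm : cj (d : H) E' ∈ S.fam := by
        obtain ⟨g', rfl⟩ := hE'm
        exact ⟨_, cj_mul _ _ A⟩
      have hl : S.lab E ≠ S.lab (cj (d : H) E') := by
        intro h
        obtain ⟨g', hg'⟩ := hE'm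
        subst hg'
        refine hne ?_
        show label X E = label X (cj g' A)
        have h' : cj (d : H) (label X E) = cj (d : H) (label X (cj g' A)) := by
          rw [← label_cj hX (hA.cj _).pgroup (hA.cj _).ne_bot, ← label_cj hX (hA.cj _).pgroup
            (hA.cj _).ne_bot, hnorm _ (hPle d.2)]
          exact h
        exact Subgroup.map_injective (MulAut.conj (d : H)).injective h'
      obtain ⟨e, he, h⟩ := S.orbit hfaith hsmall hEm hE'm hm hne hl
      exact ⟨⟨e, he⟩, h⟩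
    choose f hf using horb
    have hfi : Function.Injective f := by
      intro d d' h
      by_contra hdd
      have h1 : cj (d : H) E' = cj (d' : H) E' := by rw [hf, hf, h]
      set y : H := (d' : H)⁻¹ * (d : H) with hy
      have h2 : cj y E' = E' := by rw [hy, cj_mul, h1, ← cj_mul, inv_mul_cancel, cj_one]
      have hyP : y ∈ (E ⊔ Subgroup.zpowers x : Subgroup H) :=
        Subgroup.mul_mem _ (Subgroup.inv_mem _ d'.2) d.2
      have hy1 : y ≠ 1 := fun h3 => hdd (Subtype.ext (inv_mul_eq_one.1 h3).symm)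
      obtain ⟨g', hg'⟩ := hE'm
      subst hg'
      refine hne ?_
      show label X E = label X (cj g' A)
      rw [← label_eq_of_mem hX hP (hA.cj g').pgroup hyP hy1
        (mem_label hX (hA.cj g').pgroup (hA.cj g').ne_bot (by rw [h2])), hEl]
      exact (label_eq hX hP (fun h => (hA.cj (g * gA⁻¹)).ne_bot (le_bot_iff.1 (h ▸ le_sup_left)))
        hPle).symm
    have hPE := Subgroup.eq_of_le_of_card_ge (le_sup_left : E ≤ E ⊔ Subgroup.zpowers x)
      (Nat.card_le_card_of_injective f hfi)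
    refine ⟨E, hEm, ?_⟩
    rw [hPE]
    exact le_sup_right (a := E) (Subgroup.mem_zpowers x)
  rcases eq_or_ne D ⊥ with rfl | hDne
  · rw [Subgroup.card_bot]
    exact Nat.card_pos
  obtain ⟨a₀, ha₀, ha₀1⟩ := (Subgroup.bot_or_exists_ne_one D).resolve_left hDne
  have hlab : ∀ x ∈ D, x ≠ 1 → ∃ E ∈ S.fam, x ∈ E ∧ label X E = label X D := by
    intro x hx hx1
    obtain ⟨k, hk⟩ := IsPGroup.iff_orderOf.1 hD ⟨x, hx⟩
    obtain ⟨E, hE, hxE⟩ := hpel x ⟨k, by rw [← hk, Subgroup.orderOf_mk]⟩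
    refine ⟨E, hE, hxE, ?_⟩
    obtain ⟨g, rfl⟩ := hE
    exact label_eq_of_mem hX (hA.cj g).pgroup hD hxE hx1 (le_label hX hD hx)
  obtain ⟨E₀, hE₀, -, hl₀⟩ := hlab a₀ ha₀ ha₀1
  have hle : D ≤ E₀ := by
    intro x hx
    rcases eq_or_ne x 1 with rfl | hx1
    · exact E₀.one_mem
    obtain ⟨E, hE, hxE, hl⟩ := hlab x hx hx1
    rwa [← huni E hE E₀ hE₀ (hl.trans hl₀.symm)]
  refine (Subgroup.card_le_of_le hle).trans_eq ?_
  obtain ⟨g, rfl⟩ := hE₀
  exact card_cj g A

end Cfsg.Agent.MaxEss41
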