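import Cfsg.Agent.MaxEss41.Transv
import Cfsg.Agent.MaxEss41.Offender
import Cfsg.Agent.Fusion91.Transvection
import Cfsg.Agent.Fusion91.Essential
import Cfsg.Agent.Lib.Fusion.Saturation

/-!
The automizer of an elementary abelian essential subgroup of order `p ^ 3`: the normalizer has order
`p ^ 4` and an automorphism of the system inverts the commutator subgroup and fixes a complement.
-/

set_option autoImplicit false
set_option linter.unusedSectionVars false
set_option linter.style.haveILetI false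

namespace Cfsg.Agent.MaxEss41

open Subgroup
open Cfsg.Agent.Fusion
open Cfsg.FusionSystem (normalizerIn centralizerIn extender)
open scoped commutatorElement

theorem spe_map {p : ℕ} [Fact p.Prime] {X Y : Type*} [Group X] [Group Y] [Finite X] [Finite Y]
    (e : X ≃* Y) {M : Subgroup X} (h : Cfsg.IsStronglyPEmbedded p M) :
    Cfsg.IsStronglyPEmbedded p (M.map e.toMonoidHom) := by
  refine LocalEven61.spe_of_normalizersLE (fun ht => h.2.1 ?_) ?_ fun A hA hAp hne => ?_
  · refine map_injective e.injective (ht.trans ?_)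
    exact (map_top_of_surjective _ e.surjective).symm
  · rw [card_map_of_injective (f := e.toMonoidHom) e.injective]
    exact LocalEven61.dvd_card_of_spe h
  · set B := A.comap e.toMonoidHom with hB
    have hAB : B.map e.toMonoidHom = A := map_comap_eq_self_of_surjective e.surjective A
    have hBM : B ≤ M := by
      intro x hx
      obtain ⟨y, hy, he⟩ := hA hx
      exact e.injective he ▸ hy
    have h1 := LocalEven61.normalizersLE_of_spe h B hBM (hAp.comap_of_injective _ e.injective)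
      fun hb => hne (by rw [← hAB, hb, Subgroup.map_bot])
    intro y hy
    refine ⟨e.symm y, h1 ?_, e.apply_symm_apply y⟩
    refine mem_normalizer_iff.2 fun x => ?_
    have := mem_normalizer_iff.1 hy (e x)
    simpa [hB, mem_comap] using this

variable {Ω : Type*} [Group Ω] {S : Subgroup Ω} {F : Cfsg.FusionSystem S} {p : ℕ} [hp : Fact p.Prime]

/-- An automorphism of the normalizer inverting the commutators and fixing a complement in the
centre. -/
structure Flip (F : Cfsg.FusionSystem S) (p : ℕ) (E : Subgroup Ω) (f : Ω → Ω) (L : Subgroup Ω)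
    (l x0 : Ω) : Prop where
  card_N : Nat.card ↥(normalizerIn S E) = p ^ 4
  iso : IsIso F (normalizerIn S E) (normalizerIn S E) f
  image : f '' (E : Set Ω) = (E : Set Ω)
  L_le : L ≤ E
  L_iff : ∀ x ∈ E, (x ∈ L ↔ ∀ g ∈ normalizerIn S E, Commute g x)
  card_L : Nat.card ↥L = p ^ 2
  l_mem : l ∈ L
  orderOf_l : orderOf l = p
  comm_mem : ∀ g ∈ normalizerIn S E, ∀ e ∈ E, ⁅g, e⁆ ∈ zpowers l
  f_l : f l = l⁻¹
  x0_mem : x0 ∈ L
  x0_ne : x0 ≠ 1
  f_x0 : f x0 = x0
  f_N : ∀ g ∈ normalizerIn S E, f g * g⁻¹ ∈ E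
  f_E : ∀ e ∈ E, f e * e ∈ L

theorem exists_flip [Finite ↥S] (hS : IsPGroup p ↥S) (hF : F.IsSaturated p) (hodd : p ≠ 2)
    (hbig : p ^ 5 ≤ Nat.card ↥S) {E : Subgroup Ω} (hE : F.IsEssential p E)
    (hcard : Nat.card ↥E = p ^ 3) (hab : IsMulCommutative ↥E) (hexp : ∀ x ∈ E, x ^ p = 1)
    (hC : centralizerIn S E = E) :
    ∃ (f : Ω → Ω) (L : Subgroup Ω) (l x0 : Ω), Flip F p E f L l x0 := by
  classical
  have hp1 := hp.out.one_lt
  have hES : E ≤ S := hE.1.1
  haveI : Finite E := finite_of_le hES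
  haveI : Finite (MulAut E) := finite_mulAut E
  set N := normalizerIn S E with hNdef
  haveI : Finite N := finite_of_le (inf_le_left : N ≤ S)
  have hEN : E ≤ N := le_inf hES le_normalizer
  obtain ⟨g, hg, hgE, l₀, hl₀E, hl₀, hgl₀, hgmove⟩ := exists_transvection hS hES hcard hab hC hbig
  letI : CommGroup ↥E := { (inferInstance : Group ↥E) with mul_comm := hab.is_comm.comm }
  set A := F.autGroup E with hAdef
  have act : ∀ (a : A) (x : ↥E), a • x = (a : MulAut E) x := fun a x => rfl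
  have hfaith : ∀ a : A, (∀ x : ↥E, a • x = x) → a = 1 := fun a h =>
    Subtype.ext (MulEquiv.ext h)
  -- a strongly embedded subgroup
  obtain ⟨X, hX⟩ : ∃ X : Subgroup A, Cfsg.IsStronglyPEmbedded p X := by
    obtain ⟨hn, M₀, hM₀⟩ := hE.2.2
    have hbot : (Cfsg.Inn E).subgroupOf A = ⊥ := by
      rw [Fusion91.inn_eq_bot hab, bot_subgroupOf]
    exact ⟨_, spe_map ((QuotientGroup.quotientMulEquivOfEq hbot).trans QuotientGroup.quotientBot) hM₀⟩
  let t : A := ⟨conjAutHom S E ⟨g, hg⟩, autInducedBy_le_autGroup hES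
    (range_conjAutHom S E ▸ ⟨_, rfl⟩)⟩
  have ht : ∀ x : ↥E, ((t • x : ↥E) : Ω) = g * x * g⁻¹ := fun x => rfl
  set l : ↥E := ⟨l₀, hl₀E⟩ with hl
  have hlo : orderOf l = p := by rw [hl, Subgroup.orderOf_mk, hl₀]
  have hzmem : ∀ x : ↥E, (x : Ω) ∈ zpowers l₀ → x ∈ zpowers l := by
    rintro x ⟨i, hi⟩
    exact ⟨i, Subtype.ext hi⟩
  -- the transvections with centre `l`
  let H : Subgroup A :=
    { carrier := {a | a • l = l ∧ ∀ x : ↥E, x⁻¹ * a • x ∈ zpowers l}
      one_mem' := ⟨one_smul _ _, fun x => by rw [one_smul, inv_mul_cancel]; exact one_mem _⟩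
      mul_mem' := fun {a b} ha hb => ⟨by rw [mul_smul, hb.1, ha.1], fun x => by
        have := mul_mem (hb.2 x) (ha.2 (b • x))
        rwa [mul_assoc, mul_inv_cancel_left, ← mul_smul] at this⟩
      inv_mem' := fun {a} ha => ⟨by rw [inv_smul_eq_iff, ha.1], fun x => by
        have := inv_mem (ha.2 (a⁻¹ • x))
        rwa [smul_inv_smul, _root_.mul_inv_rev, inv_inv] at this⟩ }
  have hHpow : ∀ a ∈ H, a ^ p = 1 := by
    intro a ha
    refine hfaith _ fun x => ?_
    have key : ∀ k : ℕ, (a ^ k) • x = x * (x⁻¹ * a • x) ^ k := by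
      intro k
      induction k with
      | zero => simp
      | succ k ih =>
        obtain ⟨i, hi⟩ := ha.2 x
        have h3 : a • (x⁻¹ * a • x) = x⁻¹ * a • x := by
          rw [← hi]
          show a • l ^ i = l ^ i
          rw [smul_zpow', ha.1]
        rw [pow_succ', mul_smul, ih, smul_mul', smul_pow', h3, pow_succ', ← mul_assoc, ← mul_assoc,
          mul_inv_cancel, one_mul]
    rw [key, show (x⁻¹ * a • x) ^ p = 1 from Subtype.ext (hexp _ (Subtype.mem _)), mul_one]
  have hHp : IsPGroup p ↥H := fun a => ⟨1, Subtype.ext (by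
    rw [SubmonoidClass.coe_pow, pow_one]; exact hHpow _ a.2)⟩
  have htH : t ∈ H := by
    refine ⟨Subtype.ext ?_, fun x => hzmem _ ?_⟩
    · rw [ht, hgl₀.eq, mul_inv_cancel_right]
    · show (x : Ω)⁻¹ * (g * (x : Ω) * g⁻¹) ∈ zpowers l₀
      have h1 := hgmove x x.2
      obtain ⟨i, hi⟩ := h1
      refine ⟨i, ?_⟩
      have hc : Commute ((x : Ω)⁻¹) ⁅g, (x : Ω)⁆ := by
        have := congrArg Subtype.val (mul_comm (x⁻¹) (⟨⁅g, (x : Ω)⁆,
          hi ▸ zpow_mem hl₀E i⟩ : ↥E))
        exact this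
      have e : (x : Ω)⁻¹ * (g * (x : Ω) * g⁻¹) = (x : Ω)⁻¹ * ⁅g, (x : Ω)⁆ * x := by
        rw [conj_eq_comm_mul, mul_assoc]
      rw [e, hc.eq, inv_mul_cancel_right]
      exact hi
  have ht1 : t ≠ 1 := fun h => by
    refine hgE (hC ▸ ⟨hg.1, mem_centralizer_iff.2 fun x hx => ?_⟩)
    have h1 := ht ⟨x, hx⟩
    rw [h, one_smul] at h1
    exact (eq_mul_inv_iff_mul_eq.1 h1)
  have hto : orderOf t = p := orderOf_eq_prime (hHpow t htH) ht1
  -- the Sylow subgroup
  obtain ⟨R, hR⟩ := (fullyAutomized_of_fullyNormalized hS hF hE.2.1).2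
  have hRc : Nat.card ↥(R : Subgroup A) * p ^ 3 = Nat.card ↥N := by
    rw [hR, Nat.card_congr (subgroupOfEquivOfLe (autInducedBy_le_autGroup hES)).toEquiv, ← hcard]
    have := card_autInducedBy_mul S E
    rwa [hC] at this
  have htR : t ∈ (R : Subgroup A) := hR ▸ mem_subgroupOf.2 (range_conjAutHom S E ▸ ⟨_, rfl⟩)
  have hRle : Nat.card ↥(R : Subgroup A) ≤ p := by
    letI : DistribMulAction A (Additive ↥E) :=
      { smul := fun a v => Additive.ofMul (a • Additive.toMul v)
        one_smul := fun v => congrArg Additive.ofMul (one_smul A _)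
        mul_smul := fun a b v => congrArg Additive.ofMul (mul_smul a b _)
        smul_zero := fun a => congrArg Additive.ofMul (smul_one a)
        smul_add := fun a v w => congrArg Additive.ofMul (smul_mul' a _ _) }
    have hsm : ∀ (a : A) (v : Additive ↥E), a • v = Additive.ofMul (a • Additive.toMul v) :=
      fun _ _ => rfl
    have hoff : FFSL2.Offender (Additive ↥E) p (zpowers t) := by
      refine ⟨hHp.to_le (zpowers_le.2 htH), by rwa [Ne, zpowers_eq_bot], fun a ha v b hb => ?_, ?_⟩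
      · obtain ⟨i, hi⟩ := (zpowers_le.2 htH ha : a ∈ H).2 (Additive.toMul v)
        have hb' : b • l = l := (zpowers_le.2 htH hb : b ∈ H).1
        have e1 : a • v - v = Additive.ofMul (l ^ i) := by
          rw [show (l ^ i : ↥E) = (Additive.toMul v)⁻¹ * a • Additive.toMul v from hi, hsm,
            mul_comm, ofMul_mul, ofMul_inv, ofMul_toMul, sub_eq_add_neg]
        rw [e1, hsm]
        show Additive.ofMul (b • l ^ i) = _
        rw [smul_zpow', hb']
      · let δ : ↥E →* ↥E := MonoidHom.mk' (fun x => x⁻¹ * t • x) fun x y => by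
          rw [smul_mul', mul_inv, mul_mul_mul_comm]
        have h1 := card_mul_index δ.ker
        rw [index_ker, hcard] at h1
        have h2 : Nat.card ↥δ.range ≤ p := by
          refine (Subgroup.card_le_of_le (show δ.range ≤ zpowers l from ?_)).trans ?_
          · rintro _ ⟨x, rfl⟩
            exact htH.2 x
          · rw [Nat.card_zpowers, hlo]
        have h3 : Nat.card ↥δ.ker ≤ Nat.card ↥(FFSL2.fix (zpowers t) : AddSubgroup (Additive ↥E)) := by
          refine Nat.card_le_card_of_injective (fun x => ⟨Additive.ofMul (x : ↥E), ?_⟩) ?_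
          · intro a ha
            rw [hsm]
            refine congrArg Additive.ofMul ?_
            show a • (x : ↥E) = x
            exact (zpowers_le.2 (show t ∈ MulAction.stabilizer A (x : ↥E) from
              (inv_mul_eq_one.1 (MonoidHom.mem_ker.1 x.2)).symm)) ha
          · intro x y h
            exact Subtype.ext (Additive.ofMul.injective (congrArg Subtype.val h :))
        rw [Nat.card_congr Additive.toMul, hcard, Nat.card_zpowers, hto, ← h1, mul_comm p]
        exact Nat.mul_le_mul h3 h2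
    refine (card_le_offender hX (fun a h => hfaith a fun x => congrArg Additive.toMul
      (h (Additive.ofMul x))) (fun v => ?_) hoff R.isPGroup').trans_eq ?_
    · show Additive.ofMul (Additive.toMul v ^ p) = _
      rw [show Additive.toMul v ^ p = 1 from Subtype.ext (hexp _ (Subtype.mem _))]
      rfl
    · rw [Nat.card_zpowers, hto]
  have hzR : zpowers t = (R : Subgroup A) := Subgroup.eq_of_le_of_card_ge (zpowers_le.2 htR)
    (by rwa [Nat.card_zpowers, hto])
  have hN4 : Nat.card ↥N = p ^ 4 := by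
    rw [← hRc, ← hzR, Nat.card_zpowers, hto, pow_succ' p 3]
  have hRH : (R : Subgroup A) ≤ H := hzR ▸ zpowers_le.2 htH
  have hHR : H = (R : Subgroup A) := R.is_maximal' hHp hRH
  obtain ⟨a₁, ha₁⟩ : ∃ a : A, a • l ∉ zpowers l := by
    by_contra! hc
    refine (Fusion91.autGroup_of_essential_abelian hE hab).2 R ?_
    rw [← hHR]
    refine ⟨fun r hr a => ⟨?_, fun x => ?_⟩⟩
    · obtain ⟨i, hi⟩ := hc a⁻¹
      have hi' : r • (a⁻¹ • l) = a⁻¹ • l := by
        rw [← hi]
        show r • l ^ i = l ^ i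
        rw [smul_zpow', hr.1]
      rw [mul_smul, mul_smul, hi', smul_inv_smul]
    · have h1 := Fusion91.smul_zpowers (g := a) (hr.2 (a⁻¹ • x))
      rw [smul_mul', smul_inv', smul_inv_smul, ← mul_smul, ← mul_smul] at h1
      exact zpowers_le.2 (hc a) h1
  obtain ⟨c, hc⟩ := FFSL2.exists_le_cj hX R.isPGroup'
  have hM : Cfsg.IsStronglyPEmbedded p (FFSL2.cj c X) := spe_map (MulAut.conj c) hX
  let fixed : Subgroup ↥E :=
    { carrier := {x | ∀ r ∈ (R : Subgroup A), r • x = x}
      one_mem' := fun r _ => smul_one r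
      mul_mem' := fun {x y} hx hy r hr => by rw [smul_mul', hx r hr, hy r hr]
      inv_mem' := fun {x} hx r hr => by rw [smul_inv', hx r hr] }
  let T : Fusion91.Transvection p A ↥E :=
    { R := R, l := l, faith := hfaith
      ne := fun h => ht1 (mem_bot.1 (h ▸ htR))
      order := hlo
      move := fun r hr x => (hRH hr).2 x
      fix := fun r hr => (hRH hr).1
      fixed := fixed
      mem_fixed := fun x => Iff.rfl
      g := a₁, hg := ha₁
      M := FFSL2.cj c X, le := hc, ne_top := hM.2.1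
      emb := LocalEven61.normalizersLE_of_spe hM }
  have hfixc : Nat.card ↥fixed = p ^ 2 := by
    let δ : ↥E →* ↥E := MonoidHom.mk' (fun x => x⁻¹ * t • x) fun x y => by
      rw [smul_mul', mul_inv, mul_mul_mul_comm]
    have hker : δ.ker = fixed := by
      ext x
      rw [MonoidHom.mem_ker]
      refine ⟨fun h r hr => ?_, fun h => inv_mul_eq_one.2 (h t htR).symm⟩
      exact (zpowers_le.2 (show t ∈ MulAction.stabilizer A x from (inv_mul_eq_one.1 h).symm))
        (hzR.ge hr)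
    have h1 := card_mul_index δ.ker
    rw [index_ker, hcard, hker] at h1
    have h2 : δ.range ≤ zpowers l := by
      rintro _ ⟨x, rfl⟩
      exact htH.2 x
    have hne : δ.range ≠ ⊥ := fun hb => ht1 (hfaith t fun x =>
      (inv_mul_eq_one.1 (mem_bot.1 (hb ▸ ⟨x, rfl⟩ : x⁻¹ * t • x ∈ (⊥ : Subgroup ↥E)))).symm)
    have h3 := card_eq_prime_of_le ((IsPGroup.of_card hcard).to_subgroup δ.range) hne
      ((Subgroup.card_le_of_le h2).trans (by rw [Nat.card_zpowers, hlo]))
    rw [h3] at h1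
    exact Nat.eq_of_mul_eq_mul_right hp.out.pos (by rw [h1, pow_succ p 2])
  obtain ⟨σ, hσl, hσmove, hσc, ⟨x₁, hx₁, hx₁ne, hσx₁⟩, -⟩ := T.exists_invariant hodd hfixc
  -- extend to the normalizer
  have hiso := (mem_autGroup hES).1 σ.2
  have hsm : ∀ x : ↥E, autFun (σ : MulAut E) (x : Ω) = ((σ • x : ↥E) : Ω) := fun x => autFun_coe _ x
  have hext : IsExtendable S E (autFun (σ : MulAut E)) N := by
    refine ⟨inf_le_left, fun h hh => ⟨hh.2, h, hh.1, fun x hx => ?_⟩⟩
    let c : A := ⟨conjAutHom S E ⟨h, hh⟩, autInducedBy_le_autGroup hES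
      (range_conjAutHom S E ▸ ⟨_, rfl⟩)⟩
    have hcR : c ∈ (R : Subgroup A) := hR ▸ mem_subgroupOf.2 (range_conjAutHom S E ▸ ⟨_, rfl⟩)
    have e1 := congrArg (fun a : A => ((a • (⟨x, hx⟩ : ↥E) : ↥E) : Ω)) (hσc c hcR)
    simp only [mul_smul] at e1
    rw [← hsm] at e1
    rw [hsm ⟨x, hx⟩]
    exact e1
  obtain ⟨f, hf, hfe⟩ := receptive_extend
    (receptive_of_fullyCentralized hS hF (fullyCentralized_of_fullyNormalized hS hF hE.2.1))
    hiso hext
  rw [sup_eq_right.2 hEN] at hf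
  have him : f '' (E : Set Ω) = (E : Set Ω) := (Set.image_congr hfe).trans hiso.2
  have hfN : ∀ x ∈ N, f x ∈ N := fun x hx => map_mem_normalizer hf hEN him hx hx.2
  have hfiso : IsIso F N N f := ⟨hf, Set.Subset.antisymm (by
    rintro _ ⟨x, hx, rfl⟩
    exact hfN x hx) fun y hy => surjOn_of_card_le inf_le_left hf.injOn hfN le_rfl y hy⟩
  have hfsm : ∀ x : ↥E, f (x : Ω) = ((σ • x : ↥E) : Ω) := fun x => (hfe x.2).trans (hsm x)
  set L := fixed.map E.subtype with hLdef
  have hLle : L ≤ E := map_subtype_le _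
  have hLiff : ∀ x ∈ E, (x ∈ L ↔ ∀ h ∈ N, Commute h x) := by
    intro x hx
    constructor
    · rintro ⟨y, hy, rfl⟩ h hh
      let c : A := ⟨conjAutHom S E ⟨h, hh⟩, autInducedBy_le_autGroup hES
        (range_conjAutHom S E ▸ ⟨_, rfl⟩)⟩
      have hcR : c ∈ (R : Subgroup A) := hR ▸ mem_subgroupOf.2 (range_conjAutHom S E ▸ ⟨_, rfl⟩)
      exact mul_inv_eq_iff_eq_mul.1 (congrArg Subtype.val (hy c hcR))
    · intro hcomm
      refine ⟨⟨x, hx⟩, fun r hr => ?_, rfl⟩
      have h1 : t • (⟨x, hx⟩ : ↥E) = ⟨x, hx⟩ := Subtype.ext (by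
        rw [ht]
        exact mul_inv_eq_iff_eq_mul.2 (hcomm g hg).eq)
      exact (zpowers_le.2 (show t ∈ MulAction.stabilizer A (⟨x, hx⟩ : ↥E) from h1)) (hzR.ge hr)
  have hmove : ∀ h ∈ N, ∀ e ∈ E, ⁅h, e⁆ ∈ zpowers l₀ := by
    intro h hh e he
    let c : A := ⟨conjAutHom S E ⟨h, hh⟩, autInducedBy_le_autGroup hES
      (range_conjAutHom S E ▸ ⟨_, rfl⟩)⟩
    have hcR : c ∈ (R : Subgroup A) := hR ▸ mem_subgroupOf.2 (range_conjAutHom S E ▸ ⟨_, rfl⟩)
    obtain ⟨i, hi⟩ := (hRH hcR).2 ⟨e, he⟩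
    refine ⟨i, ?_⟩
    have hi' : (l₀ : Ω) ^ i = e⁻¹ * (h * e * h⁻¹) := congrArg Subtype.val hi
    have hc' : Commute e⁻¹ (l₀ ^ i) := by
      have := congrArg Subtype.val (mul_comm ((⟨e, he⟩ : ↥E))⁻¹ (l ^ i))
      exact this
    show l₀ ^ i = ⁅h, e⁆
    have e2 : e * l₀ ^ i = h * e * h⁻¹ := by rw [hi', mul_inv_cancel_left]
    rw [commutatorElement_def, ← e2, (Commute.inv_left_iff.1 hc').eq]
    group
  have hfE : ∀ h ∈ N, f h * h⁻¹ ∈ E := by
    intro h hh
    have hfh := hfN h hh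
    have hz : h⁻¹ * f h ∈ E := by
      refine hC ▸ ⟨S.mul_mem (S.inv_mem ((inf_le_left : N ≤ S) hh))
          ((inf_le_left : N ≤ S) hfh), mem_centralizer_iff.2 fun y hy => ?_⟩
      have hy' : y ∈ f '' (E : Set Ω) := by rw [him]; exact hy
      obtain ⟨x, hx, rfl⟩ := hy'
      let c : A := ⟨conjAutHom S E ⟨h, hh⟩, autInducedBy_le_autGroup hES
        (range_conjAutHom S E ▸ ⟨_, rfl⟩)⟩
      have hcR : c ∈ (R : Subgroup A) := hR ▸ mem_subgroupOf.2 (range_conjAutHom S E ▸ ⟨_, rfl⟩)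
      have e1 := congrArg (fun a : A => ((a • (⟨x, hx⟩ : ↥E) : ↥E) : Ω)) (hσc c hcR)
      simp only [mul_smul] at e1
      rw [← hfsm] at e1
      have e2 : f (h * x * h⁻¹) = h * f x * h⁻¹ := by
        rw [hfsm ⟨x, hx⟩]
        exact e1
      rw [hf.map_conj hh (hEN hx)] at e2
      calc f x * (h⁻¹ * f h) = h⁻¹ * (h * f x * h⁻¹) * f h := by group
        _ = h⁻¹ * (f h * f x * (f h)⁻¹) * f h := by rw [e2]
        _ = h⁻¹ * f h * f x := by group
    have e3 : f h * h⁻¹ = h * (h⁻¹ * f h) * h⁻¹ := by group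
    rw [e3]
    exact (mem_normalizer_iff.1 hh.2 _).1 hz
  refine ⟨f, L, l₀, (x₁ : Ω), ⟨hN4, hfiso, him, hLle, hLiff,
    (card_map_of_injective E.subtype_injective).trans hfixc, ⟨l, T.l_mem_fixed, rfl⟩, hl₀, hmove,
    ?_, ⟨x₁, hx₁, rfl⟩, fun h => hx₁ne (Subtype.ext h), ?_, ?_, ?_⟩⟩
  · rw [hfsm l, hσl]
    rfl
  · rw [hfsm x₁, hσx₁]
  · exact hfE
  · intro e he
    have hfeE : f e ∈ E := by
      rw [hfsm ⟨e, he⟩]
      exact Subtype.mem _
    refine (hLiff _ (mul_mem hfeE he)).2 fun h hh => ?_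
    obtain ⟨i, hi⟩ := hmove h hh e he
    have hfh := hfN h hh
    obtain ⟨d, hd, hfd⟩ : ∃ d ∈ E, f h = d * h := by
      exact ⟨f h * h⁻¹, hfE h hh, by group⟩
    have hl₀N : l₀ ∈ N := hEN hl₀E
    have e1 : h * e * h⁻¹ = l₀ ^ i * e := by
      have hi' : l₀ ^ i = ⁅h, e⁆ := hi
      rw [hi', ← conj_eq_comm_mul]
    have hfl : f l₀ = l₀⁻¹ := by rw [show l₀ = ((l : ↥E) : Ω) from rfl, hfsm l, hσl]; rfl
    let ψ : ↥N →* Ω := MonoidHom.mk' (fun x => f x) fun x y => hf.map_mul x.2 y.2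
    have hfpow : f (l₀ ^ i) = (l₀⁻¹) ^ i := by
      rw [← hfl]
      exact map_zpow ψ ⟨l₀, hl₀N⟩ i
    have e2 : f h * f e * (f h)⁻¹ = (l₀⁻¹) ^ i * f e := by
      rw [← hf.map_conj hh (hEN he), e1, hf.map_mul (zpow_mem hl₀N i) (hEN he), hfpow]
    have hde : d * (h * f e * h⁻¹) * d⁻¹ = h * f e * h⁻¹ := by
      have := congrArg Subtype.val (mul_comm (⟨d, hd⟩ : ↥E)
        ⟨h * f e * h⁻¹, (mem_normalizer_iff.1 hh.2 _).1 hfeE⟩)
      simp only [Subgroup.coe_mul] at this
      rw [this, mul_inv_cancel_right]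
    rw [hfd] at e2
    have e3 : h * f e * h⁻¹ = (l₀⁻¹) ^ i * f e := by
      rw [← hde, ← e2]
      group
    refine mul_inv_eq_iff_eq_mul.1 ?_
    calc h * (f e * e) * h⁻¹ = (h * f e * h⁻¹) * (h * e * h⁻¹) := by group
      _ = ((l₀⁻¹) ^ i * f e) * (l₀ ^ i * e) := by rw [e3, e1]
      _ = f e * e := by
        have := congrArg Subtype.val (mul_mul_mul_comm ((l ^ i)⁻¹) ⟨f e, hfeE⟩ (l ^ i) ⟨e, he⟩)
        simp only [Subgroup.coe_mul, InvMemClass.coe_inv, SubgroupClass.coe_zpow, inv_mul_cancel,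
          one_mul, hl] at this
        rw [inv_zpow]
        exact this

end Cfsg.Agent.MaxEss41
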