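import Cfsg.Agent.MaxEss41.TwoStep
import Cfsg.Agent.S3806
import Cfsg.Agent.Lib.Fusion.Aut
import Cfsg.Agent.PLocalB.Replacement

/-!
The lower central series of a `p`-group of maximal class inside an ambient group, and a count of the
conjugates of a subgroup inside a larger one.
-/

set_option autoImplicit false
set_option linter.unusedSectionVars false
set_option linter.style.haveILetI false

namespace Cfsg.Agent.MaxEss41

open Subgroup FG38 FG72.MaxClass
open Cfsg.FusionSystem (normalizerIn centralizerIn)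
open scoped commutatorElement

variable {Ω : Type*} [Group Ω]

/-- The terms of the lower central series of `S`, numbered from one. -/
def gam (S : Subgroup Ω) (i : ℕ) : Subgroup Ω := (filt ↥S i).map S.subtype

variable {S : Subgroup Ω}

theorem gam_le (i : ℕ) : gam S i ≤ S := map_subtype_le _

theorem coe_mem_gam {i : ℕ} {x : ↥S} : (x : Ω) ∈ gam S i ↔ x ∈ filt ↥S i := by
  constructor
  · rintro ⟨y, hy, e⟩
    rwa [← Subtype.ext e]
  · exact fun h => ⟨x, h, rfl⟩

theorem gam_antitone {i j : ℕ} (h : i ≤ j) : gam S j ≤ gam S i := map_mono (filt_antitone h)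

theorem mem_gam_one {x : Ω} (hx : x ∈ S) : x ∈ gam S 1 :=
  (coe_mem_gam (x := ⟨x, hx⟩)).2 (mem_top _)

theorem gam_comm {i j : ℕ} {x y : Ω} (hx : x ∈ gam S i) (hy : y ∈ gam S j) :
    ⁅x, y⁆ ∈ gam S (i + j) := by
  obtain ⟨a, ha, rfl⟩ := hx
  obtain ⟨b, hb, rfl⟩ := hy
  exact ⟨⁅a, b⁆, filt_commutator i j (commutator_mem_commutator ha hb), map_commutatorElement _ _ _⟩

theorem gam_comm_one {i : ℕ} {x y : Ω} (hx : x ∈ S) (hy : y ∈ gam S i) : ⁅x, y⁆ ∈ gam S (i + 1) := by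
  have := gam_comm (mem_gam_one hx) hy
  rwa [add_comm 1 i] at this

theorem gam_conj {i : ℕ} {g x : Ω} (hg : g ∈ S) (hx : x ∈ gam S i) : g * x * g⁻¹ ∈ gam S i := by
  obtain ⟨a, ha, rfl⟩ := hx
  exact ⟨⟨g, hg⟩ * a * (⟨g, hg⟩ : ↥S)⁻¹, (filt_normal i).conj_mem a ha _, by simp⟩

theorem gam_le_normalizer {i : ℕ} : S ≤ normalizer (gam S i : Set Ω) := fun g hg => by
  refine mem_normalizer_iff.2 fun x => ⟨fun hx => gam_conj hg hx, fun hx => ?_⟩
  have := gam_conj (inv_mem hg) hx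
  simpa [mul_assoc] using this

/-- Membership in a normalizer from one inclusion, in the finite case. -/
theorem mem_normalizer_of_conj {H : Subgroup Ω} [Finite H] {g : Ω}
    (h : ∀ x ∈ H, g * x * g⁻¹ ∈ H) : g ∈ normalizer (H : Set Ω) := by
  refine mem_normalizer_iff.2 fun x => ⟨fun hx => h x hx, fun hx => ?_⟩
  have hi : Function.Injective fun y : ↥H => (⟨g * y * g⁻¹, h y y.2⟩ : ↥H) := fun a b e =>
    Subtype.ext (mul_left_cancel (mul_right_cancel (congrArg Subtype.val e :)))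
  obtain ⟨y, hy⟩ := Finite.surjective_of_injective hi ⟨_, hx⟩
  have e : (y : Ω) = x := mul_left_cancel (mul_right_cancel (congrArg Subtype.val hy :))
  exact e ▸ y.2

theorem conj_eq_comm_mul (g x : Ω) : g * x * g⁻¹ = ⁅g, x⁆ * x := by
  simp [commutatorElement_def, mul_assoc]

section Card

variable {p n : ℕ} [hp : Fact p.Prime] [Finite ↥S] (h : MaxCl p n ↥S)
include h

theorem card_gam {i : ℕ} (hi : 2 ≤ i) (hin : i ≤ n) : Nat.card ↥(gam S i) = p ^ (n - i) := by
  rw [gam, card_map_of_injective S.subtype_injective, h.layer i hi hin]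

theorem gam_n : gam S n = ⊥ := by rw [gam, h.filt_n, Subgroup.map_bot]

theorem gam_commute {i j : ℕ} (hij : n ≤ i + j) {x y : Ω} (hx : x ∈ gam S i) (hy : y ∈ gam S j) :
    Commute x y := by
  rw [← commutatorElement_eq_one_iff_commute]
  have := gam_antitone hij (gam_comm hx hy)
  rwa [gam_n h, mem_bot] at this

theorem exists_gam_not {i : ℕ} (hi : 2 ≤ i) (hin : i + 1 ≤ n) :
    ∃ v ∈ gam S i, v ∉ gam S (i + 1) := by
  obtain ⟨v, hv, hv'⟩ := h.exists_not_mem_succ hi hin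
  exact ⟨v, coe_mem_gam.2 hv, fun h' => hv' (coe_mem_gam.1 h')⟩

end Card

theorem maxCl_of_lcs {p n : ℕ} [Fact p.Prime] [Finite ↥S] (hS : IsPGroup p ↥S)
    (hn : Nat.card ↥S = p ^ n) (h3 : 3 ≤ n)
    (hmax : Subgroup.lowerCentralSeries S (n - 2) ≠ ⊥) : MaxCl p n ↥S := by
  have hne : ∀ i, i < n - 1 → (⊤ : Subgroup ↥S).lowerCentralSeries i ≠ ⊥ := by
    intro i hi he
    refine hmax ?_
    have e := Subgroup.map_lowerCentralSeries (⊤ : Subgroup ↥S) S.subtype (n - 2)
    rw [← MonoidHom.range_eq_map, range_subtype] at e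
    rw [← e, le_bot_iff.1 ((Subgroup.lowerCentralSeries_antitone ⊤ (show i ≤ n - 2 by omega)).trans_eq he),
      Subgroup.map_bot]
  have hbot : (⊤ : Subgroup ↥S).lowerCentralSeries (n - 1) = ⊥ := by
    by_contra hc
    have h1 := PLocalB.index_lowerCentralSeries_ge hS (n - 1) (by omega) hc
    have h2 := card_mul_index ((⊤ : Subgroup ↥S).lowerCentralSeries (n - 1))
    rw [hn] at h2
    have h4 : p ^ n ≤ ((⊤ : Subgroup ↥S).lowerCentralSeries (n - 1)).index := by
      rwa [show n - 1 + 1 = n by omega] at h1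
    have h5 : 1 < Nat.card ↥((⊤ : Subgroup ↥S).lowerCentralSeries (n - 1)) :=
      (one_lt_card_iff_ne_bot _).2 hc
    have h6 : 0 < p ^ n := pow_pos (Fact.out : p.Prime).pos _
    nlinarith
  refine ⟨hn, h3, fun i hi hin => ?_⟩
  rw [show n - i = n - 1 - (i - 1) by omega]
  exact S3806.card_lcs hS (n - 1) (by rw [hn, show n - 1 + 1 = n by omega]) hne hbot (i - 1)
    (by omega) (by omega)

section Orbit

variable {p : ℕ} [hp : Fact p.Prime]

theorem eq_of_inter_lt {A B L : Subgroup Ω} [Finite A] [Finite B] {l : ℕ}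
    (hA : Nat.card ↥A = p ^ (l + 1)) (hB : Nat.card ↥B = p ^ (l + 1)) (hL : Nat.card ↥L = p ^ l)
    (hLA : L ≤ A) (hLB : L ≤ B) {x : Ω} (hxA : x ∈ A) (hxB : x ∈ B) (hxL : x ∉ L) : A = B := by
  haveI : Finite ↥(A ⊓ B : Subgroup Ω) := Nat.finite_of_card_ne_zero
    (fun h0 => by
      have := Subgroup.card_dvd_of_le (inf_le_left : A ⊓ B ≤ A)
      rw [h0, zero_dvd_iff, hA] at this
      exact (pow_pos hp.out.pos _).ne' this)
  obtain ⟨k, hk, hkc⟩ := (Nat.dvd_prime_pow hp.out).1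
    (hA ▸ Subgroup.card_dvd_of_le (inf_le_left : A ⊓ B ≤ A))
  have hlt : Nat.card ↥L < Nat.card ↥(A ⊓ B : Subgroup Ω) := by
    refine lt_of_le_of_ne (Subgroup.card_le_of_le (le_inf hLA hLB)) fun he => hxL ?_
    rw [Subgroup.eq_of_le_of_card_ge (le_inf hLA hLB) he.ge]
    exact ⟨hxA, hxB⟩
  rw [hL, hkc] at hlt
  have := (Nat.pow_lt_pow_iff_right hp.out.one_lt).1 hlt
  obtain rfl : k = l + 1 := by omega
  exact (Subgroup.eq_of_le_of_card_ge inf_le_left (hA.trans hkc.symm).le).symm.trans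
    (Subgroup.eq_of_le_of_card_ge inf_le_right (hB.trans hkc.symm).le)

theorem inf_eq_of_not_le {A V L : Subgroup Ω} [Finite A] {l : ℕ} (hA : Nat.card ↥A = p ^ (l + 1))
    (hL : Nat.card ↥L = p ^ l) (hLA : L ≤ A) (hLV : L ≤ V) (hne : ¬ A ≤ V) : A ⊓ V = L := by
  haveI : Finite ↥(A ⊓ V : Subgroup Ω) :=
    Finite.of_injective _ (Subgroup.inclusion_injective (inf_le_left : A ⊓ V ≤ A))
  refine (Subgroup.eq_of_le_of_card_ge (le_inf hLA hLV) ?_).symm
  obtain ⟨k, hk, hkc⟩ := (Nat.dvd_prime_pow hp.out).1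
    (hA ▸ Subgroup.card_dvd_of_le (inf_le_left : A ⊓ V ≤ A))
  rw [hkc, hL]
  refine Nat.pow_le_pow_right hp.out.pos ?_
  by_contra hk'
  obtain rfl : k = l + 1 := by omega
  exact hne ((Subgroup.eq_of_le_of_card_ge inf_le_left (hA.trans hkc.symm).le).symm.le.trans
    inf_le_right)

theorem diff_ncard {A B : Subgroup Ω} [Finite A] :
    ((A : Set Ω) \ (B : Set Ω)).ncard = Nat.card ↥A - Nat.card ↥(A ⊓ B : Subgroup Ω) := by
  haveI : Finite (A : Set Ω) := ‹Finite A›
  rw [← Set.diff_self_inter, Set.ncard_diff (Set.inter_subset_left)]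
  rfl

/-- The conjugates of `E` under `M` inside `U` meet the fixed maximal subgroup `V` in `L`; hence
their number is bounded, and when the bound is attained they cover `U` outside `V`. -/
theorem orbit_count {U V L E M : Subgroup Ω} [Finite U] [Finite M] {l m : ℕ}
    (hEU : E ≤ U) (hVU : V ≤ U) (hinf : E ⊓ V = L)
    (hE : Nat.card ↥E = p ^ (l + 1)) (hL : Nat.card ↥L = p ^ l)
    (hU : Nat.card ↥U = p ^ (m + 1)) (hV : Nat.card ↥V = p ^ m)
    (hMU : M ≤ normalizer (U : Set Ω)) (hMV : M ≤ normalizer (V : Set Ω))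
    (hML : M ≤ normalizer (L : Set Ω)) :
    Nat.card ↥M ≤ p ^ (m - l) * Nat.card ↥(M ⊓ normalizer (E : Set Ω) : Subgroup Ω) ∧
      (p ^ (m - l) * Nat.card ↥(M ⊓ normalizer (E : Set Ω) : Subgroup Ω) ≤ Nat.card ↥M →
        ∀ x ∈ U, x ∉ V → ∃ g ∈ M, g⁻¹ * x * g ∈ E) := by
  classical
  have hp1 := hp.out.one_lt
  haveI : Finite E := Finite.of_injective _ (Subgroup.inclusion_injective hEU)
  have hLV : L ≤ V := hinf ▸ inf_le_right
  have hLE : L ≤ E := hinf ▸ inf_le_left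
  haveI : Finite V := Finite.of_injective _ (Subgroup.inclusion_injective hVU)
  have hlm : l ≤ m := by
    have := Subgroup.card_le_of_le hLV
    rw [hL, hV] at this
    exact (Nat.pow_le_pow_iff_right hp1).1 this
  set K := (normalizer (E : Set Ω)).subgroupOf M with hK
  let D : Set Ω := (E : Set Ω) \ (V : Set Ω)
  let D' : Set Ω := (U : Set Ω) \ (V : Set Ω)
  have hDfin : D.Finite := Set.Finite.subset (Set.toFinite (E : Set Ω)) Set.diff_subset
  have hD'fin : D'.Finite := Set.Finite.subset (Set.toFinite (U : Set Ω)) Set.diff_subset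
  haveI := hDfin.to_subtype
  haveI := hD'fin.to_subtype
  have hmem : ∀ (g : ↥M) (y : Ω), y ∈ D → (g : Ω) * y * (g : Ω)⁻¹ ∈ D' := fun g y hy =>
    ⟨(mem_normalizer_iff.1 (hMU g.2) y).1 (hEU hy.1),
      fun hc => hy.2 ((mem_normalizer_iff.1 (hMV g.2) y).2 hc)⟩
  let f : (↥M ⧸ K) × D → D' := fun q =>
    ⟨(q.1.out : Ω) * (q.2 : Ω) * (q.1.out : Ω)⁻¹, hmem _ _ q.2.2⟩
  have hf : Function.Injective f := by
    rintro ⟨q, ⟨y, hy⟩⟩ ⟨q', ⟨y', hy'⟩⟩ e
    have e' : (q.out : Ω) * y * (q.out : Ω)⁻¹ = (q'.out : Ω) * y' * (q'.out : Ω)⁻¹ :=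
      congrArg Subtype.val e
    set g : ↥M := q'.out⁻¹ * q.out with hgdef
    have e'' : (g : Ω) * y * (g : Ω)⁻¹ = y' := by
      simp only [hgdef, Subgroup.coe_mul, InvMemClass.coe_inv, _root_.mul_inv_rev, inv_inv]
      calc _ = (q'.out : Ω)⁻¹ * ((q.out : Ω) * y * (q.out : Ω)⁻¹) * q'.out := by group
        _ = _ := by rw [e']; group
    have hgE : E.map (MulAut.conj (g : Ω)).toMonoidHom = E := by
      haveI : Finite ↥(E.map (MulAut.conj (g : Ω)).toMonoidHom) := Nat.finite_of_card_ne_zero (by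
        rw [card_map_of_injective (MulAut.conj (g : Ω)).injective, hE]
        exact (pow_pos hp.out.pos _).ne')
      refine eq_of_inter_lt (L := L) (x := y') ?_ hE hL ?_ hLE ⟨y, hy.1, e''⟩ hy'.1
        (fun hc => hy'.2 (hLV hc))
      · rw [card_map_of_injective (MulAut.conj (g : Ω)).injective, hE]
      · intro z hz
        refine ⟨(g : Ω)⁻¹ * z * g, hLE ?_, by simp [mul_assoc]⟩
        have := (mem_normalizer_iff.1 (hML (inv_mem g.2)) z).1 hz
        simpa using this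
    have hgK : g ∈ K := by
      haveI : Finite E := inferInstance
      exact mem_subgroupOf.2 (mem_normalizer_of_conj fun z hz => hgE.le ⟨z, hz, rfl⟩)
    have hq : q = q' := by
      rw [← QuotientGroup.out_eq' q, ← QuotientGroup.out_eq' q']
      exact (QuotientGroup.eq.2 (by rw [hgdef] at hgK; exact hgK)).symm
    subst hq
    have : y = y' := mul_left_cancel (mul_right_cancel e')
    subst this
    rfl
  have hcD : Nat.card D = p ^ l * (p - 1) := by
    rw [Nat.card_coe_set_eq, diff_ncard, hinf, hE, hL, pow_succ, Nat.mul_sub, mul_one]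
  have hcD' : Nat.card D' = p ^ (m - l) * (p ^ l * (p - 1)) := by
    rw [Nat.card_coe_set_eq, diff_ncard, inf_eq_right.2 hVU, hU, hV, ← mul_assoc, ← pow_add,
      Nat.sub_add_cancel hlm, pow_succ, Nat.mul_sub, mul_one]
  have hpos : 0 < p ^ l * (p - 1) := Nat.mul_pos (pow_pos hp.out.pos _) (by omega)
  have hle := Nat.card_le_card_of_injective f hf
  rw [Nat.card_prod, hcD, hcD'] at hle
  have hidx : Nat.card (↥M ⧸ K) ≤ p ^ (m - l) := Nat.le_of_mul_le_mul_right hle hpos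
  have hKcard : Nat.card ↥K = Nat.card ↥(M ⊓ normalizer (E : Set Ω) : Subgroup Ω) := by
    rw [hK, ← inf_subgroupOf_left]
    exact Nat.card_congr (subgroupOfEquivOfLe (inf_le_left : M ⊓ normalizer (E : Set Ω) ≤ M)).toEquiv
  have hMK : Nat.card ↥M = Nat.card (↥M ⧸ K) * Nat.card ↥(M ⊓ normalizer (E : Set Ω) : Subgroup Ω) := by
    rw [card_eq_card_quotient_mul_card_subgroup K, hKcard]
  haveI : Finite ↥(M ⊓ normalizer (E : Set Ω) : Subgroup Ω) :=
    Finite.of_injective _ (Subgroup.inclusion_injective inf_le_left)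
  refine ⟨hMK.trans_le (Nat.mul_le_mul_right _ hidx), fun hge x hx hxV => ?_⟩
  have heq : Nat.card (↥M ⧸ K) = p ^ (m - l) :=
    le_antisymm hidx (Nat.le_of_mul_le_mul_right (hge.trans_eq hMK) Nat.card_pos)
  have hbij := hf.bijective_of_nat_card_le (by rw [Nat.card_prod, hcD, hcD', heq])
  obtain ⟨⟨q, ⟨y, hy⟩⟩, e⟩ := hbij.2 ⟨x, hx, hxV⟩
  refine ⟨(q.out : Ω), q.out.2, ?_⟩
  have e' : (q.out : Ω) * y * (q.out : Ω)⁻¹ = x := congrArg Subtype.val e
  rw [← e']
  simpa [mul_assoc] using hy.1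

end Orbit

end Cfsg.Agent.MaxEss41
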