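import Cfsg.Agent.Lib.Fusion.Saturation

/-!
An automorphism of the system preserving a series whose stabiliser contains `Aut_S(U)` extends to
the normalizer.
-/

set_option autoImplicit false
set_option linter.unusedSectionVars false
set_option linter.style.haveILetI false

namespace Cfsg.Agent.MaxEss41

open Subgroup
open Cfsg.Agent.Fusion
open Cfsg.FusionSystem (normalizerIn centralizerIn extender)

variable {Ω : Type*} [Group Ω] {p : ℕ} [hp : Fact p.Prime]

/-- The automorphisms acting trivially on the factors of a series. -/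
def seriesStab (U : Subgroup Ω) [Finite ↥U] (D : ℕ → Subgroup Ω) (k : ℕ) (hmono : Monotone D) :
    Subgroup (MulAut ↥U) :=
  let M : Submonoid (MulAut ↥U) :=
    { carrier := {a | ∀ i, i < k → ∀ x : ↥U, (x : Ω) ∈ D (i + 1) → ((x⁻¹ * a x : ↥U) : Ω) ∈ D i}
      one_mem' := fun i _ x _ => by simp
      mul_mem' := fun {a b} ha hb i hi x hx => by
        have h1 := hb i hi x hx
        have hbx : ((b x : ↥U) : Ω) ∈ D (i + 1) := by
          have := mul_mem hx (hmono (Nat.le_succ i) h1)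
          simpa using this
        have h2 := mul_mem h1 (ha i hi (b x) hbx)
        simpa [mul_assoc, MulAut.mul_apply] using h2 }
  haveI := finite_mulAut ↥U
  { M with
    inv_mem' := fun {a} ha => by
      have e : a⁻¹ = a ^ (orderOf a - 1) := by
        refine inv_eq_of_mul_eq_one_right ?_
        rw [← pow_succ', Nat.sub_add_cancel (orderOf_pos a), pow_orderOf_eq_one]
      show a⁻¹ ∈ M
      rw [e]
      exact pow_mem ha _ }

theorem mem_seriesStab {U : Subgroup Ω} [Finite ↥U] {D : ℕ → Subgroup Ω} {k : ℕ}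
    {hmono : Monotone D} {a : MulAut ↥U} :
    a ∈ seriesStab U D k hmono ↔
      ∀ i, i < k → ∀ x : ↥U, (x : Ω) ∈ D (i + 1) → ((x⁻¹ * a x : ↥U) : Ω) ∈ D i := Iff.rfl

theorem seriesStab_isPGroup {U : Subgroup Ω} [Finite ↥U] (hU : IsPGroup p ↥U) (D : ℕ → Subgroup Ω)
    (k : ℕ) (hmono : Monotone D) (h0 : D 0 = ⊥) (hk : U ≤ D k) :
    IsPGroup p ↥(seriesStab U D k hmono) := by
  haveI := finite_mulAut ↥U
  rintro ⟨a, ha⟩
  obtain ⟨e, m, hm, hem⟩ := Nat.exists_eq_pow_mul_and_not_dvd (orderOf_pos a).ne' p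
    hp.out.ne_one
  refine ⟨e, Subtype.ext ?_⟩
  show a ^ p ^ e = 1
  set b := a ^ p ^ e with hb
  have hbm : b ^ m = 1 := by rw [hb, ← pow_mul, ← hem, pow_orderOf_eq_one]
  have hbs : b ∈ seriesStab U D k hmono := pow_mem ha _
  have key : ∀ i, i ≤ k → ∀ x : ↥U, (x : Ω) ∈ D i → b x = x := by
    intro i
    induction i with
    | zero =>
      intro _ x hx
      rw [h0, mem_bot] at hx
      rw [show x = 1 from Subtype.ext hx, map_one]
    | succ i ih =>
      intro hi x hx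
      set d := x⁻¹ * b x with hd
      have hdfix : b d = d := ih (by omega) d (hbs i (by omega) x hx)
      have hit : ∀ j : ℕ, (b ^ j) x = x * d ^ j := by
        intro j
        induction j with
        | zero => simp
        | succ j ihj =>
          rw [pow_succ', MulAut.mul_apply, ihj, map_mul, map_pow, hdfix, pow_succ' d,
            ← mul_assoc x, hd, mul_inv_cancel_left]
      have h1 := hit m
      rw [hbm, MulAut.one_apply, left_eq_mul] at h1
      obtain ⟨j, hj⟩ := hU d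
      have hco : Nat.Coprime m (p ^ j) :=
        ((hp.out.coprime_iff_not_dvd.2 hm).symm).pow_right j
      have h2 := Nat.dvd_gcd (orderOf_dvd_of_pow_eq_one h1) (orderOf_dvd_of_pow_eq_one hj)
      rw [hco.gcd_eq_one, Nat.dvd_one, orderOf_eq_one_iff] at h2
      rw [hd] at h2
      exact (inv_mul_eq_one.1 h2).symm
  exact MulEquiv.ext fun x => key k le_rfl x (hk x.2)

variable {S : Subgroup Ω} {F : Cfsg.FusionSystem S}

/-- Extension along a series. -/
theorem extend_series [Finite ↥S] (hS : IsPGroup p ↥S) (hF : F.IsSaturated p) {U : Subgroup Ω}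
    (hU : F.IsFullyNormalized U) {f : Ω → Ω} (hf : IsIso F U U f) (D : ℕ → Subgroup Ω) (k : ℕ)
    (hmono : Monotone D) (h0 : D 0 = ⊥) (hk : D k = U) (hfD : ∀ i, i ≤ k → ∀ x ∈ D i, f x ∈ D i)
    (hstab : ∀ g ∈ normalizerIn S U, ∀ i, i < k → ∀ x ∈ D (i + 1), x⁻¹ * (g * x * g⁻¹) ∈ D i) :
    ∃ f', IsIso F (normalizerIn S U) (normalizerIn S U) f' ∧ Set.EqOn f' f (U : Set Ω) := by
  have hUS : U ≤ S := hU.1
  haveI : Finite ↥U := finite_of_le hUS
  set N := normalizerIn S U with hN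
  have hUN : U ≤ N := le_normalizerIn hUS
  set A := F.autGroup U with hA
  set Γ := seriesStab U D k hmono with hΓ
  obtain ⟨R, hR⟩ := (fullyAutomized_of_fullyNormalized hS hF hU).2
  have hRΓ : (R : Subgroup A) ≤ Γ.subgroupOf A := by
    intro a ha
    rw [hR, mem_subgroupOf, ← range_conjAutHom] at ha
    obtain ⟨g, hg⟩ := ha
    rw [mem_subgroupOf, hΓ, mem_seriesStab, ← hg]
    intro i hi x hx
    exact hstab g g.2 i hi x hx
  have hΓp : IsPGroup p ↥(Γ.subgroupOf A) :=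
    (seriesStab_isPGroup (hS.to_le hUS) D k hmono h0 hk.ge).comap_of_injective _
      A.subtype_injective
  have heq := R.is_maximal' hΓp hRΓ
  obtain ⟨τ, hτ, hτf⟩ := hf.exists_aut
  have hτx : ∀ x : ↥U, ((τ x : ↥U) : Ω) = f x := fun x => by rw [← hτf x.2, autFun_coe]
  have hτ' : ∀ x : ↥U, ((τ⁻¹ x : ↥U) : Ω) ∈ U ∧ f ((τ⁻¹ x : ↥U) : Ω) = x := fun x => by
    refine ⟨Subtype.mem _, ?_⟩
    rw [← hτx, show τ (τ⁻¹ x) = x from τ.apply_symm_apply x]
  have hsurj : ∀ i, i ≤ k → ∀ x : ↥U, (x : Ω) ∈ D i → ((τ⁻¹ x : ↥U) : Ω) ∈ D i := by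
    intro i hi x hx
    have hDU : D i ≤ U := (hmono hi).trans hk.le
    obtain ⟨y, hy, hyx⟩ := surjOn_of_card_le (hDU.trans hUS) (hf.1.injOn.mono hDU)
      (hfD i hi) le_rfl x hx
    have e : (τ⁻¹ x : ↥U) = ⟨y, hDU hy⟩ := by
      apply τ.injective
      rw [show τ (τ⁻¹ x) = x from τ.apply_symm_apply x]
      exact Subtype.ext (by rw [hτx]; exact hyx.symm)
    rw [e]
    exact hy
  have hext : IsExtendable S U f N := by
    refine ⟨inf_le_left, fun g hg => ⟨hg.2, ?_⟩⟩
    set a : MulAut ↥U := τ * conjAutHom S U ⟨g, hg⟩ * τ⁻¹ with ha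
    have haA : a ∈ A := mul_mem (mul_mem hτ
      (autInducedBy_le_autGroup hUS (range_conjAutHom S U ▸ ⟨_, rfl⟩))) (inv_mem hτ)
    have haΓ : a ∈ Γ := by
      rw [hΓ, mem_seriesStab]
      intro i hi x hx
      have hy := hsurj (i + 1) hi x hx
      set y := τ⁻¹ x with hydef
      have hd := hstab g hg i hi y hy
      have e : ((x⁻¹ * a x : ↥U) : Ω) = f ((y : Ω)⁻¹ * (g * (y : Ω) * g⁻¹)) := by
        have hm : g * (y : Ω) * g⁻¹ ∈ U := conj_mem_of_mem_normalizer hg.2 y.2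
        rw [hf.1.map_mul (inv_mem y.2) hm, hf.1.map_inv y.2, (hτ' x).2, Subgroup.coe_mul,
          InvMemClass.coe_inv]
        congr 1
        rw [ha, MulAut.mul_apply, MulAut.mul_apply, hτx]
        rfl
      rw [e]
      exact hfD i hi.le _ hd
    have haR : (⟨a, haA⟩ : A) ∈ (R : Subgroup A) := heq ▸ mem_subgroupOf.2 haΓ
    rw [hR, mem_subgroupOf, mem_autInducedBy] at haR
    obtain ⟨h, hh, hha⟩ := haR
    refine ⟨h, hh, fun x hx => ?_⟩
    have h1 : ((a (τ ⟨x, hx⟩) : ↥U) : Ω) = h * (τ ⟨x, hx⟩ : ↥U) * h⁻¹ := hha (τ ⟨x, hx⟩)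
    rw [ha, MulAut.mul_apply, MulAut.mul_apply,
      show τ⁻¹ (τ ⟨x, hx⟩) = ⟨x, hx⟩ from τ.symm_apply_apply _, hτx, hτx] at h1
    exact h1
  obtain ⟨f', hf', he⟩ := receptive_extend
    (receptive_of_fullyCentralized hS hF (fullyCentralized_of_fullyNormalized hS hF hU)) hf hext
  rw [sup_eq_right.2 hUN] at hf'
  have him : f' '' (U : Set Ω) = (U : Set Ω) := (Set.image_congr he).trans hf.2
  have hfN : ∀ x ∈ N, f' x ∈ N := fun x hx => map_mem_normalizer hf' hUN him hx hx.2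
  exact ⟨f', ⟨hf', Set.Subset.antisymm (by
    rintro _ ⟨x, hx, rfl⟩
    exact hfN x hx) fun y hy => surjOn_of_card_le inf_le_left hf'.injOn hfN le_rfl y hy⟩, he⟩

end Cfsg.Agent.MaxEss41
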