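import Cfsg.Agent.MaxEss41.Member
import Cfsg.Agent.MaxEss41.Automizer
import Cfsg.Agent.MaxEss41.Series

/-!
When all conjugates of the essential subgroup contain the second centre, the automorphism of the
normalizer climbs along the chain.
-/

set_option autoImplicit false
set_option linter.unusedSectionVars false
set_option linter.style.haveILetI false

namespace Cfsg.Agent.MaxEss41

open Subgroup FG38 FG72.MaxClass
open Cfsg.Agent.Fusion
open Cfsg.FusionSystem (normalizerIn centralizerIn)
open scoped commutatorElement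

variable {Ω : Type*} [Group Ω] {S : Subgroup Ω} {F : Cfsg.FusionSystem S} {p n : ℕ}
  [hp : Fact p.Prime] {E : Subgroup Ω}

/-- The situation to be refuted. -/
structure Ctx (F : Cfsg.FusionSystem S) (p n : ℕ) (E : Subgroup Ω) : Prop where
  five : 5 ≤ p
  hn : 5 ≤ n
  sat : F.IsSaturated p
  mc : MaxCl p n ↥S
  ess : F.IsEssential p E
  exp : ∀ x ∈ E, x ^ p = 1
  cand : ∀ E', F.IsConj E E' → Cand S p E'

variable [Finite ↥S]

namespace Ctx

variable (C : Ctx F p n E)
include C

theorem cand_self : Cand S p E := C.cand E (isConj_refl C.ess.1.1)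

theorem not_le_two {E' : Subgroup Ω} (hE' : F.IsConj E E') : ¬ E' ≤ gam S 2 := fun hle =>
  not_le_gam_two C.mc (C.cand E' hE') C.hn (le_gam_two_centre C.mc (C.cand E' hE') hle) hle

theorem exists_flip : ∃ f L l x0, Flip F p E f L l x0 :=
  MaxEss41.exists_flip C.mc.isPGroup C.sat (by have := C.five; omega)
    (by rw [C.mc.card]; exact Nat.pow_le_pow_right hp.out.pos C.hn) C.ess C.cand_self.card
    C.cand_self.comm C.exp C.cand_self.cent

variable (hall : ∀ E', F.IsConj E E' → gam S (n - 2) ≤ E')
include hall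

theorem centre_le : gam S (n - 2) ≤ E := hall E (isConj_refl C.ess.1.1)

theorem image_gam {m : ℕ} (hm : 3 ≤ m) (hmn : m + 2 ≤ n) {g : Ω → Ω}
    (hg : IsIso F (chainU S n E m) (chainU S n E m) g)
    (hg2 : ∀ x ∈ gam S (n - 2), g x ∈ gam S (n - 2)) :
    ∀ x ∈ gam S (n - m), g x ∈ gam S (n - m) := by
  have hZ := C.centre_le hall
  have c := C.cand_self
  have hn := C.hn
  intro x hx
  by_contra hout
  have hxU : x ∈ chainU S n E m := mem_sup_right hx
  have hx2 : x ∉ gam S (n - 2) := fun h2 => hout (gam_antitone (by omega) (hg2 x h2))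
  obtain ⟨a, ha, haE⟩ := cover C.mc c hn hZ hm hmn (hg.mem hxU) hout
  -- the conjugate through `g x`, pulled back
  have hconj : F.IsConj E (E.map (MulAut.conj a).toMonoidHom) :=
    IsIso.isConj (f := fun y => a * y * a⁻¹) ⟨isMap_conj c.le ha.1, rfl⟩
  have hle : E.map (MulAut.conj a).toMonoidHom ≤ chainU S n E m := by
    rintro _ ⟨y, hy, rfl⟩
    exact conj_mem_of_mem_normalizer ha.2 (mem_sup_left hy)
  obtain ⟨gi, hgi, hgil, -⟩ := hg.exists_inv
  obtain ⟨E₁, -, hE₁⟩ := hgi.restrict hle
  have hxE₁ : x ∈ E₁ := by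
    rw [← hgil x hxU]
    exact hE₁.mem ⟨a⁻¹ * g x * a, haE, by simp [mul_assoc]⟩
  have hc1 : F.IsConj E E₁ := isConj_trans hconj hE₁.isConj
  have c1 := C.cand E₁ hc1
  haveI : Finite E₁ := finite_of_le c1.le
  by_cases hle1 : E₁ ≤ gam S (n - m)
  · exact C.not_le_two hc1 (hle1.trans (gam_antitone (by omega)))
  · have := inf_eq_of_not_le (A := E₁) (V := gam S (n - m)) (L := gam S (n - 2)) (l := 2) c1.card
      (by rw [card_gam C.mc (by omega) (by omega), show n - (n - 2) = 2 by omega])
      (hall E₁ hc1) (gam_antitone (by omega)) hle1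
    exact hx2 (this.le ⟨hxE₁, hx⟩)

theorem fullyNormalized_chainU {m : ℕ} (hm : 2 ≤ m) (hmn : m + 2 ≤ n) :
    F.IsFullyNormalized (chainU S n E m) := by
  have c := C.cand_self
  refine ⟨chainU_le c.le m, fun Q hQ => ?_⟩
  obtain ⟨f, hf⟩ := isConj_iff.1 hQ
  obtain ⟨E', -, hE'⟩ := hf.restrict (show E ≤ chainU S n E m from le_sup_left)
  have c' := C.cand E' hE'.isConj
  have hZ' := hall E' hE'.isConj
  have e := transport C.mc c C.hn (C.centre_le hall) c' hZ' hmn hf.1 hE'.2 m hm le_rfl
  have hQe : Q = chainU S n E' m := SetLike.coe_injective (hf.2.symm.trans e)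
  rw [hQe, card_normalizer_chainU C.mc c' C.hn hZ' hm hmn,
    card_normalizer_chainU C.mc c C.hn (C.centre_le hall) hm hmn]

variable {f : Ω → Ω} {L : Subgroup Ω} {l x0 : Ω} (φ : Flip F p E f L l x0)
include φ

theorem flip_L : L = gam S (n - 2) := by
  have hZ := C.centre_le hall
  have c := C.cand_self
  have hn := C.hn
  haveI : Finite L := finite_of_le (φ.L_le.trans c.le)
  refine (Subgroup.eq_of_le_of_card_ge ?_ ?_).symm
  · intro z hz
    refine (φ.L_iff z (hZ hz)).2 fun g hg => ?_
    rw [normalizerIn_eq C.mc c hn hZ] at hg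
    have hle : chainU S n E 3 ≤ centralizer ({z} : Set Ω) := by
      refine sup_le (fun x hx => mem_centralizer_singleton_iff.2 ?_) fun x hx =>
        mem_centralizer_singleton_iff.2 ?_
      · exact congrArg Subtype.val (c.comm.is_comm.comm (⟨x, hx⟩ : ↥E) ⟨z, hZ hz⟩)
      · exact (gam_commute C.mc (by omega) hx hz).eq
    exact mem_centralizer_singleton_iff.1 (hle hg)
  · rw [φ.card_L, card_gam C.mc (by omega) (by omega), show n - (n - 2) = 2 by omega]

theorem flip_two : ∀ x ∈ gam S (n - 2), f x ∈ gam S (n - 2) := by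
  intro x hx
  have hL := C.flip_L hall φ
  rw [← hL] at hx ⊢
  have hfx : f x ∈ E := by
    have : f x ∈ f '' (E : Set Ω) := ⟨x, φ.L_le hx, rfl⟩
    rw [φ.image] at this
    exact this
  refine (φ.L_iff _ hfx).2 fun g hg => ?_
  obtain ⟨g', hg', rfl⟩ := φ.iso.exists_preimage hg
  have hxN : x ∈ normalizerIn S E := le_normalizerIn C.ess.1.1 (φ.L_le hx)
  show f g' * f x = f x * f g'
  rw [← φ.iso.1.map_mul hg' hxN, ← φ.iso.1.map_mul hxN hg',
    ((φ.L_iff x (φ.L_le hx)).1 hx g' hg').eq]

/-- The flip extends to every member of the chain. -/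
theorem climb : ∀ m, 3 ≤ m → m + 2 ≤ n →
    ∃ g, IsIso F (chainU S n E m) (chainU S n E m) g ∧
      Set.EqOn g f (normalizerIn S E : Set Ω) ∧
      ∀ i, 2 ≤ i → i ≤ m → ∀ x ∈ gam S (n - i), g x ∈ gam S (n - i) := by
  have hZ := C.centre_le hall
  have c := C.cand_self
  have hn := C.hn
  have hN := normalizerIn_eq C.mc c hn hZ
  intro m hm
  induction m, hm using Nat.le_induction with
  | base =>
    intro _
    have h3 : IsIso F (chainU S n E 3) (chainU S n E 3) f := hN ▸ φ.iso
    refine ⟨f, h3, fun x _ => rfl, fun i hi him => ?_⟩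
    rcases (by omega : i = 2 ∨ i = 3) with rfl | rfl
    · exact C.flip_two hall φ
    · exact C.image_gam hall le_rfl (by omega) h3 (C.flip_two hall φ)
  | succ m hm ih =>
    intro hmn
    obtain ⟨g, hg, hgf, hgz⟩ := ih (by omega)
    have hUN : normalizerIn S (chainU S n E m) = chainU S n E (m + 1) :=
      normalizerIn_chainU C.mc c hn hZ (by omega) (by omega)
    let D : ℕ → Subgroup Ω := fun i =>
      if i = 0 then ⊥ else if i < m then gam S (n - (i + 1)) else chainU S n E m
    have hmono : Monotone D := by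
      intro i j hij
      simp only [D]
      split_ifs with h1 h2 h3 h4 h5 <;>
        first
        | exact bot_le
        | exact le_rfl
        | omega
        | exact gam_antitone (by omega)
        | exact (gam_antitone (show n - m ≤ n - (i + 1) by omega)).trans le_sup_right
    have hD0 : D 0 = ⊥ := if_pos rfl
    have hDk : D m = chainU S n E m := by
      simp only [D]
      rw [if_neg (by omega), if_neg (by omega)]
    have hfD : ∀ i, i ≤ m → ∀ x ∈ D i, g x ∈ D i := by
      intro i hi x hx
      simp only [D] at hx ⊢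
      split_ifs at hx ⊢ with h1 h2
      · rw [mem_bot] at hx ⊢
        rw [hx, hg.1.map_one]
      · exact hgz (i + 1) (by omega) (by omega) x hx
      · exact hg.mem hx
    have hstab : ∀ a ∈ normalizerIn S (chainU S n E m), ∀ i, i < m → ∀ x ∈ D (i + 1),
        x⁻¹ * (a * x * a⁻¹) ∈ D i := by
      intro a ha i hi x hx
      rw [hUN] at ha
      have haS : a ∈ S := chainU_le c.le _ ha
      rcases Nat.eq_zero_or_pos i with rfl | hipos
      · rw [hD0, mem_bot]
        simp only [D] at hx
        rw [if_neg (by omega), if_pos (by omega)] at hx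
        have hle : chainU S n E (m + 1) ≤ centralizer ({x} : Set Ω) := by
          refine sup_le (fun y hy => mem_centralizer_singleton_iff.2 ?_) fun y hy =>
            mem_centralizer_singleton_iff.2 ?_
          · exact congrArg Subtype.val (c.comm.is_comm.comm (⟨y, hy⟩ : ↥E) ⟨x, hZ hx⟩)
          · exact (gam_commute C.mc (by omega) hy hx).eq
        rw [mem_centralizer_singleton_iff.1 (hle ha), mul_inv_cancel_right, inv_mul_cancel]
      have e : x⁻¹ * (a * x * a⁻¹) = ⁅x⁻¹, a⁆ := by
        simp [commutatorElement_def, mul_assoc]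
      rw [e, ← commutatorElement_inv]
      refine inv_mem ?_
      have hDi : D i = gam S (n - (i + 1)) := by
        simp only [D]
        rw [if_neg (by omega), if_pos hi]
      rw [hDi]
      simp only [D] at hx
      rw [if_neg (by omega)] at hx
      split_ifs at hx with h2
      · exact gam_antitone (by omega) (gam_comm_one haS (inv_mem hx))
      · -- the top factor
        obtain rfl : i + 1 = m := by omega
        have h2' : ⁅a, x⁻¹⁆ ∈ gam S 2 :=
          gam_comm (mem_gam_one haS) (mem_gam_one (chainU_le c.le _ (inv_mem hx)))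
        have hU' : ⁅a, x⁻¹⁆ ∈ chainU S n E (i + 1) := by
          rw [← hUN] at ha
          exact mul_mem (conj_mem_of_mem_normalizer ha.2 (inv_mem hx)) (inv_mem (inv_mem hx))
        haveI : Finite ↥(chainU S n E (i + 1)) := finite_of_le (chainU_le c.le _)
        have hinf := inf_eq_of_not_le (A := chainU S n E (i + 1)) (V := gam S 2)
          (L := gam S (n - (i + 1))) (l := i + 1) (card_chainU C.mc c hn hZ (by omega) (by omega))
          (by rw [card_gam C.mc (by omega) (by omega), show n - (n - (i + 1)) = i + 1 by omega])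
          le_sup_right (gam_antitone (by omega))
          (fun hle => not_le_gam_two C.mc c hn hZ (le_sup_left.trans hle))
        exact hinf.le ⟨hU', h2'⟩
    obtain ⟨g', hg', hge⟩ := extend_series C.mc.isPGroup C.sat
      (C.fullyNormalized_chainU hall (by omega) (by omega)) hg D m hmono hD0 hDk hfD hstab
    rw [hUN] at hg'
    have hgf' : Set.EqOn g' f (normalizerIn S E : Set Ω) := fun x hx => by
      have hx' : x ∈ chainU S n E m := by
        rw [hN] at hx
        exact (sup_le le_sup_left ((gam_antitone (by omega)).trans le_sup_right) :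
          chainU S n E 3 ≤ chainU S n E m) hx
      rw [hge hx', hgf hx]
    have hg2 : ∀ x ∈ gam S (n - 2), g' x ∈ gam S (n - 2) := fun x hx => by
      rw [hgf' (le_normalizerIn C.ess.1.1 (hZ hx))]
      exact C.flip_two hall φ x hx
    refine ⟨g', hg', hgf', fun i hi him x hx => ?_⟩
    rcases Nat.lt_or_ge i (m + 1) with hlt | hge'
    · have hxU : x ∈ chainU S n E m :=
        mem_sup_right (gam_antitone (show n - m ≤ n - i by omega) hx)
      rw [hge hxU]
      exact hgz i hi (by omega) x hx
    · obtain rfl : i = m + 1 := by omega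
      exact C.image_gam hall (by omega) hmn hg' hg2 x hx

end Ctx

end Cfsg.Agent.MaxEss41
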