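import Cfsg.Agent.MaxEss41.TwoStep

/-!
Bilinearity of the commutator on the layers of a `p`-group of maximal class, and the size of the
two-step centralisers.
-/

set_option autoImplicit false
set_option linter.unusedSectionVars false
set_option linter.style.haveILetI false

namespace Cfsg.Agent.MaxEss41

open Subgroup FG38 SectRank81 FG72.MaxClass
open scoped commutatorElement

variable {G : Type*} [Group G]

/-- Image of `[u, v]` in the layer `k`. -/
theorem comm_layer_mul_left {j i k : ℕ} (hk : k ≤ j + i + 1) {u u' v : G} (hu' : u' ∈ filt G j)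
    (hv : v ∈ filt G i) :
    QuotientGroup.mk' (filt G k) ⁅u * u', v⁆ =
      QuotientGroup.mk' (filt G k) ⁅u, v⁆ * QuotientGroup.mk' (filt G k) ⁅u', v⁆ := by
  set π := QuotientGroup.mk' (filt G k) with hπ
  have hc : ∀ w : G, Commute (π ⁅u', v⁆) (π w) := fun w => by
    rw [← commutatorElement_eq_one_iff_commute, ← map_commutatorElement]
    exact (QuotientGroup.eq_one_iff _).2 (filt_antitone hk
      (filt_commutator (j + i) 1 (commutator_mem_commutator
        (filt_commutator j i (commutator_mem_commutator hu' hv)) (mem_top w))))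
  have e : ⁅u * u', v⁆ = u * ⁅u', v⁆ * u⁻¹ * ⁅u, v⁆ := by
    simp only [commutatorElement_def]; group
  rw [e, map_mul, map_mul, map_mul, map_inv, ← (hc u).eq, mul_inv_cancel_right, (hc _).eq]

theorem comm_layer_mul_right {j i k : ℕ} (hk : k ≤ j + i + 1) {u v v' : G} (hu : u ∈ filt G j)
    (hv' : v' ∈ filt G i) :
    QuotientGroup.mk' (filt G k) ⁅u, v * v'⁆ =
      QuotientGroup.mk' (filt G k) ⁅u, v⁆ * QuotientGroup.mk' (filt G k) ⁅u, v'⁆ := by
  set π := QuotientGroup.mk' (filt G k) with hπ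
  have hc : ∀ w : G, Commute (π ⁅u, v'⁆) (π w) := fun w => by
    rw [← commutatorElement_eq_one_iff_commute, ← map_commutatorElement]
    exact (QuotientGroup.eq_one_iff _).2 (filt_antitone hk
      (filt_commutator (j + i) 1 (commutator_mem_commutator
        (filt_commutator j i (commutator_mem_commutator hu hv')) (mem_top w))))
  have e : ⁅u, v * v'⁆ = ⁅u, v⁆ * (v * ⁅u, v'⁆ * v⁻¹) := by
    simp only [commutatorElement_def]; group
  rw [e, map_mul, map_mul, map_mul, map_inv, ← (hc v).eq, mul_inv_cancel_right]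

/-- `[u ^ a, v ^ b] ≡ [u, v] ^ (a * b)`. -/
theorem comm_layer_zpow {j i k : ℕ} (hk : k ≤ j + i + 1) {u v : G}
    (hu : u ∈ filt G j) (hv : v ∈ filt G i) (a b : ℤ) :
    QuotientGroup.mk' (filt G k) ⁅u ^ a, v ^ b⁆ =
      QuotientGroup.mk' (filt G k) ⁅u, v⁆ ^ (a * b) := by
  let φ : ↥(filt G j) →* G ⧸ filt G k :=
    MonoidHom.mk' (fun x => QuotientGroup.mk' (filt G k) ⁅(x : G), v ^ b⁆)
      fun x y => comm_layer_mul_left hk y.2 (zpow_mem hv b)
  let ψ : ↥(filt G i) →* G ⧸ filt G k :=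
    MonoidHom.mk' (fun x => QuotientGroup.mk' (filt G k) ⁅u, (x : G)⁆)
      fun x y => comm_layer_mul_right hk hu y.2
  have h1 : φ (⟨u, hu⟩ ^ a) = φ ⟨u, hu⟩ ^ a := map_zpow φ _ a
  have h2 : ψ (⟨v, hv⟩ ^ b) = ψ ⟨v, hv⟩ ^ b := map_zpow ψ _ b
  simp only [φ, ψ, MonoidHom.mk'_apply, SubgroupClass.coe_zpow] at h1 h2
  rw [h1, h2, ← zpow_mul, mul_comm b a]

/-- Commutators of congruent elements. -/
theorem comm_layer_congr {j i k : ℕ} (hk : k ≤ j + i + 1) {u u' w v v' z : G} (hu : u ∈ filt G j)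
    (hv : v ∈ filt G i) {a b : ℤ}
    (hu' : u' = u ^ a * w) (hw : ∀ x ∈ filt G i, ⁅w, x⁆ ∈ filt G k)
    (hv' : v' = v ^ b * z) (hz : z ∈ filt G (i + 1)) :
    QuotientGroup.mk' (filt G k) ⁅u', v'⁆ =
      QuotientGroup.mk' (filt G k) ⁅u, v⁆ ^ (a * b) := by
  subst hu' hv'
  set π := QuotientGroup.mk' (filt G k) with hπ
  have hv'' : v ^ b * z ∈ filt G i := mul_mem (zpow_mem hv b) (filt_antitone (Nat.le_succ i) hz)
  have h1 : π ⁅w, v ^ b * z⁆ = 1 := (QuotientGroup.eq_one_iff _).2 (hw _ hv'')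
  have h2 : π ⁅u ^ a, z⁆ = 1 := (QuotientGroup.eq_one_iff _).2
    (filt_antitone (show k ≤ j + (i + 1) by omega)
      (filt_commutator j (i + 1) (commutator_mem_commutator (zpow_mem hu a) hz)))
  have e : ⁅u ^ a * w, v ^ b * z⁆ =
      u ^ a * ⁅w, v ^ b * z⁆ * (u ^ a)⁻¹ * ⁅u ^ a, v ^ b * z⁆ := by
    simp only [commutatorElement_def]; group
  rw [e, map_mul, map_mul, map_mul, map_inv, h1, mul_one, mul_inv_cancel, one_mul,
    comm_layer_mul_right hk (zpow_mem hu a) (filt_antitone (Nat.le_succ i) hz), h2, mul_one,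
    comm_layer_zpow hk hu hv]

variable [Finite G] {p n : ℕ} [hp : Fact p.Prime] (h : MaxCl p n G)
include h

theorem dvd_of_zpow_mem {N : Subgroup G} {x : G} (hx : x ∉ N) {k : ℤ} (hk : x ^ k ∈ N) :
    (p : ℤ) ∣ k := by
  by_contra hnd
  obtain ⟨t, ht⟩ := h.isPGroup x
  have hco : Int.gcd k ((p ^ t : ℕ) : ℤ) = 1 := by
    rw [Int.gcd_def, Int.natAbs_natCast]
    refine Nat.Coprime.pow_right _ ?_
    exact (hp.out.coprime_iff_not_dvd.2 fun hd => hnd (Int.natCast_dvd.2 hd)).symm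
  have hb := Int.gcd_eq_gcd_ab k ((p ^ t : ℕ) : ℤ)
  rw [hco, Nat.cast_one] at hb
  refine hx ?_
  have : x ^ (1 : ℤ) ∈ N := by
    rw [hb, zpow_add, zpow_mul, zpow_mul, zpow_natCast, ht, one_zpow, mul_one]
    exact zpow_mem hk _
  rwa [zpow_one] at this

/-- A two-step centraliser has index at most `p`. -/
theorem card_twoStep_ge {i : ℕ} (hi : 2 ≤ i) (hin : i + 2 ≤ n) :
    p ^ (n - 1) ≤ Nat.card ↥(twoStep G (i - 1)) := by
  obtain ⟨v, hv, hv'⟩ := h.exists_not_mem_succ hi (by omega)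
  obtain ⟨w, hw, hw'⟩ := h.exists_not_mem_succ (i := i + 1) (by omega) (by omega)
  obtain ⟨x, hx⟩ := h.exists_cfg
  set π := QuotientGroup.mk' (filt G (i + 2)) with hπ
  let φ : G →* G ⧸ filt G (i + 2) := MonoidHom.mk' (fun g => π ⁅g, v⁆)
    fun a b => comm_layer_mul_left (j := 1) (by omega) (mem_top b) hv
  have hrange : φ.range ≤ zpowers (π w) := by
    rintro _ ⟨g, rfl⟩
    have hm : ⁅g, v⁆ ∈ filt G (i + 1) := by
      have := filt_commutator 1 i (commutator_mem_commutator (show g ∈ filt G 1 from mem_top g) hv)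
      rwa [add_comm 1 i] at this
    obtain ⟨_, ⟨s, rfl⟩, w₂, hw₂, e⟩ :=
      mem_sup_of_normal_right.1 (h.layer_gen (by omega) (by omega) hw hw' hm)
    refine ⟨s, ?_⟩
    show π w ^ s = π ⁅g, v⁆
    rw [← e, map_mul, map_zpow, show π w₂ = 1 from (QuotientGroup.eq_one_iff _).2 hw₂, mul_one]
  have hcard : Nat.card ↥φ.range ≤ p := by
    refine (Subgroup.card_le_of_le hrange).trans ?_
    rw [Nat.card_zpowers]
    refine Nat.le_of_dvd hp.out.pos (orderOf_dvd_of_pow_eq_one ?_)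
    rw [← map_pow]
    exact (QuotientGroup.eq_one_iff _).2 (hx.pow_p_mem_succ (by omega) hw)
  have hker : φ.ker ≤ twoStep G (i - 1) := fun g hg =>
    layer_le_of_mem h hi (by omega) hv hv' ((QuotientGroup.eq_one_iff _).1 hg)
  refine le_trans ?_ (Subgroup.card_le_of_le hker)
  have h1 := card_mul_index φ.ker
  rw [index_ker, h.card] at h1
  refine Nat.le_of_mul_le_mul_right ?_ hp.out.pos
  rw [← pow_succ, show n - 1 + 1 = n by omega]
  exact h1.symm.le.trans (Nat.mul_le_mul_left _ hcard)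

/-- The last useful two-step centraliser is the first. -/
theorem twoStep_last_eq (hp5 : 5 ≤ p) (hn : 5 ≤ n) :
    twoStep G (2 - 1) = twoStep G (n - 3 - 1) := by
  refine Subgroup.eq_of_le_of_card_ge (twoStep_first_le h hp5 (n - 3) (by omega) (by omega)) ?_
  exact (card_le_of_ne_top h (h.twoStep_ne (by omega) (by omega))).trans
    (card_twoStep_ge h le_rfl (by omega))

end Cfsg.Agent.MaxEss41
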