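import Cfsg.Agent.MaxEss41.Basic
import Cfsg.Agent.Lib.Fusion.Alperin

/-!
Self-centralising abelian subgroups of order `p ^ 3` through the second centre of a `p`-group of
maximal class with normalizer of order `p ^ 4`: the chain of iterated normalizers.
-/

set_option autoImplicit false
set_option linter.unusedSectionVars false
set_option linter.style.haveILetI false

namespace Cfsg.Agent.MaxEss41

open Subgroup FG38 FG72.MaxClass
open Cfsg.Agent.Fusion
open Cfsg.FusionSystem (normalizerIn centralizerIn)
open scoped commutatorElement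

variable {Ω : Type*} [Group Ω] {S : Subgroup Ω} {p n : ℕ} [hp : Fact p.Prime]

/-- The members: what is used of a conjugate of the essential subgroup. -/
structure Cand (S : Subgroup Ω) (p : ℕ) (E : Subgroup Ω) : Prop where
  le : E ≤ S
  card : Nat.card ↥E = p ^ 3
  comm : IsMulCommutative ↥E
  cent : centralizerIn S E = E
  card_N : Nat.card ↥(normalizerIn S E) = p ^ 4

/-- The `m`-th member of the chain through `E`. -/
def chainU (S : Subgroup Ω) (n : ℕ) (E : Subgroup Ω) (m : ℕ) : Subgroup Ω := E ⊔ gam S (n - m)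

theorem chainU_le {E : Subgroup Ω} (hE : E ≤ S) (m : ℕ) : chainU S n E m ≤ S :=
  sup_le hE (gam_le _)

variable [Finite ↥S] (h : MaxCl p n ↥S)
include h

theorem gam_gen {i : ℕ} (hi : 2 ≤ i) (hin : i + 1 ≤ n) {z : Ω} (hz : z ∈ gam S i)
    (hz' : z ∉ gam S (i + 1)) : gam S i ≤ zpowers z ⊔ gam S (i + 1) := by
  intro x hx
  have hzS := gam_le i hz
  have h1 := h.layer_gen hi hin (coe_mem_gam (x := ⟨z, hzS⟩).1 hz)
    (fun h' => hz' (coe_mem_gam (x := ⟨z, hzS⟩).2 h'))
    (coe_mem_gam (x := ⟨x, gam_le i hx⟩).1 hx)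
  have h2 : x ∈ (zpowers (⟨z, hzS⟩ : ↥S) ⊔ filt ↥S (i + 1)).map S.subtype := ⟨_, h1, rfl⟩
  rwa [Subgroup.map_sup, MonoidHom.map_zpowers] at h2

variable {E : Subgroup Ω} (c : Cand S p E)
include c

theorem card_S : Nat.card ↥S = p ^ n := h.card

theorem le_gam_two_centre (hle : E ≤ gam S 2) : gam S (n - 2) ≤ E := by
  rw [← c.cent]
  exact le_inf (gam_le _) fun z hz => mem_centralizer_iff.2 fun x hx =>
    (gam_commute h (by have := h.three; omega) (hle hx) hz).eq

variable (hn : 5 ≤ n) (hZ : gam S (n - 2) ≤ E)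
include hn hZ

theorem chain : ∀ m, 2 ≤ m → m + 2 ≤ n →
    Nat.card ↥(chainU S n E m) = p ^ (m + 1) ∧ E ⊓ gam S (n - m) = gam S (n - 2) ∧
      Nat.card ↥(normalizerIn S (chainU S n E m)) ≤ p ^ (m + 2) := by
  haveI : Finite E := finite_of_le c.le
  have cE : Nat.card ↥E = p ^ (2 + 1) := c.card
  have cZ : Nat.card ↥(gam S (n - 2)) = p ^ 2 := by
    rw [card_gam h (by omega) (by omega), show n - (n - 2) = 2 by omega]
  intro m hm
  induction m, hm using Nat.le_induction with
  | base =>
    intro _
    rw [chainU, sup_eq_left.2 hZ, inf_eq_right.2 hZ]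
    exact ⟨cE, rfl, c.card_N.le⟩
  | succ m hm ih =>
    intro hmn
    obtain ⟨hU, hinf, hN⟩ := ih (by omega)
    set V := gam S (n - (m + 1)) with hV
    have hVc : Nat.card ↥V = p ^ (m + 1) := by
      rw [hV, card_gam h (by omega) (by omega), show n - (n - (m + 1)) = m + 1 by omega]
    haveI : Finite ↥V := finite_of_le (gam_le _)
    have hsub : gam S (n - m) ≤ V := gam_antitone (by omega)
    have hnot : ¬ E ≤ V := by
      intro hle
      haveI : Finite ↥(chainU S n E m) := finite_of_le (chainU_le c.le m)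
      have e := Subgroup.eq_of_le_of_card_ge (sup_le hle hsub : chainU S n E m ≤ V)
        (hVc.trans hU.symm).le
      have hall : normalizerIn S (chainU S n E m) = S := by
        have e' : chainU S n E m = V := e
        rw [e']
        exact inf_eq_left.2 gam_le_normalizer
      rw [hall, h.card] at hN
      have := (Nat.pow_le_pow_iff_right hp.out.one_lt).1 hN
      omega
    have hinf' : E ⊓ V = gam S (n - 2) :=
      inf_eq_of_not_le cE cZ hZ (gam_antitone (by omega)) hnot
    have hU' : Nat.card ↥(chainU S n E (m + 1)) = p ^ (m + 1 + 1) := by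
      have h1 := PLocalB.card_sup_mul_card_inf E V (c.le.trans gam_le_normalizer)
      rw [hinf', cZ, c.card, hVc, ← pow_add] at h1
      refine Nat.eq_of_mul_eq_mul_right (pow_pos hp.out.pos 2) (h1.trans ?_)
      rw [← pow_add]
      congr 1
      omega
    refine ⟨hU', hinf', ?_⟩
    haveI : Finite ↥(chainU S n E (m + 1)) := finite_of_le (chainU_le c.le _)
    set M := normalizerIn S (chainU S n E (m + 1)) with hM
    haveI : Finite ↥M := finite_of_le inf_le_left
    have h1 := (orbit_count (p := p) (U := chainU S n E (m + 1)) (V := V) (L := gam S (n - 2))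
      (E := E) (M := M) (l := 2) (m := m + 1) le_sup_left le_sup_right hinf' cE cZ hU' hVc
      inf_le_right (inf_le_left.trans gam_le_normalizer) (inf_le_left.trans gam_le_normalizer)).1
    refine h1.trans ?_
    haveI : Finite ↥(normalizerIn S E) := finite_of_le inf_le_left
    haveI : Finite ↥(S ⊓ normalizer (E : Set Ω) : Subgroup Ω) := finite_of_le inf_le_left
    refine (Nat.mul_le_mul_left _ ((Subgroup.card_le_of_le
      (le_inf (inf_le_left.trans inf_le_left) inf_le_right :
        M ⊓ normalizer (E : Set Ω) ≤ normalizerIn S E)).trans c.card_N.le)).trans_eq ?_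
    rw [← pow_add]
    congr 1
    omega

theorem card_chainU {m : ℕ} (hm : 2 ≤ m) (hmn : m + 2 ≤ n) :
    Nat.card ↥(chainU S n E m) = p ^ (m + 1) := (chain h c hn hZ m hm hmn).1

theorem inf_gam {m : ℕ} (hm : 2 ≤ m) (hmn : m + 2 ≤ n) : E ⊓ gam S (n - m) = gam S (n - 2) :=
  (chain h c hn hZ m hm hmn).2.1

theorem not_le_gam_two : ¬ E ≤ gam S 2 := by
  intro hle
  have h1 := inf_gam h c hn hZ (show 2 ≤ n - 2 by omega) (by omega)
  rw [show n - (n - 2) = 2 by omega, inf_eq_left.2 hle] at h1
  have h2 := c.card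
  rw [h1, card_gam h (by omega) (by omega)] at h2
  have := Nat.pow_right_injective hp.out.two_le h2
  omega

theorem card_normalizer_chainU {m : ℕ} (hm : 2 ≤ m) (hmn : m + 2 ≤ n) :
    Nat.card ↥(normalizerIn S (chainU S n E m)) = p ^ (m + 2) := by
  refine le_antisymm (chain h c hn hZ m hm hmn).2.2 ?_
  have hlt : chainU S n E m < S := by
    refine lt_of_le_of_ne (chainU_le c.le m) fun he => ?_
    have h1 := card_chainU h c hn hZ hm hmn
    rw [he, h.card] at h1
    have := Nat.pow_right_injective hp.out.two_le h1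
    omega
  have h2 := lt_normalizerIn h.isPGroup hlt
  haveI : Finite ↥(normalizerIn S (chainU S n E m)) := finite_of_le inf_le_left
  have hNp : IsPGroup p ↥(normalizerIn S (chainU S n E m)) := h.isPGroup.to_le inf_le_left
  obtain ⟨k, hk⟩ := IsPGroup.iff_card.1 hNp
  have h3 : Nat.card ↥(chainU S n E m) < Nat.card ↥(normalizerIn S (chainU S n E m)) :=
    lt_of_le_of_ne (Subgroup.card_le_of_le h2.le) fun he =>
      h2.ne (Subgroup.eq_of_le_of_card_ge h2.le he.ge)
  rw [card_chainU h c hn hZ hm hmn, hk] at h3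
  rw [hk]
  exact Nat.pow_le_pow_right hp.out.pos ((Nat.pow_lt_pow_iff_right hp.out.one_lt).1 h3)

theorem gam_le_normalizerIn {i : ℕ} (hi : 1 ≤ i) (hin : i + 2 ≤ n) :
    gam S i ≤ normalizerIn S (chainU S n E (n - (i + 1))) := by
  intro z hz
  refine ⟨gam_le _ hz, ?_⟩
  haveI : Finite ↥(chainU S n E (n - (i + 1))) := finite_of_le (chainU_le c.le _)
  refine mem_normalizer_of_conj fun x hx => ?_
  rw [conj_eq_comm_mul]
  refine mul_mem ?_ hx
  rw [← commutatorElement_inv]
  refine inv_mem (mem_sup_right ?_)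
  rw [show n - (n - (i + 1)) = i + 1 by omega]
  exact gam_comm_one (chainU_le c.le _ hx) hz

theorem normalizerIn_chainU {m : ℕ} (hm : 2 ≤ m) (hmn : m + 3 ≤ n) :
    normalizerIn S (chainU S n E m) = chainU S n E (m + 1) := by
  haveI : Finite ↥(normalizerIn S (chainU S n E m)) := finite_of_le inf_le_left
  refine (Subgroup.eq_of_le_of_card_ge (sup_le ?_ ?_) ?_).symm
  · exact le_inf c.le fun x hx => le_normalizer (mem_sup_left hx)
  · have := gam_le_normalizerIn h c hn hZ (i := n - (m + 1)) (by omega) (by omega)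
    rwa [show n - (n - (m + 1) + 1) = m by omega] at this
  · have e := card_chainU h c hn hZ (m := m + 1) (by omega) (by omega)
    rw [card_normalizer_chainU h c hn hZ hm (by omega)]
    exact e.ge

theorem normalizerIn_eq : normalizerIn S E = chainU S n E 3 := by
  have := normalizerIn_chainU h c hn hZ (m := 2) le_rfl (by omega)
  rwa [chainU, sup_eq_left.2 hZ] at this

/-- Every element outside the lower central term lies in a conjugate of `E`. -/
theorem cover {m : ℕ} (hm : 3 ≤ m) (hmn : m + 2 ≤ n) {x : Ω} (hx : x ∈ chainU S n E m)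
    (hx' : x ∉ gam S (n - m)) :
    ∃ g ∈ normalizerIn S (chainU S n E m), g⁻¹ * x * g ∈ E := by
  haveI : Finite ↥(chainU S n E m) := finite_of_le (chainU_le c.le m)
  set M := normalizerIn S (chainU S n E m) with hM
  haveI : Finite ↥M := finite_of_le inf_le_left
  have hV : Nat.card ↥(gam S (n - m)) = p ^ m := by
    rw [card_gam h (by omega) (by omega), show n - (n - m) = m by omega]
  have hL : Nat.card ↥(gam S (n - 2)) = p ^ 2 := by
    rw [card_gam h (by omega) (by omega), show n - (n - 2) = 2 by omega]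
  have hle : normalizerIn S E ≤ chainU S n E m := by
    rw [normalizerIn_eq h c hn hZ]
    exact sup_le le_sup_left ((gam_antitone (by omega)).trans le_sup_right)
  have hinf : M ⊓ normalizer (E : Set Ω) = normalizerIn S E := by
    refine le_antisymm (le_inf (inf_le_left.trans inf_le_left) inf_le_right)
      (le_inf (fun y hy => ⟨hy.1, le_normalizer (hle hy)⟩) inf_le_right)
  refine (orbit_count (p := p) (U := chainU S n E m) (V := gam S (n - m)) (L := gam S (n - 2))
    (E := E) (M := M) (l := 2) (m := m) le_sup_left le_sup_right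
    (inf_gam h c hn hZ (by omega) hmn) c.card hL (card_chainU h c hn hZ (by omega) hmn) hV
    inf_le_right (inf_le_left.trans gam_le_normalizer) (inf_le_left.trans gam_le_normalizer)).2 ?_
    x hx hx'
  rw [hinf, c.card_N, hM, card_normalizer_chainU h c hn hZ (by omega) hmn, ← pow_add]
  exact Nat.pow_le_pow_right hp.out.pos (by omega)

/-- Inside the chain the layer commutators are nontrivial. -/
theorem comm_not_drop {i : ℕ} (hi : 2 ≤ i) (hin : i + 4 ≤ n) {z e : Ω} (hz : z ∈ gam S i)
    (hz' : z ∉ gam S (i + 1)) (he : e ∈ E) (he' : e ∉ gam S (n - 2)) :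
    ⁅e, z⁆ ∉ gam S (i + 2) := by
  intro hc
  set m := n - (i + 2) with hm
  have hm2 : n - m = i + 2 := by omega
  haveI : Finite E := finite_of_le c.le
  haveI : Finite ↥(chainU S n E m) := finite_of_le (chainU_le c.le m)
  have hzS := gam_le i hz
  let ψ : Ω →* Ω := (MulAut.conj z).toMonoidHom
  have hEle : E ≤ (chainU S n E m).comap ψ := by
    have hgen : zpowers e ⊔ gam S (n - 2) = E := by
      have hle : zpowers e ⊔ gam S (n - 2) ≤ E := sup_le (zpowers_le.2 he) hZ
      haveI : Finite ↥(zpowers e ⊔ gam S (n - 2) : Subgroup Ω) := finite_of_le (hle.trans c.le)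
      refine Subgroup.eq_of_le_of_card_ge hle ?_
      obtain ⟨k, hk⟩ := IsPGroup.iff_card.1 (h.isPGroup.to_le (hle.trans c.le))
      have h1 : Nat.card ↥(gam S (n - 2)) < Nat.card ↥(zpowers e ⊔ gam S (n - 2) : Subgroup Ω) :=
        lt_of_le_of_ne (Subgroup.card_le_of_le le_sup_right) fun hh => he'
          ((Subgroup.eq_of_le_of_card_ge le_sup_right hh.ge).ge (mem_sup_left (mem_zpowers e)))
      rw [card_gam h (by omega) (by omega), hk] at h1
      rw [c.card, hk]
      exact Nat.pow_le_pow_right hp.out.pos (by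
        have := (Nat.pow_lt_pow_iff_right hp.out.one_lt).1 h1
        omega)
    refine hgen.ge.trans (sup_le (zpowers_le.2 ?_) fun w hw => ?_)
    · show z * e * z⁻¹ ∈ chainU S n E m
      rw [conj_eq_comm_mul]
      refine mul_mem ?_ (mem_sup_left he)
      rw [← commutatorElement_inv]
      exact inv_mem (mem_sup_right (hm2 ▸ hc))
    · exact mem_sup_left (hZ (gam_conj hzS hw))
  have hzU : z ∈ normalizerIn S (chainU S n E m) := by
    refine ⟨hzS, mem_normalizer_of_conj fun x hx => ?_⟩
    have hall : chainU S n E m ≤ (chainU S n E m).comap ψ :=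
      sup_le hEle fun w hw => mem_sup_right (gam_conj hzS hw)
    exact hall hx
  rw [normalizerIn_chainU h c hn hZ (by omega) (by omega)] at hzU
  have e1 : n - (m + 1) = i + 1 := by omega
  have hall : gam S i ≤ chainU S n E (m + 1) := (gam_gen h hi (by omega) hz hz').trans
    (sup_le (zpowers_le.2 hzU) (e1 ▸ le_sup_right))
  have hle : chainU S n E (m + 2) ≤ chainU S n E (m + 1) :=
    sup_le le_sup_left ((show n - (m + 2) = i by omega) ▸ hall)
  haveI : Finite ↥(chainU S n E (m + 1)) := finite_of_le (chainU_le c.le _)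
  have h4 := Subgroup.card_le_of_le hle
  rw [card_chainU h c hn hZ (by omega) (by omega), card_chainU h c hn hZ (by omega) (by omega)] at h4
  have := (Nat.pow_le_pow_iff_right hp.out.one_lt).1 h4
  omega

/-- Maps of a fusion system carry the chain to the chain. -/
theorem transport {F : Cfsg.FusionSystem S} {E' : Subgroup Ω} (c' : Cand S p E')
    (hZ' : gam S (n - 2) ≤ E') {f : Ω → Ω} {m : ℕ} (hmn : m + 2 ≤ n)
    (hf : IsMap F (chainU S n E m) f) (him : f '' (E : Set Ω) = (E' : Set Ω)) :
    ∀ i, 2 ≤ i → i ≤ m → f '' (chainU S n E i : Set Ω) = (chainU S n E' i : Set Ω) := by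
  intro i hi
  induction i, hi using Nat.le_induction with
  | base => intro _; simp only [chainU, sup_eq_left.2 hZ, sup_eq_left.2 hZ', him]
  | succ i hi ih =>
    intro him'
    have hsub : ∀ j, j ≤ m → chainU S n E j ≤ chainU S n E m := fun j hj =>
      sup_le le_sup_left ((gam_antitone (by omega)).trans le_sup_right)
    have hmem : ∀ x ∈ chainU S n E (i + 1), f x ∈ chainU S n E' (i + 1) := by
      intro x hx
      rw [← normalizerIn_chainU h c' hn hZ' hi (by omega)]
      refine map_mem_normalizer hf (hsub i (by omega)) (ih (by omega)) (hsub _ him' hx) ?_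
      rw [← normalizerIn_chainU h c hn hZ hi (by omega)] at hx
      exact hx.2
    refine Set.Subset.antisymm (by rintro _ ⟨x, hx, rfl⟩; exact hmem x hx) fun y hy => ?_
    exact surjOn_of_card_le (chainU_le c'.le _) (hf.injOn.mono (hsub _ him')) hmem
      (by rw [card_chainU h c hn hZ (by omega) (by omega),
        card_chainU h c' hn hZ' (by omega) (by omega)]) y hy

end Cfsg.Agent.MaxEss41
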