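import Cfsg.Agent.MaxEss41.Basic
import Cfsg.Agent.Lib.Fusion.Alperin

/-!
A self-centralising abelian subgroup of order `p ^ 3` of a larger `p`-group has a transvection in
its normalizer.
-/

set_option autoImplicit false
set_option linter.unusedSectionVars false
set_option linter.style.haveILetI false

namespace Cfsg.Agent.MaxEss41

open Subgroup
open Cfsg.FusionSystem (normalizerIn centralizerIn)
open scoped commutatorElement

variable {Ω : Type*} [Group Ω] {p : ℕ} [hp : Fact p.Prime]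

/-- Commutation with a `p`-group shrinks a nontrivial normalised subgroup. -/
theorem comm_lt {N L : Subgroup Ω} [Finite N] (hN : IsPGroup p ↥N) (hL : L ≤ N)
    (hNL : N ≤ normalizer (L : Set Ω)) (hne : L ≠ ⊥) :
    Nat.card ↥(⁅L, N⁆ : Subgroup Ω) * p ≤ Nat.card ↥L := by
  haveI : Finite ↥L := Finite.of_injective _ (Subgroup.inclusion_injective hL)
  have hle : ⁅L, N⁆ ≤ L := commutator_le.2 fun x hx g hg => by
    have h1 := (mem_normalizer_iff.1 (hNL hg) x⁻¹).1 (inv_mem hx)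
    rw [commutatorElement_def, mul_assoc, mul_assoc, ← mul_assoc g]
    exact mul_mem hx h1
  have hlt : ⁅L, N⁆ ≠ L := by
    intro he
    haveI := hN.isNilpotent
    obtain ⟨k, hk⟩ := Subgroup.nilpotent_iff_lowerCentralSeries.1 (inferInstance : Group.IsNilpotent ↥N)
    have hind : ∀ i, L.subgroupOf N ≤ (⊤ : Subgroup ↥N).lowerCentralSeries i := by
      intro i
      induction i with
      | zero => exact le_top
      | succ i ih =>
        have e1 : L.subgroupOf N = ⁅L.subgroupOf N, (⊤ : Subgroup ↥N)⁆ := by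
          refine map_injective N.subtype_injective ?_
          rw [map_commutator, ← MonoidHom.range_eq_map, range_subtype,
            subgroupOf_map_subtype, inf_eq_left.2 hL, he]
        rw [e1]
        exact commutator_mono ih le_rfl
    exact hne ((subgroupOf_eq_bot.1 (le_bot_iff.1 ((hind k).trans hk.le))).eq_bot_of_le hL)
  obtain ⟨a, ha⟩ := PGroup.exists_card_eq_pow hN (L.subgroupOf N)
  obtain ⟨b, hb⟩ := PGroup.exists_card_eq_pow hN (⁅L, N⁆.subgroupOf N)
  rw [Nat.card_congr (subgroupOfEquivOfLe hL).toEquiv] at ha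
  rw [Nat.card_congr (subgroupOfEquivOfLe (hle.trans hL)).toEquiv] at hb
  have h1 : Nat.card ↥(⁅L, N⁆ : Subgroup Ω) < Nat.card ↥L :=
    lt_of_le_of_ne (Subgroup.card_le_of_le hle) fun h => hlt (Subgroup.eq_of_le_of_card_ge hle h.ge)
  rw [ha, hb] at h1 ⊢
  rw [← pow_succ]
  exact Nat.pow_le_pow_right hp.out.pos ((Nat.pow_lt_pow_iff_right hp.out.one_lt).1 h1)

theorem card_eq_prime_of_le {L : Subgroup Ω} [Finite L] (hLp : IsPGroup p ↥L) (hne : L ≠ ⊥)
    (h : Nat.card ↥L ≤ p) : Nat.card ↥L = p := by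
  obtain ⟨k, hk⟩ := IsPGroup.iff_card.1 hLp
  have h1 := (one_lt_card_iff_ne_bot _).2 hne
  rw [hk] at h h1 ⊢
  have hk0 : k ≠ 0 := by rintro rfl; simp at h1
  have : k ≤ 1 := (Nat.pow_le_pow_iff_right hp.out.one_lt).1 (by rwa [pow_one])
  rw [show k = 1 by omega, pow_one]

/-- The map `e ↦ [g, e]` on an abelian subgroup normalised by `g`. -/
def delta {E : Subgroup Ω} (hab : IsMulCommutative ↥E) {g : Ω}
    (hg : g ∈ normalizer (E : Set Ω)) : ↥E →* ↥E :=
  MonoidHom.mk'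
    (fun e => ⟨g * (e : Ω) * g⁻¹ * (e : Ω)⁻¹,
      mul_mem ((mem_normalizer_iff.1 hg e).1 e.2) (inv_mem e.2)⟩)
    fun a b => by
      let u : ↥E := ⟨g * (a : Ω) * g⁻¹, (mem_normalizer_iff.1 hg a).1 a.2⟩
      let v : ↥E := ⟨g * (b : Ω) * g⁻¹, (mem_normalizer_iff.1 hg b).1 b.2⟩
      have e0 : ∀ x y z w : ↥E, x * y * (z * w)⁻¹ = x * z⁻¹ * (y * w⁻¹) := fun x y z w => by
        rw [_root_.mul_inv_rev, hab.is_comm.comm w⁻¹ z⁻¹, mul_assoc, ← mul_assoc y z⁻¹,
          hab.is_comm.comm y z⁻¹]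
        simp only [mul_assoc]
      have := congrArg Subtype.val (e0 u v a b)
      refine Subtype.ext ?_
      push_cast [u, v] at this ⊢
      rw [← this]
      group

variable {S E : Subgroup Ω} [Finite ↥S] (hS : IsPGroup p ↥S) (hES : E ≤ S)
  (hE : Nat.card ↥E = p ^ 3) (hab : IsMulCommutative ↥E) (hC : centralizerIn S E = E)
include hS hES hE hab hC

theorem exists_transvection (hbig : p ^ 5 ≤ Nat.card ↥S) :
    ∃ g ∈ normalizerIn S E, g ∉ E ∧ ∃ l ∈ E, orderOf l = p ∧ Commute g l ∧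
      ∀ e ∈ E, ⁅g, e⁆ ∈ zpowers l := by
  have hp1 := hp.out.one_lt
  haveI : Finite E := Fusion.finite_of_le hES
  set N := normalizerIn S E with hNdef
  have hNS : N ≤ S := inf_le_left
  haveI : Finite N := Fusion.finite_of_le hNS
  have hNp : IsPGroup p ↥N := hS.to_le hNS
  have hEN : E ≤ N := le_inf hES le_normalizer
  have hNE : N ≤ normalizer (E : Set Ω) := inf_le_right
  obtain ⟨k, hk⟩ := IsPGroup.iff_card.1 hNp
  have hlt : E < N := Fusion.lt_normalizerIn hS (lt_of_le_of_ne hES fun h => by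
    rw [← h, hE] at hbig
    exact absurd ((Nat.pow_le_pow_iff_right hp1).1 hbig) (by omega))
  have hk4 : 4 ≤ k := by
    have := lt_of_le_of_ne (Subgroup.card_le_of_le hEN) fun h =>
      hlt.ne (Subgroup.eq_of_le_of_card_ge hEN h.ge)
    rw [hE, hk] at this
    exact (Nat.pow_lt_pow_iff_right hp1).1 this
  have fin : ∀ (g : Ω) (hg : g ∈ N), g ∉ E → Nat.card ↥(delta hab (hNE hg)).range ≤ p →
      ∃ g ∈ N, g ∉ E ∧ ∃ l ∈ E, orderOf l = p ∧ Commute g l ∧ ∀ e ∈ E, ⁅g, e⁆ ∈ zpowers l := by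
    intro g hg hgE hcard
    set δ := delta hab (hNE hg) with hδ
    set L := δ.range.map E.subtype with hLdef
    have hLE : L ≤ E := map_subtype_le _
    haveI : Finite L := Fusion.finite_of_le (hLE.trans hES)
    have hLc : Nat.card ↥L ≤ p := by rwa [hLdef, card_map_of_injective E.subtype_injective]
    have hne : L ≠ ⊥ := by
      intro hb
      refine hgE (hC ▸ ⟨hNS hg, mem_centralizer_iff.2 fun e he => ?_⟩)
      have h1 : g * e * g⁻¹ * e⁻¹ = 1 := mem_bot.1 (hb ▸ ⟨δ ⟨e, he⟩, ⟨_, rfl⟩, rfl⟩)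
      rw [← commutatorElement_def, commutatorElement_eq_one_iff_mul_comm] at h1
      exact h1.symm
    have hcp := card_eq_prime_of_le (hS.to_le (hLE.trans hES)) hne hLc
    obtain ⟨⟨l, hl⟩, hord⟩ := exists_prime_orderOf_dvd_card' (G := ↥L) p (hcp ▸ dvd_rfl)
    rw [Subgroup.orderOf_mk] at hord
    have hLz : L = zpowers l := (Subgroup.eq_of_le_of_card_ge (zpowers_le.2 hl)
      (by rw [Nat.card_zpowers, hord, hcp])).symm
    have hinv : g ∈ normalizer (L : Set Ω) := mem_normalizer_of_conj (by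
      rintro _ ⟨_, ⟨e, rfl⟩, rfl⟩
      refine ⟨δ ⟨g * (e : Ω) * g⁻¹, (mem_normalizer_iff.1 (hNE hg) e).1 e.2⟩, ⟨_, rfl⟩, ?_⟩
      simp [hδ, delta, mul_assoc])
    have hzN : zpowers g ≤ N := zpowers_le.2 hg
    haveI : Finite ↥(zpowers g ⊔ L : Subgroup Ω) :=
      Fusion.finite_of_le ((sup_le hzN (hLE.trans hEN)).trans hNS)
    have hbot : ⁅L, zpowers g ⊔ L⁆ = ⊥ := by
      have h1 := comm_lt (hS.to_le ((sup_le hzN (hLE.trans hEN)).trans hNS))
        (le_sup_right : L ≤ zpowers g ⊔ L)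
        (sup_le (zpowers_le.2 hinv) le_normalizer) hne
      rw [hcp] at h1
      have h2 : Nat.card ↥(⁅L, zpowers g ⊔ L⁆ : Subgroup Ω) ≤ 1 :=
        Nat.le_of_mul_le_mul_right (by rwa [one_mul]) hp.out.pos
      haveI : Finite ↥(⁅L, zpowers g ⊔ L⁆ : Subgroup Ω) := Fusion.finite_of_le (K := S) (by
        refine commutator_le.2 fun x hx y hy => ?_
        have hy' := (sup_le hzN (hLE.trans hEN)).trans hNS hy
        have hx' := hES (hLE hx)
        rw [commutatorElement_def]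
        exact mul_mem (mul_mem (mul_mem hx' hy') (inv_mem hx')) (inv_mem hy'))
      exact (card_le_one_iff_eq_bot _).1 h2
    refine ⟨g, hg, hgE, l, hLE hl, hord, ?_, fun e he => hLz ▸ ⟨δ ⟨e, he⟩, ⟨_, rfl⟩, rfl⟩⟩
    have := commutator_mem_commutator hl (mem_sup_left (mem_zpowers g) : g ∈ zpowers g ⊔ L)
    rw [hbot, mem_bot, commutatorElement_eq_one_iff_commute] at this
    exact this.symm
  by_cases hk5 : k = 4
  · -- a second abelian subgroup of index `p` in the normalizer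
    subst hk5
    have hNlt : N < S := lt_of_le_of_ne hNS fun h => by
      rw [← h, hk] at hbig
      exact absurd ((Nat.pow_le_pow_iff_right hp1).1 hbig) (by omega)
    obtain ⟨h, hh, hhN⟩ := SetLike.exists_of_lt (Fusion.lt_normalizerIn hS hNlt)
    set E' := E.map (MulAut.conj h).toMonoidHom with hE'def
    have hE'N : E' ≤ N := by
      rintro _ ⟨e, he, rfl⟩
      exact (mem_normalizer_iff.1 hh.2 e).1 (hEN he)
    haveI : Finite E' := Fusion.finite_of_le (hE'N.trans hNS)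
    have hE'c : Nat.card ↥E' = p ^ 3 := by
      rw [hE'def, card_map_of_injective (MulAut.conj h).injective, hE]
    have hne : ¬ E' ≤ E := fun hle => hhN ⟨hh.1, mem_normalizer_of_conj fun e he =>
      hle ⟨e, he, rfl⟩⟩
    have hsup : E ⊔ E' = N := by
      have hle : E ⊔ E' ≤ N := sup_le hEN hE'N
      haveI : Finite ↥(E ⊔ E' : Subgroup Ω) := Fusion.finite_of_le (hle.trans hNS)
      refine Subgroup.eq_of_le_of_card_ge hle ?_
      obtain ⟨j, hj⟩ := IsPGroup.iff_card.1 (hS.to_le (hle.trans hNS))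
      have h1 : Nat.card ↥E < Nat.card ↥(E ⊔ E' : Subgroup Ω) :=
        lt_of_le_of_ne (Subgroup.card_le_of_le le_sup_left) fun h =>
          hne (le_sup_right.trans_eq (Subgroup.eq_of_le_of_card_ge le_sup_left h.ge).symm)
      rw [hE, hj] at h1
      rw [hj, hk]
      exact Nat.pow_le_pow_right hp.out.pos ((Nat.pow_lt_pow_iff_right hp1).1 h1)
    have hcen : E' ⊓ E ≤ centralizer (N : Set Ω) := by
      rw [le_centralizer_iff, ← hsup]
      refine sup_le (fun x hx => ?_) fun x hx => ?_ <;>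
        refine mem_centralizer_iff.2 fun y hy => ?_
      · exact congrArg Subtype.val (hab.is_comm.comm (⟨y, hy.2⟩ : ↥E) ⟨x, hx⟩)
      · obtain ⟨a, ha, rfl⟩ := hy.1
        obtain ⟨b, hb, rfl⟩ := hx
        have e := congrArg Subtype.val (hab.is_comm.comm (⟨a, ha⟩ : ↥E) ⟨b, hb⟩)
        simp only [Subgroup.coe_mul] at e
        rw [← map_mul, ← map_mul, e]
    have hcard2 : p ^ 2 ≤ Nat.card ↥(E' ⊓ E : Subgroup Ω) := by
      have h1 := PLocalB.card_sup_mul_card_inf E' E (hE'N.trans hNE)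
      rw [sup_comm, hsup, hk, hE'c, hE] at h1
      refine Nat.le_of_mul_le_mul_left ?_ (pow_pos hp.out.pos 4)
      rw [h1, ← pow_add, ← pow_add]
    obtain ⟨g, hg, hgE⟩ := SetLike.exists_of_lt hlt
    refine fin g hg hgE ?_
    set δ := delta hab (hNE hg) with hδ
    have hker : (E' ⊓ E).subgroupOf E ≤ δ.ker := fun e he => Subtype.ext (by
      have h1 : g * (e : Ω) = (e : Ω) * g := mem_centralizer_iff.1 (hcen he) g hg
      show g * (e : Ω) * g⁻¹ * (e : Ω)⁻¹ = 1
      rw [h1]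
      group)
    have h2 := card_mul_index δ.ker
    rw [index_ker, hE] at h2
    have h3 : p ^ 2 ≤ Nat.card ↥δ.ker := hcard2.trans
      ((Nat.card_congr (subgroupOfEquivOfLe inf_le_right).toEquiv).symm.le.trans
        (Subgroup.card_le_of_le hker))
    refine Nat.le_of_mul_le_mul_left ?_ (pow_pos hp.out.pos 2)
    calc p ^ 2 * Nat.card ↥δ.range ≤ Nat.card ↥δ.ker * Nat.card ↥δ.range := Nat.mul_le_mul_right _ h3
      _ = p ^ 2 * p := by rw [h2, pow_succ]
  -- a large normalizer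
  set K1 := ⁅E, N⁆ with hK1
  have hK1E : K1 ≤ E := commutator_le.2 fun x hx g hg => by
    have h1 := (mem_normalizer_iff.1 (hNE hg) x⁻¹).1 (inv_mem hx)
    rw [commutatorElement_def, mul_assoc, mul_assoc, ← mul_assoc g]
    exact mul_mem hx h1
  haveI : Finite K1 := Fusion.finite_of_le (hK1E.trans hES)
  have hEne : E ≠ ⊥ := fun h => by
    rw [h, card_bot] at hE
    exact (Nat.one_lt_pow (by omega) hp1).ne hE
  have hK1c : Nat.card ↥K1 ≤ p ^ 2 := by
    refine Nat.le_of_mul_le_mul_right ?_ hp.out.pos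
    rw [← pow_succ, ← hE]
    exact comm_lt hNp hEN hNE hEne
  have hcomm : ∀ g ∈ N, ∀ e ∈ E, ⁅g, e⁆ ∈ K1 := fun g hg e he => by
    rw [← commutatorElement_inv]
    exact inv_mem (commutator_mem_commutator he hg)
  rcases Nat.lt_or_ge (Nat.card ↥K1) (p ^ 2) with hsmall | hbig1
  · obtain ⟨g, hg, hgE⟩ := SetLike.exists_of_lt hlt
    refine fin g hg hgE ?_
    have h1 : (delta hab (hNE hg)).range.map E.subtype ≤ K1 := by
      rintro _ ⟨_, ⟨e, rfl⟩, rfl⟩
      exact hcomm g hg e e.2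
    have h2 := Subgroup.card_le_of_le h1
    rw [card_map_of_injective E.subtype_injective] at h2
    obtain ⟨j, hj⟩ := IsPGroup.iff_card.1 (hS.to_le (hK1E.trans hES))
    rw [hj] at h2 hsmall
    refine h2.trans ((Nat.pow_le_pow_right hp.out.pos (show j ≤ 1 from ?_)).trans_eq (pow_one p))
    have := (Nat.pow_lt_pow_iff_right hp1).1 hsmall
    omega
  have hK1eq : Nat.card ↥K1 = p ^ 2 := le_antisymm hK1c hbig1
  have hNK1 : N ≤ normalizer (K1 : Set Ω) := fun g hg => mem_normalizer_of_conj fun x hx => by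
    rw [conj_eq_comm_mul]
    exact mul_mem (hcomm g hg x (hK1E hx)) hx
  set K2 := ⁅K1, N⁆ with hK2
  have hK1ne : K1 ≠ ⊥ := fun h => by
    rw [h, card_bot] at hK1eq
    exact (Nat.one_lt_pow (by omega) hp1).ne hK1eq
  have hK2K1 : K2 ≤ K1 := commutator_le.2 fun x hx g hg => by
    have h1 := (mem_normalizer_iff.1 (hNK1 hg) x⁻¹).1 (inv_mem hx)
    rw [commutatorElement_def, mul_assoc, mul_assoc, ← mul_assoc g]
    exact mul_mem hx h1
  haveI : Finite K2 := Fusion.finite_of_le (hK2K1.trans (hK1E.trans hES))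
  have hK2c : Nat.card ↥K2 ≤ p := by
    refine Nat.le_of_mul_le_mul_right ?_ hp.out.pos
    rw [← sq, ← hK1eq]
    exact comm_lt hNp (hK1E.trans hEN) hNK1 hK1ne
  obtain ⟨P, hPK1, hPc, hK2P⟩ : ∃ P : Subgroup Ω, P ≤ K1 ∧ Nat.card ↥P = p ∧ K2 ≤ P := by
    by_cases hb : K2 = ⊥
    · obtain ⟨⟨z, hz⟩, hord⟩ := exists_prime_orderOf_dvd_card' (G := ↥K1) p
        (hK1eq ▸ dvd_pow_self p two_ne_zero)
      rw [Subgroup.orderOf_mk] at hord
      exact ⟨zpowers z, zpowers_le.2 hz, by rw [Nat.card_zpowers, hord], hb ▸ bot_le⟩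
    · exact ⟨K2, hK2K1, card_eq_prime_of_le (hS.to_le (hK2K1.trans (hK1E.trans hES))) hb hK2c,
        le_rfl⟩
  obtain ⟨e, he, heK1⟩ : ∃ e ∈ E, e ∉ K1 := by
    by_contra! hc
    have := Subgroup.card_le_of_le (show E ≤ K1 from hc)
    rw [hE, hK1eq] at this
    exact absurd ((Nat.pow_le_pow_iff_right hp1).1 this) (by omega)
  haveI : IsMulCommutative ↥K1 := IsPGroup.isMulCommutative_of_card_eq_prime_sq hK1eq
  set P' := P.subgroupOf K1 with hP'
  haveI : P'.Normal := ⟨fun x hx y => by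
    rwa [IsMulCommutative.is_comm.comm y x, mul_inv_cancel_right]⟩
  let φ : ↥N →* ↥K1 ⧸ P' := MonoidHom.mk'
    (fun g => QuotientGroup.mk' P' ⟨⁅(g : Ω), e⁆, hcomm g g.2 e he⟩) fun a b => by
      let u : ↥K1 := ⟨⁅(a : Ω), e⁆, hcomm a a.2 e he⟩
      let v : ↥K1 := ⟨⁅(b : Ω), e⁆, hcomm b b.2 e he⟩
      let w : ↥K1 := ⟨⁅(a : Ω), ⁅(b : Ω), e⁆⁆, hcomm a a.2 _ (hK1E v.2)⟩
      have hw : QuotientGroup.mk' P' w = 1 := by
        refine (QuotientGroup.eq_one_iff _).2 (mem_subgroupOf.2 (hK2P ?_))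
        show ⁅(a : Ω), ⁅(b : Ω), e⁆⁆ ∈ K2
        rw [← commutatorElement_inv]
        exact inv_mem (commutator_mem_commutator v.2 a.2)
      have e1 : (⟨⁅((a * b : ↥N) : Ω), e⁆, hcomm _ (a * b).2 e he⟩ : ↥K1) = w * v * u := by
        refine Subtype.ext ?_
        simp only [u, v, w, Subgroup.coe_mul, commutatorElement_def]
        group
      show QuotientGroup.mk' P' _ = QuotientGroup.mk' P' u * QuotientGroup.mk' P' v
      rw [e1, map_mul, map_mul, hw, one_mul, ← map_mul, ← map_mul]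
      exact congrArg _ (IsMulCommutative.is_comm.comm _ _)
  have hQ : Nat.card (↥K1 ⧸ P') = p := by
    have h1 := card_eq_card_quotient_mul_card_subgroup P'
    rw [hK1eq, Nat.card_congr (subgroupOfEquivOfLe hPK1).toEquiv, hPc, sq] at h1
    exact (Nat.eq_of_mul_eq_mul_right hp.out.pos h1).symm
  haveI : Finite (↥K1 ⧸ P') := inferInstance
  have hkerc : p ^ 4 ≤ Nat.card ↥φ.ker := by
    have h1 := card_mul_index φ.ker
    rw [index_ker, hk] at h1
    have h2 : Nat.card ↥φ.range ≤ p := (Subgroup.card_le_card_group _).trans hQ.le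
    refine Nat.le_of_mul_le_mul_right ?_ hp.out.pos
    calc p ^ 4 * p = p ^ 5 := by rw [← pow_succ]
      _ ≤ p ^ k := Nat.pow_le_pow_right hp.out.pos (by omega)
      _ ≤ Nat.card ↥φ.ker * p := h1 ▸ Nat.mul_le_mul_left _ h2
  obtain ⟨⟨g, hg⟩, hgker, hgE⟩ : ∃ g ∈ φ.ker, (g : Ω) ∉ E := by
    by_contra! hc
    have h1 : φ.ker.map N.subtype ≤ E := by
      rintro _ ⟨g, hg, rfl⟩
      exact hc g hg
    have h2 := Subgroup.card_le_of_le h1
    rw [card_map_of_injective N.subtype_injective, hE] at h2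
    exact absurd ((Nat.pow_le_pow_iff_right hp1).1 (hkerc.trans h2)) (by omega)
  refine fin g hg hgE ?_
  set δ := delta hab (hNE hg) with hδ
  have htop : K1.subgroupOf E ⊔ zpowers (⟨e, he⟩ : ↥E) = ⊤ := by
    refine Subgroup.eq_top_of_le_card _ ?_
    obtain ⟨j, hj⟩ := PGroup.exists_card_eq_pow (hS.to_le hES)
      (K1.subgroupOf E ⊔ zpowers (⟨e, he⟩ : ↥E))
    have h1 : Nat.card ↥(K1.subgroupOf E) <
        Nat.card ↥(K1.subgroupOf E ⊔ zpowers (⟨e, he⟩ : ↥E) : Subgroup ↥E) :=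
      lt_of_le_of_ne (Subgroup.card_le_of_le le_sup_left) fun h => heK1 (mem_subgroupOf.1
        ((Subgroup.eq_of_le_of_card_ge le_sup_left h.ge).ge (mem_sup_right (mem_zpowers _))))
    rw [Nat.card_congr (subgroupOfEquivOfLe hK1E).toEquiv, hK1eq, hj] at h1
    rw [hE, hj]
    exact Nat.pow_le_pow_right hp.out.pos ((Nat.pow_lt_pow_iff_right hp1).1 h1)
  have hrange : δ.range.map E.subtype ≤ P := by
    rw [MonoidHom.range_eq_map, ← htop, Subgroup.map_sup, Subgroup.map_sup]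
    refine sup_le ?_ ?_
    · rintro _ ⟨_, ⟨x, hx, rfl⟩, rfl⟩
      show ⁅g, (x : Ω)⁆ ∈ P
      rw [← commutatorElement_inv]
      exact inv_mem (hK2P (commutator_mem_commutator hx hg))
    · rw [MonoidHom.map_zpowers, MonoidHom.map_zpowers, zpowers_le]
      have h3 : QuotientGroup.mk' P' ⟨⁅g, e⁆, hcomm g hg e he⟩ = 1 := hgker
      have h4 : (⟨⁅g, e⁆, hcomm g hg e he⟩ : ↥K1) ∈ P' := (QuotientGroup.eq_one_iff _).1 h3
      exact h4
  haveI : Finite P := Fusion.finite_of_le (hPK1.trans (hK1E.trans hES))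
  have h2 := Subgroup.card_le_of_le (K := P) hrange
  rwa [card_map_of_injective E.subtype_injective, hPc] at h2

end Cfsg.Agent.MaxEss41
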