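import Cfsg.Agent.FG72.MaxClass.Periodic

/-!
In a `p`-group of maximal class the first two-step centraliser is contained in all the two-step
centralisers except possibly the last one.
-/

set_option autoImplicit false
set_option linter.unusedSectionVars false
set_option linter.style.haveILetI false

namespace Cfsg.Agent.MaxEss41

open Subgroup FG38 SectRank81 FG72.MaxClass
open scoped commutatorElement

variable {G : Type*} [Group G]

/-- The commutator relation induced by one step of conjugation. -/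
theorem rel {m i j : ℕ} (hm : i + j = m) (hi : 1 ≤ i) (hj : 1 ≤ j) {g y w : G} (hy : y ∈ filt G i) (hw : w ∈ filt G j)
    (hg : g ∈ filt G 1) :
    QuotientGroup.mk' (filt G (m + 2)) ⁅g, ⁅y, w⁆⁆ =
      QuotientGroup.mk' (filt G (m + 2)) (⁅y, ⁅g, w⁆⁆ * ⁅⁅g, y⁆, w⁆) := by
  set π := QuotientGroup.mk' (filt G (m + 2)) with hπ
  set x := ⁅g, y⁆ with hxdef
  set z := ⁅g, w⁆ with hzdef
  set c := ⁅y, w⁆ with hcdef
  have hx : x ∈ filt G (1 + i) := filt_commutator 1 i (commutator_mem_commutator hg hy)
  have hz : z ∈ filt G (1 + j) := filt_commutator 1 j (commutator_mem_commutator hg hw)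
  have hc : c ∈ filt G m := hm ▸ filt_commutator i j (commutator_mem_commutator hy hw)
  have comm : ∀ a b : ℕ, m + 2 ≤ a + b → ∀ u ∈ filt G a, ∀ v ∈ filt G b, Commute (π u) (π v) := by
    intro a b hab u hu v hv
    rw [← commutatorElement_eq_one_iff_commute, ← map_commutatorElement]
    exact (QuotientGroup.eq_one_iff _).2
      (filt_antitone hab (filt_commutator a b (commutator_mem_commutator hu hv)))
  have htop : ∀ u : G, u ∈ filt G 1 := fun u => mem_top u
  have h1 : ⁅y, z⁆ ∈ filt G (i + (1 + j)) := filt_commutator _ _ (commutator_mem_commutator hy hz)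
  have h2 : ⁅x, w⁆ ∈ filt G ((1 + i) + j) := filt_commutator _ _ (commutator_mem_commutator hx hw)
  have h3 : π ⁅x, z⁆ = 1 := (QuotientGroup.eq_one_iff _).2
    (filt_antitone (by omega) (filt_commutator _ _ (commutator_mem_commutator hx hz)))
  have key : π (g * c * g⁻¹) = π ⁅x * y, z * w⁆ := by
    congr 1
    simp only [hxdef, hzdef, hcdef, commutatorElement_def]
    group
  have e : ⁅x * y, z * w⁆ =
      (x * (⁅y, z⁆ * (z * c * z⁻¹)) * x⁻¹) * (⁅x, z⁆ * (z * ⁅x, w⁆ * z⁻¹)) := by
    simp only [hcdef, commutatorElement_def]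
    group
  have cc : ∀ (a : ℕ) (u : G), u ∈ filt G a → ∀ (b : ℕ) (v : G), v ∈ filt G b → m + 2 ≤ a + b →
      π u * π v * (π u)⁻¹ = π v := fun a u hu b v hv hab => by
    rw [(comm a b hab u hu v hv).eq, mul_inv_cancel_right]
  rw [e] at key
  simp only [map_mul, map_inv, h3, one_mul] at key
  rw [cc _ z hz _ c hc (by omega),
    cc _ z hz _ _ h2 (by omega)] at key
  have e2 : π x * (π ⁅y, z⁆ * π c) * (π x)⁻¹ =
      (π x * π ⁅y, z⁆ * (π x)⁻¹) * (π x * π c * (π x)⁻¹) := by group
  rw [e2, cc _ x hx _ _ h1 (by omega), cc _ x hx _ c hc (by omega)] at key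
  have e3 : π ⁅g, c⁆ = π g * π c * (π g)⁻¹ * (π c)⁻¹ := by
    rw [map_commutatorElement, commutatorElement_def]
  rw [map_mul, e3, key]
  have h4 : Commute (π ⁅x, w⁆) (π c) := comm _ _ (by omega) _ h2 _ hc
  have h5 : Commute (π ⁅y, z⁆) (π c) := comm _ _ (by omega) _ h1 _ hc
  calc π ⁅y, z⁆ * π c * π ⁅x, w⁆ * (π c)⁻¹ = π ⁅y, z⁆ * (π c * π ⁅x, w⁆) * (π c)⁻¹ := by group
    _ = π ⁅y, z⁆ * (π ⁅x, w⁆ * π c) * (π c)⁻¹ := by rw [h4.eq]
    _ = π ⁅y, z⁆ * π ⁅x, w⁆ := by group

/-- The iterated commutators of `a` with `g`, numbered from `1`. -/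
def dseq (g a : G) : ℕ → G
  | 0 => a
  | 1 => a
  | k + 2 => ⁅g, dseq g a (k + 1)⁆

theorem dseq_one (g a : G) : dseq g a 1 = a := rfl

theorem dseq_succ (g a : G) {i : ℕ} (hi : 1 ≤ i) : dseq g a (i + 1) = ⁅g, dseq g a i⁆ := by
  obtain ⟨k, rfl⟩ := Nat.exists_eq_add_of_le hi
  rw [show 1 + k = k + 1 by omega]
  rfl

theorem dseq_mem (g a : G) : ∀ i, dseq g a i ∈ filt G i
  | 0 => mem_top _
  | 1 => mem_top _
  | k + 2 => by
    have h : (1 : ℕ) + (k + 1) = k + 2 := by omega
    rw [← h, show 1 + (k + 1) = (k + 1) + 1 by omega, dseq_succ g a (by omega)]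
    have h2 := filt_commutator 1 (k + 1)
      (commutator_mem_commutator (show g ∈ filt G 1 from mem_top g) (dseq_mem g a (k + 1)))
    rwa [add_comm 1 (k + 1)] at h2

variable [Finite G] {p n : ℕ} [hp : Fact p.Prime]

/-- If `[g, γ_{m}]` is central of the layer and `g` centralises the last layer reached, the pairing
alternates; in an odd situation the first term is trivial. -/
theorem alternate {g a : G} {m : ℕ} (hm : 2 ≤ m)
    (hk : ∀ i, 1 ≤ i → i < m →
      ⁅g, ⁅dseq g a i, dseq g a (m - i)⁆⁆ ∈ filt G (m + 2)) :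
    ∀ i, 1 ≤ i → i < m → QuotientGroup.mk' (filt G (m + 2)) ⁅dseq g a (i + 1), dseq g a (m - i)⁆ =
      (QuotientGroup.mk' (filt G (m + 2)) ⁅dseq g a i, dseq g a (m + 1 - i)⁆)⁻¹ := by
  intro i hi him
  have h1 := rel (g := g) (show i + (m - i) = m by omega) hi (by omega) (dseq_mem g a i) (dseq_mem g a (m - i))
    (mem_top g)
  have h2 : QuotientGroup.mk' (filt G (m + 2)) ⁅g, ⁅dseq g a i, dseq g a (m - i)⁆⁆ = 1 :=
    (QuotientGroup.eq_one_iff _).2 (hk i hi him)
  rw [h2, ← dseq_succ g a hi, ← dseq_succ g a (show 1 ≤ m - i by omega),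
    show m - i + 1 = m + 1 - i by omega, map_mul] at h1
  exact eq_inv_of_mul_eq_one_right h1.symm

theorem alternate_one {g a : G} {m r : ℕ} (hm : m + 1 = 2 * r) (hr : 2 ≤ r)
    (hk : ∀ i, 1 ≤ i → i < m → ⁅g, ⁅dseq g a i, dseq g a (m - i)⁆⁆ ∈ filt G (m + 2)) :
    ⁅a, dseq g a m⁆ ∈ filt G (m + 2) := by
  set π := QuotientGroup.mk' (filt G (m + 2))
  have key : ∀ i, 1 ≤ i → i ≤ r →
      π ⁅dseq g a i, dseq g a (m + 1 - i)⁆ = 1 → π ⁅dseq g a 1, dseq g a (m + 1 - 1)⁆ = 1 := by
    intro i hi
    induction i, hi using Nat.le_induction with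
    | base => exact fun _ h => h
    | succ i hi ih =>
      intro hir h
      refine ih (by omega) ?_
      rw [show m + 1 - (i + 1) = m - i by omega] at h
      have := alternate (by omega) hk i hi (by omega)
      rw [h] at this
      exact inv_eq_one.1 this.symm
  have h0 : π ⁅dseq g a r, dseq g a (m + 1 - r)⁆ = 1 := by
    rw [show m + 1 - r = r by omega, commutatorElement_self, map_one]
  have := key r (by omega) le_rfl h0
  rw [dseq_one, show m + 1 - 1 = m by omega] at this
  exact (QuotientGroup.eq_one_iff _).1 this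

variable (h : MaxCl p n G)
include h

theorem layer_le_of_mem {i : ℕ} (hi : 2 ≤ i) (hin : i + 1 ≤ n) {v : G} (hv : v ∈ filt G i)
    (hv' : v ∉ filt G (i + 1)) {g : G} (hg : ⁅g, v⁆ ∈ filt G (i + 2)) : g ∈ twoStep G (i - 1) := by
  refine (mem_twoStep' (by omega)).2 fun w hw => ?_
  obtain ⟨w₁, hw₁, w₂, hw₂, rfl⟩ := mem_sup_of_normal_right.1 (h.layer_gen hi hin hv hv' hw)
  obtain ⟨s, rfl⟩ := mem_zpowers_iff.1 hw₁
  set π := QuotientGroup.mk' (filt G (i + 2))
  refine (QuotientGroup.eq_one_iff _).1 ?_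
  show π ⁅g, v ^ s * w₂⁆ = 1
  rw [map_commutatorElement, commutatorElement_eq_one_iff_mul_comm, map_mul, map_zpow]
  refine (Commute.mul_right (Commute.zpow_right ?_ s) ?_).eq
  · rw [← commutatorElement_eq_one_iff_commute, ← map_commutatorElement]
    exact (QuotientGroup.eq_one_iff _).2 hg
  · rw [← commutatorElement_eq_one_iff_commute, ← map_commutatorElement]
    refine (QuotientGroup.eq_one_iff _).2 (filt_antitone (show i + 2 ≤ 1 + (i + 1) by omega) ?_)
    exact filt_commutator 1 (i + 1) (commutator_mem_commutator (mem_top g) hw₂)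

theorem filt_two_le_twoStep (i : ℕ) (hi : 1 ≤ i) : filt G 2 ≤ twoStep G (i - 1) := fun g hg =>
  (mem_twoStep' hi).2 fun a ha =>
    filt_antitone (by omega) (filt_commutator 2 i (commutator_mem_commutator hg ha))

theorem card_of_between {K : Subgroup G} (hK : filt G 2 ≤ K) (hne : K ≠ ⊤) {e : G} (he : e ∈ K)
    (he2 : e ∉ filt G 2) : Nat.card K = p ^ (n - 1) := by
  have h3 := h.three
  obtain ⟨t, ht⟩ := PGroup.exists_card_eq_pow h.isPGroup K
  have h1 : p ^ (n - 2) < p ^ t := by
    rw [← h.layer 2 le_rfl (by omega), ← ht]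
    refine lt_of_le_of_ne (Subgroup.card_le_of_le hK) fun hc => he2 ?_
    rw [Subgroup.eq_of_le_of_card_ge hK hc.ge]
    exact he
  have h2 : p ^ t < p ^ n := by
    rw [← ht, ← h.card]
    exact lt_of_le_of_ne (Subgroup.card_le_card_group _) fun hc => hne (Subgroup.eq_top_of_card_eq _ hc)
  have h1' := (Nat.pow_lt_pow_iff_right hp.out.one_lt).1 h1
  have h2' := (Nat.pow_lt_pow_iff_right hp.out.one_lt).1 h2
  rw [ht]
  congr 1
  omega

theorem card_le_of_ne_top {K : Subgroup G} (hne : K ≠ ⊤) : Nat.card K ≤ p ^ (n - 1) := by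
  obtain ⟨t, ht⟩ := PGroup.exists_card_eq_pow h.isPGroup K
  have h2 : p ^ t < p ^ n := by
    rw [← ht, ← h.card]
    exact lt_of_le_of_ne (Subgroup.card_le_card_group _) fun hc => hne (Subgroup.eq_top_of_card_eq _ hc)
  have h2' := (Nat.pow_lt_pow_iff_right hp.out.one_lt).1 h2
  rw [ht]
  exact Nat.pow_le_pow_right hp.out.pos (by omega)

/-- An element of a maximal subgroup and one outside generate the group, hence the second layer. -/
theorem comm_not_mem {K : Subgroup G} (hK : filt G 2 ≤ K) {e g : G} (he : e ∈ K)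
    (he2 : e ∉ filt G 2) (hg : g ∉ K) : ⁅g, e⁆ ∉ filt G 3 := by
  intro hc
  have h3 := h.three
  have hKne : K ≠ ⊤ := fun h => hg (h ▸ mem_top g)
  set π := QuotientGroup.mk' (filt G 3) with hπ
  have hgen : zpowers g ⊔ zpowers e ⊔ filt G 2 = ⊤ := by
    by_contra hne
    have h1 := card_of_between h (K := zpowers g ⊔ zpowers e ⊔ filt G 2) le_sup_right hne
      (mem_sup_left (mem_sup_right (mem_zpowers e))) he2
    have h2 := card_of_between h hK hKne he he2
    have hle : K ⊓ (zpowers g ⊔ zpowers e ⊔ filt G 2) ≤ K := inf_le_left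
    have h4 := card_of_between h (K := K ⊓ (zpowers g ⊔ zpowers e ⊔ filt G 2)) (le_inf hK le_sup_right)
      (fun h => hKne (top_le_iff.1 (h ▸ hle))) ⟨he, mem_sup_left (mem_sup_right (mem_zpowers e))⟩ he2
    have e1 := Subgroup.eq_of_le_of_card_ge hle (by rw [h2, h4])
    have e2 := Subgroup.eq_of_le_of_card_ge
      (show K ⊓ (zpowers g ⊔ zpowers e ⊔ filt G 2) ≤ zpowers g ⊔ zpowers e ⊔ filt G 2 from inf_le_right)
      (by rw [h1, h4])
    exact hg (e1 ▸ e2.symm ▸ mem_sup_left (mem_sup_left (mem_zpowers g)))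
  have hcen : ∀ u ∈ filt G 2, ∀ v : G, Commute (π u) (π v) := fun u hu v => by
    rw [← commutatorElement_eq_one_iff_commute, ← map_commutatorElement]
    exact (QuotientGroup.eq_one_iff _).2 (filt_commutator 2 1 (commutator_mem_commutator hu (mem_top v)))
  have hge : Commute (π g) (π e) := by
    rw [← commutatorElement_eq_one_iff_commute, ← map_commutatorElement]
    exact (QuotientGroup.eq_one_iff _).2 hc
  have hab : ∀ u v : G, Commute (π u) (π v) := by
    have hcentral : ∀ u : G, (u = g ∨ u = e) → ∀ v : G, Commute (π u) (π v) := by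
      intro u hu v
      have hv : v ∈ (centralizer ({π u} : Set (G ⧸ filt G 3))).comap π := by
        refine (hgen ▸ sup_le (sup_le ?_ ?_) ?_ : (⊤ : Subgroup G) ≤ _) (mem_top v)
        · refine zpowers_le.2 (mem_centralizer_singleton_iff.2 ?_)
          rcases hu with rfl | rfl
          · rfl
          · exact hge.eq
        · refine zpowers_le.2 (mem_centralizer_singleton_iff.2 ?_)
          rcases hu with rfl | rfl
          · exact hge.eq.symm
          · rfl
        · exact fun w hw => mem_centralizer_singleton_iff.2 (hcen w hw u).eq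
      exact (mem_centralizer_singleton_iff.1 hv).symm
    intro u v
    have hu : u ∈ (centralizer ({π v} : Set (G ⧸ filt G 3))).comap π := by
      refine (hgen ▸ sup_le (sup_le ?_ ?_) ?_ : (⊤ : Subgroup G) ≤ _) (mem_top u)
      · exact zpowers_le.2 (mem_centralizer_singleton_iff.2 (hcentral g (Or.inl rfl) v).eq)
      · exact zpowers_le.2 (mem_centralizer_singleton_iff.2 (hcentral e (Or.inr rfl) v).eq)
      · exact fun w hw => mem_centralizer_singleton_iff.2 (hcen w hw v).eq
    exact mem_centralizer_singleton_iff.1 hu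
  obtain ⟨v, hv, hv'⟩ := h.exists_not_mem_succ (i := 2) le_rfl (by omega)
  have hle : filt G 2 ≤ filt G 3 := by
    rw [filt_two, _root_.commutator_def, commutator_le]
    intro a _ b _
    rw [← QuotientGroup.eq_one_iff]
    show π ⁅a, b⁆ = 1
    rw [map_commutatorElement]
    exact commutatorElement_eq_one_iff_commute.2 (hab a b)
  exact hv' (hle hv)

/-- The first two-step centraliser lies in all but possibly the last one. -/
theorem twoStep_first_le (hp5 : 5 ≤ p) :
    ∀ k, 2 ≤ k → k + 3 ≤ n → twoStep G (2 - 1) ≤ twoStep G (k - 1) := by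
  intro k
  induction k using Nat.strong_induction_on with
  | _ k ih =>
  intro hk hkn e heC2
  by_contra heCk
  have hk3 : 3 ≤ k := by
    by_contra hk'
    obtain rfl : k = 2 := by omega
    exact heCk heC2
  set C2 := twoStep G (2 - 1) with hC2def
  have he2 : e ∉ filt G 2 := fun he => heCk (filt_two_le_twoStep h k (by omega) he)
  have hC2ne : C2 ≠ ⊤ := h.twoStep_ne le_rfl (by omega)
  have hC2card := card_of_between h (filt_two_le_twoStep h 2 (by omega)) hC2ne heC2 he2
  have heq : ∀ i, 2 ≤ i → i < k → twoStep G (i - 1) = C2 := fun i hi hik =>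
    (Subgroup.eq_of_le_of_card_ge (ih i hik hi (by omega))
      ((card_le_of_ne_top h (h.twoStep_ne hi (by omega))).trans hC2card.ge)).symm
  obtain ⟨g, hg⟩ := exists_not_mem h.isPGroup ({2, k, k + 1} : Finset ℕ)
    (Finset.card_le_three.trans (by omega)) (fun i => twoStep G (i - 1)) (fun i hi => by
      simp only [Finset.mem_insert, Finset.mem_singleton] at hi
      rcases hi with rfl | rfl | rfl <;> exact h.twoStep_ne (by omega) (by omega))
  have hgC : ∀ i, 2 ≤ i → i ≤ k + 1 → g ∉ twoStep G (i - 1) := by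
    intro i hi hik
    rcases Nat.lt_or_ge i k with hlt | hge
    · rw [heq i hi hlt]
      exact hg 2 (by simp)
    · rcases (by omega : i = k ∨ i = k + 1) with rfl | rfl <;> exact hg _ (by simp)
  set a := dseq g e with hadef
  have ha : ∀ i, a i ∈ filt G i := dseq_mem g e
  have ha2 : a 2 ∉ filt G 3 := by
    rw [hadef, show (2 : ℕ) = 1 + 1 from rfl, dseq_succ g e le_rfl, dseq_one]
    exact comm_not_mem h (filt_two_le_twoStep h 2 (by omega)) heC2 he2 (hgC 2 le_rfl (by omega))
  have ha' : ∀ i, 2 ≤ i → i ≤ k + 2 → a i ∉ filt G (i + 1) := by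
    intro i hi
    induction i, hi using Nat.le_induction with
    | base => exact fun _ => ha2
    | succ i hi ih2 =>
      intro hik hmem
      rw [hadef, dseq_succ g e (by omega)] at hmem
      exact hgC i hi (by omega) (layer_le_of_mem h hi (by omega) (ha i) (ih2 (by omega)) hmem)
  -- the commutators below level `k` drop twice
  have hC2n : (C2).Normal := by
    rw [hC2def]
    exact Subgroup.Normal.comap (by
      haveI : (((⊤ : Subgroup G).lowerCentralSeries (2 - 1)).map
        (QuotientGroup.mk' ((⊤ : Subgroup G).lowerCentralSeries (2 - 1 + 2)))).Normal :=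
        Subgroup.Normal.map inferInstance _ (QuotientGroup.mk'_surjective _)
      infer_instance) _
  have hfirst : ∀ j, 2 ≤ j → j < k → ⁅C2, filt G j⁆ ≤ filt G (j + 2) := by
    intro j hj hjk
    rw [commutator_le]
    intro u hu v hv
    have : u ∈ twoStep G (j - 1) := (heq j hj hjk).symm ▸ hu
    exact (mem_twoStep' (by omega)).1 this v hv
  have hP : ∀ i, 2 ≤ i → ∀ j, 1 ≤ j → i + j ≤ k → ⁅filt G i, filt G j⁆ ≤ filt G (i + j + 1) ∨ j = 1 := by
    intro i hi
    induction i, hi using Nat.le_induction with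
    | base =>
      intro j hj hjk
      rcases Nat.lt_or_ge j 2 with h1 | h1
      · exact Or.inr (by omega)
      refine Or.inl ?_
      have hle : filt G 2 ≤ ⁅C2, (⊤ : Subgroup G)⁆ ⊔ filt G 3 := by
        refine (h.layer_gen le_rfl (by omega) (ha 2) ha2).trans (sup_le_sup_right ?_ _)
        rw [zpowers_le, hadef, show (2 : ℕ) = 1 + 1 from rfl, dseq_succ g e le_rfl, dseq_one,
          commutator_comm]
        exact commutator_mem_commutator (mem_top g) heC2
      refine (commutator_mono hle le_rfl).trans ?_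
      refine commutator_le.2 fun u hu v hv => ?_
      obtain ⟨u₁, hu₁, u₂, hu₂, rfl⟩ := mem_sup_of_normal_right.1 hu
      have hN : ⁅⁅C2, (⊤ : Subgroup G)⁆, filt G j⁆ ≤ filt G (2 + j + 1) := by
        refine commutator_le_of_rotate ?_ ?_
        · refine (commutator_mono (show ⁅(⊤ : Subgroup G), filt G j⁆ ≤ filt G (j + 1) from ?_) le_rfl).trans ?_
          · rw [add_comm j 1]; exact filt_commutator 1 j
          · rw [commutator_comm]
            exact (hfirst (j + 1) (by omega) (by omega)).trans (filt_antitone (by omega))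
        · refine (commutator_mono (show ⁅filt G j, C2⁆ ≤ filt G (j + 2) from ?_) le_rfl).trans ?_
          · rw [commutator_comm]; exact hfirst j h1 (by omega)
          · exact (filt_commutator (j + 2) 1).trans (filt_antitone (by omega))
      have e1 := hN (commutator_mem_commutator hu₁ hv)
      have e2 : ⁅u₂, v⁆ ∈ filt G (2 + j + 1) :=
        filt_antitone (by omega) (filt_commutator 3 j (commutator_mem_commutator hu₂ hv))
      have e3 : ⁅u₁ * u₂, v⁆ = u₁ * ⁅u₂, v⁆ * u₁⁻¹ * ⁅u₁, v⁆ := by
        simp only [commutatorElement_def]; group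
      rw [e3]
      exact mul_mem ((filt_normal _).conj_mem _ e2 _) e1
    | succ i hi ih2 =>
      intro j hj hjk
      rcases Nat.lt_or_ge j 2 with h1 | h1
      · exact Or.inr (by omega)
      refine Or.inl ?_
      rw [filt_succ_eq i (by omega)]
      refine commutator_le_of_rotate ?_ ?_
      · refine (commutator_mono (show ⁅(⊤ : Subgroup G), filt G j⁆ ≤ filt G (j + 1) from ?_) le_rfl).trans ?_
        · rw [add_comm j 1]; exact filt_commutator 1 j
        · rw [commutator_comm]
          rcases ih2 (j + 1) (by omega) (by omega) with h' | h'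
          · exact h'.trans (filt_antitone (by omega))
          · omega
      · refine (commutator_mono (show ⁅filt G j, filt G i⁆ ≤ filt G (i + j + 1) from ?_) le_rfl).trans ?_
        · rw [commutator_comm]
          rcases ih2 j hj (by omega) with h' | h'
          · exact h'
          · omega
        · exact (filt_commutator (i + j + 1) 1).trans (filt_antitone (by omega))
  have hdrop : ∀ i j, 1 ≤ i → 1 ≤ j → i + j ≤ k → (2 ≤ i ∨ 2 ≤ j) → ⁅a i, a j⁆ ∈ filt G (i + j + 1) := by
    intro i j hi hj hij h2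
    have h1' : ∀ j, 2 ≤ j → j < k → ⁅a 1, a j⁆ ∈ filt G (1 + j + 1) := fun j hj hjk => by
      rw [show 1 + j + 1 = j + 2 by omega]
      exact hfirst j hj hjk (commutator_mem_commutator (show a 1 ∈ C2 from heC2) (ha j))
    rcases Nat.lt_or_ge i 2 with hi1 | hi2
    · obtain rfl : i = 1 := by omega
      exact h1' j (by omega) (by omega)
    rcases Nat.lt_or_ge j 2 with hj1 | hj2
    · obtain rfl : j = 1 := by omega
      rw [← commutatorElement_inv, show i + 1 + 1 = 1 + i + 1 by omega]
      exact inv_mem (h1' i hi2 (by omega))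
    rcases hP i hi2 j hj hij with h' | h'
    · exact h' (commutator_mem_commutator (ha i) (ha j))
    · omega
  have hpsi1 : ⁅e, a k⁆ ∉ filt G (k + 2) := fun hm =>
    heCk (layer_le_of_mem h (by omega) (by omega) (ha k) (ha' k (by omega) (by omega)) hm)
  -- level `k + 1`
  have hlev : ∀ i, 1 ≤ i → i < k → ⁅g, ⁅a i, a (k - i)⁆⁆ ∈ filt G (k + 2) := fun i hi hik =>
    filt_antitone (by omega) (filt_commutator 1 (k + 1) (commutator_mem_commutator (mem_top g)
      (show ⁅a i, a (k - i)⁆ ∈ filt G (k + 1) by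
        have := hdrop i (k - i) hi (by omega) (by omega) (by omega)
        rwa [show i + (k - i) + 1 = k + 1 by omega] at this)))
  obtain ⟨r, hr⟩ : ∃ r, k = 2 * r := by
    rcases Nat.even_or_odd k with he | ho
    · obtain ⟨r, hr⟩ := he; exact ⟨r, by omega⟩
    · exfalso
      obtain ⟨r, hr⟩ := ho
      exact hpsi1 (alternate_one (m := k) (r := r + 1) (by omega) (by omega) hlev)
  -- level `k + 2`
  set π := QuotientGroup.mk' (filt G (k + 3)) with hπdef
  have hc2 : ∀ i, 1 ≤ i → i ≤ k → ⁅a i, a (k + 1 - i)⁆ ∈ filt G (k + 1) := fun i hi hik => by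
    have := filt_commutator i (k + 1 - i) (commutator_mem_commutator (ha i) (ha (k + 1 - i)))
    rwa [show i + (k + 1 - i) = k + 1 by omega] at this
  have hcomm' : ∀ (t : ℕ), k + 2 ≤ t → ∀ u ∈ filt G t, ∀ v : G, Commute (π u) (π v) := fun t ht u hu v => by
    rw [← commutatorElement_eq_one_iff_commute, ← map_commutatorElement]
    exact (QuotientGroup.eq_one_iff _).2
      (filt_antitone (by omega) (filt_commutator t 1 (commutator_mem_commutator hu (mem_top v))))
  have hη : ∀ i, 1 ≤ i → i ≤ k →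
      π ⁅g, ⁅a i, a (k + 1 - i)⁆⁆ = π ⁅g, ⁅a 1, a k⁆⁆ ^ ((-1 : ℤ) ^ (i + 1)) := by
    intro i hi
    induction i, hi using Nat.le_induction with
    | base => intro _; simp
    | succ i hi ih2 =>
      intro hik
      have halt := alternate (m := k) (by omega) hlev i hi (by omega)
      rw [QuotientGroup.mk'_apply, QuotientGroup.mk'_apply, ← QuotientGroup.mk_inv, QuotientGroup.eq] at halt
      have hu := hc2 (i + 1) (by omega) hik
      have hv := hc2 i hi (by omega)
      rw [show k + 1 - (i + 1) = k - i by omega] at hu ⊢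
      set u := ⁅a (i + 1), a (k - i)⁆
      set v := ⁅a i, a (k + 1 - i)⁆
      have hgv : ∀ w ∈ filt G (k + 1), ⁅g, w⁆ ∈ filt G (k + 2) := fun w hw =>
        filt_antitone (by omega) (filt_commutator 1 (k + 1) (commutator_mem_commutator (mem_top g) hw))
      obtain ⟨z, hz, huz⟩ : ∃ z ∈ filt G (k + 2), u = v⁻¹ * z := by
        refine ⟨v * u, ?_, by group⟩
        have hvu : u⁻¹ * v⁻¹ ∈ filt G (k + 2) := halt
        simpa using inv_mem hvu
      have e1 : ⁅g, v⁻¹ * z⁆ = v⁻¹ * (⁅g, v⁆⁻¹ * ⁅g, z⁆) * v := by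
        simp only [commutatorElement_def]; group
      rw [huz, e1, map_mul, map_mul, map_mul, map_inv, map_inv]
      have hz1 : π ⁅g, z⁆ = 1 := (QuotientGroup.eq_one_iff _).2
        (filt_antitone (by omega) (filt_commutator 1 (k + 2) (commutator_mem_commutator (mem_top g) hz)))
      rw [hz1, mul_one, ← ((hcomm' _ le_rfl _ (hgv v hv) v).inv_left.inv_right).eq, mul_assoc,
        inv_mul_cancel, mul_one, ih2 (by omega), ← zpow_neg]
      congr 1
      rw [pow_succ (-1 : ℤ) (i + 1)]
      ring
  set η := π ⁅g, ⁅a 1, a k⁆⁆ with hηdef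
  have hψ1 : π ⁅a 1, a (k + 1)⁆ = 1 := by
    refine (QuotientGroup.eq_one_iff _).2 ?_
    have hN : ⁅⁅filt G 2, filt G (k - 1)⁆, C2⁆ ≤ filt G (k + 3) := by
      refine commutator_le_of_rotate ?_ ?_
      · refine (commutator_mono (show ⁅filt G (k - 1), C2⁆ ≤ filt G (k + 1) from ?_) le_rfl).trans ?_
        · rw [commutator_comm]
          exact (hfirst (k - 1) (by omega) (by omega)).trans (filt_antitone (by omega))
        · exact (filt_commutator _ _).trans (filt_antitone (by omega))
      · refine (commutator_mono (hfirst 2 le_rfl (by omega)) le_rfl).trans ?_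
        exact (filt_commutator _ _).trans (filt_antitone (by omega))
    have hc2' := hc2 2 (by omega) (by omega)
    rw [show k + 1 - 2 = k - 1 by omega] at hc2'
    have hne : ⁅a 2, a (k - 1)⁆ ∉ filt G (k + 2) := by
      intro hm
      have halt := alternate (m := k) (by omega) hlev 1 le_rfl (by omega)
      rw [show (1 : ℕ) + 1 = 2 from rfl, show k + 1 - 1 = k by omega] at halt
      have h0 : QuotientGroup.mk' (filt G (k + 2)) ⁅a 2, a (k - 1)⁆ = 1 :=
        (QuotientGroup.eq_one_iff _).2 hm
      rw [h0, eq_comm, inv_eq_one] at halt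
      exact hpsi1 ((QuotientGroup.eq_one_iff _).1 halt)
    obtain ⟨w₁, hw₁, w₂, hw₂, hw⟩ := mem_sup_of_normal_right.1
      (h.layer_gen (by omega) (by omega) hc2' hne (ha (k + 1)))
    obtain ⟨s, rfl⟩ := mem_zpowers_iff.1 hw₁
    rw [← hw]
    have hmem : ⁅a 2, a (k - 1)⁆ ^ s ∈ ⁅filt G 2, filt G (k - 1)⁆ :=
      zpow_mem (commutator_mem_commutator (ha 2) (ha (k - 1))) s
    have f1 := hN (commutator_mem_commutator hmem (show a 1 ∈ C2 from heC2))
    rw [← inv_mem_iff, commutatorElement_inv] at f1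
    have f2 : ⁅a 1, w₂⁆ ∈ filt G (k + 3) := filt_antitone (by omega)
      (filt_commutator 1 (k + 2) (commutator_mem_commutator (mem_top _) hw₂))
    have e3 : ∀ x y z : G, ⁅x, y * z⁆ = ⁅x, y⁆ * (y * ⁅x, z⁆ * y⁻¹) := fun x y z => by
      simp only [commutatorElement_def]; group
    rw [e3]
    exact mul_mem f1 ((filt_normal _).conj_mem _ f2 _)
  have hη2 : ⁅g, ⁅a 1, a k⁆⁆ ∈ filt G (k + 2) := by
    have h1 := hc2 1 le_rfl (by omega)
    rw [show k + 1 - 1 = k by omega] at h1
    exact filt_antitone (by omega) (filt_commutator 1 (k + 1) (commutator_mem_commutator (mem_top g) h1))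
  have hψ : ∀ i, 1 ≤ i → i ≤ k + 1 → π ⁅a i, a (k + 2 - i)⁆ = η ^ (((-1 : ℤ) ^ i) * (i - 1 : ℤ)) := by
    intro i hi
    induction i, hi using Nat.le_induction with
    | base =>
      intro _
      rw [show k + 2 - 1 = k + 1 by omega, hψ1]
      simp
    | succ i hi ih2 =>
      intro hik
      have h1 := rel (g := g) (show i + (k + 1 - i) = k + 1 by omega) hi (by omega) (ha i) (ha (k + 1 - i)) (mem_top g)
      rw [show k + 1 + 2 = k + 3 from rfl] at h1
      change π _ = π _ at h1
      rw [hη i hi (by omega), hadef, ← dseq_succ g e hi, ← dseq_succ g e (show 1 ≤ k + 1 - i by omega),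
        show k + 1 - i + 1 = k + 2 - i by omega, ← hadef, map_mul, ih2 (by omega)] at h1
      rw [show k + 2 - (i + 1) = k + 1 - i by omega]
      rw [← inv_mul_eq_iff_eq_mul, ← zpow_neg, ← zpow_add] at h1
      rw [← h1]
      congr 1
      push_cast
      rw [pow_succ (-1 : ℤ) i]
      ring
  have hmid := hψ (r + 1) (by omega) (by omega)
  rw [show k + 2 - (r + 1) = r + 1 by omega, commutatorElement_self, map_one] at hmid
  have hηne : η ≠ 1 := by
    intro hη1
    have h1 := (QuotientGroup.eq_one_iff _).1 hη1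
    have hck := hc2 1 le_rfl (by omega)
    rw [show k + 1 - 1 = k by omega] at hck
    exact hgC (k + 1) (by omega) le_rfl (layer_le_of_mem h (by omega) (by omega) hck hpsi1 h1)
  obtain ⟨x, hx⟩ := h.exists_cfg
  have hdvd : p ∣ r := by
    have h1 : η ^ p = 1 := by
      rw [hηdef, ← map_pow]
      exact (QuotientGroup.eq_one_iff _).2 (hx.pow_p_mem_succ (by omega) hη2)
    have hord : orderOf η = p := orderOf_eq_prime h1 hηne
    have h2 : (orderOf η : ℤ) ∣ ((-1 : ℤ) ^ (r + 1)) * ((r + 1 : ℕ) - 1 : ℤ) :=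
      orderOf_dvd_iff_zpow_eq_one.2 hmid.symm
    rw [hord] at h2
    have h3 : (p : ℤ) ∣ (((r + 1 : ℕ) : ℤ) - 1) := by
      rcases neg_one_pow_eq_or ℤ (r + 1) with h' | h' <;> rw [h'] at h2 <;> simpa using h2
    push_cast at h3
    simpa using Int.natCast_dvd_natCast.1 (by simpa using h3)
  have hk2p : 2 * p ≤ k := by
    have := Nat.le_of_dvd (by omega) hdvd
    omega
  -- the power map
  set i := k + 1 - p with hidef
  have hdk : a i ^ p ∈ filt G k := hx.pow_p_mem (n - i) i (by omega) (by omega) _ (ha i) k (by omega) (by omega)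
  have hdk' : a i ^ p ∉ filt G (k + 1) := by
    have := hx.pow_p_not_mem (i := i) (by omega) (by omega) (ha i) (ha' i (by omega) (by omega))
    rwa [show i + p = k + 1 by omega] at this
  refine heCk (layer_le_of_mem h (by omega) (by omega) hdk hdk' ?_)
  set ρ := QuotientGroup.mk' (filt G (k + 2)) with hρdef
  have hc : ⁅e, a i⁆ ∈ filt G (i + 2) :=
    hfirst i (by omega) (by omega) (commutator_mem_commutator (show e ∈ C2 from heC2) (ha i))
  have hcd : Commute (ρ ⁅e, a i⁆) (ρ (a i)) := by
    rw [← commutatorElement_eq_one_iff_commute, ← map_commutatorElement]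
    exact (QuotientGroup.eq_one_iff _).2
      (filt_antitone (by omega) (filt_commutator (i + 2) i (commutator_mem_commutator hc (ha i))))
  have hcp : ρ ⁅e, a i⁆ ^ p = 1 := by
    rw [← map_pow]
    exact (QuotientGroup.eq_one_iff _).2
      (hx.pow_p_mem (n - (i + 2)) (i + 2) (by omega) (by omega) _ hc (k + 2) (by omega) (by omega))
  refine (QuotientGroup.eq_one_iff _).1 ?_
  show ρ ⁅e, a i ^ p⁆ = 1
  rw [map_commutatorElement, map_pow, commutatorElement_def]
  have h4 : ρ e * ρ (a i) * (ρ e)⁻¹ = ρ ⁅e, a i⁆ * ρ (a i) := by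
    simp only [← map_mul, ← map_inv]
    congr 1
    simp only [commutatorElement_def]; group
  rw [← _root_.conj_pow, h4, hcd.mul_pow, hcp, one_mul, mul_inv_cancel]

end Cfsg.Agent.MaxEss41
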