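import Cfsg.Agent.MaxEss41.Climb
import Cfsg.Agent.MaxEss41.Layer

/-!
The case that all conjugates contain the second centre is impossible.
-/

set_option autoImplicit false
set_option linter.unusedSectionVars false
set_option linter.style.haveILetI false

namespace Cfsg.Agent.MaxEss41

open Subgroup FG38 SectRank81 FG72.MaxClass
open Cfsg.Agent.Fusion
open Cfsg.FusionSystem (normalizerIn centralizerIn)
open scoped commutatorElement

variable {Ω : Type*} [Group Ω] {S : Subgroup Ω} {F : Cfsg.FusionSystem S} {p n : ℕ}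
  [hp : Fact p.Prime] {E : Subgroup Ω} [Finite ↥S]

theorem coe_comm (x y : ↥S) : ((⁅x, y⁆ : ↥S) : Ω) = ⁅(x : Ω), (y : Ω)⁆ :=
  map_commutatorElement S.subtype x y

/-- A system map as a homomorphism into `S`. -/
def toSHom {U : Subgroup Ω} {g : Ω → Ω} (hg : IsMap F U g) : ↥(U.subgroupOf S) →* ↥S :=
  MonoidHom.mk' (fun x => ⟨g ((x : ↥S) : Ω), hg.apply_mem (mem_subgroupOf.1 x.2)⟩)
    fun x y => Subtype.ext (hg.map_mul (mem_subgroupOf.1 x.2) (mem_subgroupOf.1 y.2))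

theorem gen_apply {M L : Subgroup Ω} {g : Ω → Ω} (hg : IsMap F M g) (hLM : L ≤ M) {l : Ω}
    (hl : l ∈ L) (hgl : g l = l⁻¹) {x : Ω} (hx : x ∈ zpowers l) : g x = x⁻¹ := by
  obtain ⟨i, rfl⟩ := hx
  let ψ : ↥M →* Ω := MonoidHom.mk' (fun x => g x) fun x y => hg.map_mul x.2 y.2
  show g (l ^ i) = (l ^ i)⁻¹
  rw [show g (l ^ i) = g l ^ i from map_zpow ψ ⟨l, hLM hl⟩ i, hgl, inv_zpow]

theorem eq_one_of_inv_eq (hodd : p ≠ 2) (hS : IsPGroup p ↥S) {x : Ω} (hx : x ∈ S)
    (he : x⁻¹ = x) : x = 1 := by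
  obtain ⟨k, hk⟩ := hS ⟨x, hx⟩
  have hk' : x ^ p ^ k = 1 := congrArg Subtype.val hk
  have h2 : x ^ 2 = 1 := by
    rw [sq]
    nth_rewrite 1 [← he]
    exact inv_mul_cancel x
  have hco : Nat.Coprime 2 (p ^ k) :=
    ((Nat.coprime_primes Nat.prime_two hp.out).2 (Ne.symm hodd)).pow_right k
  have := Nat.dvd_gcd (orderOf_dvd_of_pow_eq_one h2) (orderOf_dvd_of_pow_eq_one hk')
  rwa [hco.gcd_eq_one, Nat.dvd_one, orderOf_eq_one_iff] at this

namespace Ctx

variable (C : Ctx F p n E) (hall : ∀ E', F.IsConj E E' → gam S (n - 2) ≤ E')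
  {f : Ω → Ω} {L : Subgroup Ω} {l x0 : Ω} (φ : Flip F p E f L l x0)
include C hall φ

theorem setup : ∃ e s : ↥S, (e : Ω) ∈ E ∧ (e : Ω) ∉ gam S (n - 2) ∧
    (s : Ω) ∉ chainU S n E (n - 2) ∧ dseq e s 2 ∈ filt ↥S 2 ∧ dseq e s 2 ∉ filt ↥S 3 := by
  have hZ := C.centre_le hall
  have c := C.cand_self
  have hn := C.hn
  obtain ⟨e, he, he'⟩ : ∃ e ∈ E, e ∉ gam S (n - 2) := by
    by_contra! hc
    haveI : Finite E := finite_of_le c.le
    haveI : Finite ↥(gam S (n - 2)) := finite_of_le (gam_le _)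
    have := Subgroup.card_le_of_le (show E ≤ gam S (n - 2) from hc)
    rw [c.card, card_gam C.mc (by omega) (by omega)] at this
    have := (Nat.pow_le_pow_iff_right hp.out.one_lt).1 this
    omega
  have hU : ∃ s ∈ S, s ∉ chainU S n E (n - 2) := by
    by_contra! hc
    haveI : Finite ↥(chainU S n E (n - 2)) := finite_of_le (chainU_le c.le _)
    have := Subgroup.card_le_of_le (show S ≤ chainU S n E (n - 2) from hc)
    rw [C.mc.card, card_chainU C.mc c hn hZ (by omega) (by omega)] at this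
    have := (Nat.pow_le_pow_iff_right hp.out.one_lt).1 this
    omega
  obtain ⟨s, hs, hs'⟩ := hU
  refine ⟨⟨e, c.le he⟩, ⟨s, hs⟩, he, he', hs', dseq_mem _ _ 2, ?_⟩
  set K := (chainU S n E (n - 2)).subgroupOf S with hK
  have hK2 : filt ↥S 2 ≤ K := fun x hx => mem_subgroupOf.2 (mem_sup_right
    ((show n - (n - 2) = 2 by omega).symm ▸ coe_mem_gam.2 hx))
  have he2 : (⟨e, c.le he⟩ : ↥S) ∉ filt ↥S 2 := fun h2 => by
    have := inf_gam C.mc c hn hZ (show 2 ≤ n - 2 by omega) (by omega)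
    rw [show n - (n - 2) = 2 by omega] at this
    exact he' (this.le ⟨he, coe_mem_gam.2 h2⟩)
  have h1 := comm_not_mem C.mc hK2 (mem_subgroupOf.2 (mem_sup_left he)) he2
    (show (⟨s, hs⟩ : ↥S) ∉ K from fun h => hs' (mem_subgroupOf.1 h))
  intro h2
  refine h1 ?_
  rw [show (2 : ℕ) = 1 + 1 from rfl, dseq_succ _ _ le_rfl, dseq_one] at h2
  rw [← commutatorElement_inv]
  exact inv_mem h2

variable {e s : ↥S} (he : (e : Ω) ∈ E) (he' : (e : Ω) ∉ gam S (n - 2))
  (hs : (s : Ω) ∉ chainU S n E (n - 2)) (ha2 : dseq e s 2 ∉ filt ↥S 3)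
include he he' hs ha2

omit ha2 in
theorem e_comm {x : ↥S} (hx : x ∈ filt ↥S (n - 2)) : ⁅e, x⁆ = 1 := by
  rw [commutatorElement_eq_one_iff_commute]
  exact Subtype.ext (show (e : Ω) * x = x * e from congrArg Subtype.val
    (C.cand_self.comm.is_comm.comm (⟨(e : Ω), he⟩ : ↥E)
      ⟨(x : Ω), C.centre_le hall (coe_mem_gam.2 hx)⟩))

/-- With all commutators nontrivial the order of `S` is even. -/
theorem even_n (hlast : dseq e s (n - 2) ∉ filt ↥S (n - 1)) : ∃ r, n = 2 * r := by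
  have hn := C.hn
  rcases Nat.even_or_odd n with ⟨r, hr⟩ | ⟨r, hr⟩
  · exact ⟨r, by omega⟩
  exfalso
  have hk : ∀ i, 1 ≤ i → i < n - 2 →
      ⁅e, ⁅dseq e s i, dseq e s (n - 2 - i)⁆⁆ ∈ filt ↥S (n - 2 + 2) := by
    intro i hi hin
    have h1 := filt_commutator i (n - 2 - i)
      (commutator_mem_commutator (dseq_mem e s i) (dseq_mem e s (n - 2 - i)))
    rw [show i + (n - 2 - i) = n - 2 by omega] at h1
    rw [C.e_comm hall φ he he' hs h1]
    exact one_mem _
  have h1 := alternate_one (r := r) (m := n - 2) (by omega) (by omega) hk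
  have hsC : s ∈ twoStep ↥S (n - 2 - 1) :=
    layer_le_of_mem C.mc (by omega) (by omega) (dseq_mem e s (n - 2))
      (by rwa [show n - 2 + 1 = n - 1 by omega]) h1
  set K := twoStep ↥S (n - 2 - 1) with hK
  have hKne : K ≠ ⊤ := C.mc.twoStep_ne (by omega) (by omega)
  have hUK : (chainU S n E (n - 2)).subgroupOf S ≤ K := by
    intro x hx
    refine (mem_twoStep' (by omega)).2 fun a ha => ?_
    have hle : chainU S n E (n - 2) ≤ centralizer ({(a : Ω)} : Set Ω) := by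
      refine sup_le (fun y hy => mem_centralizer_singleton_iff.2 ?_) fun y hy =>
        mem_centralizer_singleton_iff.2 ?_
      · exact congrArg Subtype.val (C.cand_self.comm.is_comm.comm (⟨y, hy⟩ : ↥E)
          ⟨(a : Ω), C.centre_le hall (coe_mem_gam.2 ha)⟩)
      · exact (gam_commute C.mc (by omega) hy (coe_mem_gam.2 ha)).eq
    have hc : ⁅x, a⁆ = 1 := commutatorElement_eq_one_iff_commute.2
      (Subtype.ext (mem_centralizer_singleton_iff.1 (hle (mem_subgroupOf.1 hx))))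
    rw [hc]
    exact one_mem _
  have hcard : p ^ (n - 1) ≤ Nat.card ↥((chainU S n E (n - 2)).subgroupOf S) := by
    rw [Nat.card_congr (subgroupOfEquivOfLe (chainU_le C.cand_self.le _)).toEquiv,
      card_chainU C.mc C.cand_self hn (C.centre_le hall) (by omega) (by omega),
      show n - 2 + 1 = n - 1 by omega]
  have e1 := Subgroup.eq_of_le_of_card_ge hUK ((card_le_of_ne_top C.mc hKne).trans hcard)
  exact hs (mem_subgroupOf.1 (e1.ge hsC))

theorem dseq_not (h6 : 6 ≤ n) :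
    ∀ i, 2 ≤ i → i + 2 ≤ n → dseq e s i ∉ filt ↥S (i + 1) := by
  have hn := C.hn
  have hZ := C.centre_le hall
  have hdrop : ∀ i, 2 ≤ i → i + 4 ≤ n → ∀ v ∈ filt ↥S i, v ∉ filt ↥S (i + 1) →
      ⁅e, v⁆ ∉ filt ↥S (i + 2) := fun i hi hin v hv hv' hc =>
    comm_not_drop C.mc C.cand_self hn hZ hi hin (coe_mem_gam.2 hv)
      (fun h => hv' (coe_mem_gam.1 h)) he he' (coe_comm e v ▸ coe_mem_gam.2 hc)
  intro i hi
  induction i, hi using Nat.le_induction with
  | base => exact fun _ => ha2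
  | succ i hi ih =>
    intro hin hc
    rw [dseq_succ e s (by omega)] at hc
    have hv' := ih (by omega)
    rcases Nat.lt_or_ge (i + 3) n with hlt | hge
    · exact hdrop i hi (by omega) _ (dseq_mem e s i) hv' hc
    · obtain rfl : i = n - 3 := by omega
      have he3 : e ∈ twoStep ↥S (n - 3 - 1) :=
        layer_le_of_mem C.mc hi (by omega) (dseq_mem e s (n - 3)) hv' hc
      rw [← twoStep_last_eq C.mc C.five hn, mem_twoStep' (by omega)] at he3
      exact hdrop 2 le_rfl (by omega) _ (dseq_mem e s 2) ha2 (he3 _ (dseq_mem e s 2))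

theorem false_big (h6 : 6 ≤ n) : False := by
  have hn := C.hn
  have hZ := C.centre_le hall
  have c := C.cand_self
  set a := dseq e s with hadef
  have ha : ∀ i, a i ∈ filt ↥S i := dseq_mem e s
  have ha' := C.dseq_not hall φ he he' hs ha2 h6
  have hlast : a (n - 2) ∉ filt ↥S (n - 1) := by
    have := ha' (n - 2) (by omega) (by omega)
    rwa [show n - 2 + 1 = n - 1 by omega] at this
  obtain ⟨r, hr⟩ := C.even_n hall φ he he' hs ha2 hlast
  obtain ⟨g, hg, hgf, hgz⟩ := C.climb hall φ (n - 2) (by omega) (by omega)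
  set U := chainU S n E (n - 2) with hU
  have hN := normalizerIn_eq C.mc c hn hZ
  have hNU : normalizerIn S E ≤ U := by
    rw [hN]
    exact sup_le le_sup_left ((gam_antitone (by omega)).trans le_sup_right)
  set Φ := toSHom hg.1 with hΦ
  have h2U : ∀ i, 2 ≤ i → filt ↥S i ≤ U.subgroupOf S := fun i hi x hx => mem_subgroupOf.2
    (mem_sup_right (gam_antitone (by omega) (coe_mem_gam.2 hx)))
  let gs : ∀ i, 2 ≤ i → ↥S := fun i hi => Φ ⟨a i, h2U i hi (ha i)⟩
  have hgs : ∀ i, 2 ≤ i → i + 2 ≤ n → ∀ x : ↥(U.subgroupOf S), (x : ↥S) ∈ filt ↥S i →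
      Φ x ∈ filt ↥S i := by
    intro i hi hin x hx
    refine coe_mem_gam.1 ?_
    have := hgz (n - i) (by omega) (by omega) _ ((show i = n - (n - i) by omega) ▸ coe_mem_gam.2 hx)
    rwa [show n - (n - i) = i by omega] at this
  have heU : e ∈ U.subgroupOf S := mem_subgroupOf.2 (mem_sup_left he)
  obtain ⟨w, hw, hge⟩ : ∃ w ∈ filt ↥S (n - 2), Φ ⟨e, heU⟩ = e ^ (-1 : ℤ) * w := by
    have h1 := φ.f_E _ he
    rw [C.flip_L hall φ] at h1
    refine ⟨⟨f (e : Ω) * (e : Ω), gam_le _ h1⟩, coe_mem_gam.1 h1, Subtype.ext ?_⟩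
    show g (e : Ω) = ((e ^ (-1 : ℤ) : ↥S) : Ω) * (f (e : Ω) * (e : Ω))
    rw [zpow_neg_one, hgf (le_normalizerIn c.le he), InvMemClass.coe_inv]
    have hfe : f (e : Ω) ∈ E := by
      have h2 : f (e : Ω) ∈ f '' (E : Set Ω) := ⟨_, he, rfl⟩
      rw [φ.image] at h2
      exact h2
    have := congrArg Subtype.val (c.comm.is_comm.comm (⟨(e : Ω), he⟩ : ↥E) ⟨f (e : Ω), hfe⟩)
    simp only [Subgroup.coe_mul] at this
    rw [← this, inv_mul_cancel_left]
  obtain ⟨c₀, hc₀⟩ : ∃ c₀ : ℤ, ∃ z ∈ filt ↥S (2 + 1), gs 2 le_rfl = a 2 ^ c₀ * z := by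
    obtain ⟨_, ⟨c₀, rfl⟩, z, hz, hz'⟩ := mem_sup_of_normal_right.1
      (C.mc.layer_gen le_rfl (by omega) (ha 2) ha2 (hgs 2 le_rfl (by omega) ⟨a 2, _⟩ (ha 2)))
    exact ⟨c₀, z, hz, hz'.symm⟩
  have key : ∀ i, (hi : 2 ≤ i) → i + 2 ≤ n →
      ∃ z ∈ filt ↥S (i + 1), gs i hi = a i ^ ((-1 : ℤ) ^ i * c₀) * z := by
    intro i hi
    induction i, hi using Nat.le_induction with
    | base => intro _; simpa using hc₀
    | succ i hi ih =>
      intro hin
      obtain ⟨z, hz, he1⟩ := ih (by omega)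
      have e2 : gs (i + 1) (by omega) = ⁅Φ ⟨e, heU⟩, gs i hi⁆ := by
        show Φ _ = ⁅Φ _, Φ _⁆
        rw [← map_commutatorElement]
        congr 1
        refine Subtype.ext ?_
        rw [show ((⁅(⟨e, heU⟩ : ↥(U.subgroupOf S)), ⟨a i, h2U i hi (ha i)⟩⁆ :
          ↥(U.subgroupOf S)) : ↥S) = ⁅e, a i⁆ from map_commutatorElement (U.subgroupOf S).subtype _ _]
        exact dseq_succ e s (by omega)
      have h3 := comm_layer_congr (j := 1) (i := i) (k := i + 2) (by omega)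
        (u := e) (v := a i) (w := w) (z := z) (a := -1) (b := (-1 : ℤ) ^ i * c₀)
        (mem_top _) (ha i) hge
        (fun x hx => filt_antitone (by omega) (filt_commutator (n - 2) i
          (commutator_mem_commutator hw hx))) he1 hz
      rw [← e2, ← dseq_succ e s (by omega), ← map_zpow] at h3
      refine ⟨(a (i + 1) ^ ((-1 : ℤ) ^ (i + 1) * c₀))⁻¹ * gs (i + 1) (by omega), ?_,
        (mul_inv_cancel_left _ _).symm⟩
      have h4 := (QuotientGroup.eq.1 h3.symm)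
      rwa [show (-1 : ℤ) * ((-1 : ℤ) ^ i * c₀) = (-1 : ℤ) ^ (i + 1) * c₀ by rw [pow_succ]; ring] at h4
  -- the exponent
  obtain ⟨z, hz, he1⟩ := key (n - 3) (by omega) (by omega)
  rw [show n - 3 + 1 = n - 2 by omega] at hz
  have hm : (-1 : ℤ) ^ (n - 3) = -1 := Odd.neg_one_pow ⟨r - 2, by omega⟩
  rw [hm, neg_one_mul] at he1
  have hN3 : ((a (n - 3) : ↥S) : Ω) ∈ normalizerIn S E := by
    rw [hN]
    exact mem_sup_right (coe_mem_gam.2 (ha (n - 3)))
  have hEV := inf_gam C.mc c hn hZ (show 2 ≤ 3 by omega) (by omega)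
  have hd : gs (n - 3) (by omega) * (a (n - 3))⁻¹ ∈ filt ↥S (n - 2) := by
    refine coe_mem_gam.1 ?_
    show g ((a (n - 3) : ↥S) : Ω) * ((a (n - 3) : ↥S) : Ω)⁻¹ ∈ gam S (n - 2)
    refine hEV.le ⟨?_, (gam S (n - 3)).mul_mem ?_ ((gam S (n - 3)).inv_mem (coe_mem_gam.2 (ha (n - 3))))⟩
    · rw [hgf hN3]
      exact φ.f_N _ hN3
    · exact hgz 3 (by omega) (by omega) _ (coe_mem_gam.2 (ha (n - 3)))
  have hc1 : (p : ℤ) ∣ -c₀ - 1 := by
    refine dvd_of_zpow_mem C.mc (x := a (n - 3)) (N := filt ↥S (n - 2)) ?_ ?_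
    · have := ha' (n - 3) (by omega) (by omega)
      rwa [show n - 3 + 1 = n - 2 by omega] at this
    · have e3 : a (n - 3) ^ (-c₀ - 1) =
          (gs (n - 3) (by omega) * (a (n - 3))⁻¹) * (a (n - 3) * z⁻¹ * (a (n - 3))⁻¹) := by
        rw [he1]
        group
      rw [e3]
      exact mul_mem hd ((filt_normal _).conj_mem _ (inv_mem hz) _)
  -- the centre element
  obtain ⟨z2, hz2, he2⟩ := key 2 le_rfl (by omega)
  rw [show (-1 : ℤ) ^ 2 * c₀ = c₀ by ring] at he2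
  set z0 := ⁅a 2, a (n - 3)⁆ with hz0
  have hz0m : z0 ∈ filt ↥S (n - 1) := by
    have := filt_commutator 2 (n - 3) (commutator_mem_commutator (ha 2) (ha (n - 3)))
    rwa [show 2 + (n - 3) = n - 1 by omega] at this
  have hz0ne : z0 ≠ 1 := by
    intro h0
    have hk : ∀ i, 1 ≤ i → i < n - 2 →
        ⁅e, ⁅dseq e s i, dseq e s (n - 2 - i)⁆⁆ ∈ filt ↥S (n - 2 + 2) := by
      intro i hi hin
      have h1 := filt_commutator i (n - 2 - i)
        (commutator_mem_commutator (dseq_mem e s i) (dseq_mem e s (n - 2 - i)))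
      rw [show i + (n - 2 - i) = n - 2 by omega] at h1
      rw [C.e_comm hall φ he he' hs h1]
      exact one_mem _
    have h1 := alternate (m := n - 2) (by omega) hk 1 le_rfl (by omega)
    rw [show (1 : ℕ) + 1 = 2 from rfl, show n - 2 - 1 = n - 3 by omega,
      show n - 2 + 1 - 1 = n - 2 by omega, ← hadef, ← hz0, h0, map_one, eq_comm, inv_eq_one] at h1
    have hsC : s ∈ twoStep ↥S (n - 2 - 1) :=
      layer_le_of_mem C.mc (by omega) (by omega) (ha (n - 2))
        (by rwa [show n - 2 + 1 = n - 1 by omega])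
        ((QuotientGroup.eq_one_iff _).1 h1)
    set K := twoStep ↥S (n - 2 - 1) with hK
    have hKne : K ≠ ⊤ := C.mc.twoStep_ne (by omega) (by omega)
    have hUK : U.subgroupOf S ≤ K := by
      intro x hx
      refine (mem_twoStep' (by omega)).2 fun b hb => ?_
      have hle : U ≤ centralizer ({(b : Ω)} : Set Ω) := by
        refine sup_le (fun y hy => mem_centralizer_singleton_iff.2 ?_) fun y hy =>
          mem_centralizer_singleton_iff.2 ?_
        · exact congrArg Subtype.val (c.comm.is_comm.comm (⟨y, hy⟩ : ↥E)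
            ⟨(b : Ω), hZ (coe_mem_gam.2 hb)⟩)
        · exact (gam_commute C.mc (by omega) hy (coe_mem_gam.2 hb)).eq
      have hc : ⁅x, b⁆ = 1 := commutatorElement_eq_one_iff_commute.2
        (Subtype.ext (mem_centralizer_singleton_iff.1 (hle (mem_subgroupOf.1 hx))))
      rw [hc]
      exact one_mem _
    have hcard : p ^ (n - 1) ≤ Nat.card ↥(U.subgroupOf S) := by
      rw [Nat.card_congr (subgroupOfEquivOfLe (chainU_le c.le _)).toEquiv,
        card_chainU C.mc c hn hZ (by omega) (by omega), show n - 2 + 1 = n - 1 by omega]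
    have e1 := Subgroup.eq_of_le_of_card_ge hUK ((card_le_of_ne_top C.mc hKne).trans hcard)
    exact hs (mem_subgroupOf.1 (e1.ge hsC))
  have hz0p : z0 ^ p = 1 := by
    have hd' := Subgroup.orderOf_dvd_natCard (filt ↥S (n - 1)) hz0m
    rw [C.mc.layer (n - 1) (by omega) (by omega), show n - (n - 1) = 1 by omega, pow_one] at hd'
    exact orderOf_dvd_iff_pow_eq_one.1 hd'
  have hgz0 : g ((z0 : ↥S) : Ω) = ((z0 : ↥S) : Ω)⁻¹ := by
    have h3 := comm_layer_congr (j := 2) (i := n - 3) (k := n) (by omega)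
      (u := a 2) (v := a (n - 3)) (w := z2) (z := z) (a := c₀) (b := -c₀)
      (ha 2) (ha (n - 3)) he2 (fun x hx => filt_antitone (by omega)
        (filt_commutator (2 + 1) (n - 3) (commutator_mem_commutator hz2 hx))) he1
      (by rwa [show n - 3 + 1 = n - 2 by omega])
    rw [← hz0, ← map_zpow] at h3
    have e4 : ⁅gs 2 le_rfl, gs (n - 3) (by omega)⁆ = z0 ^ (c₀ * -c₀) := by
      have h4 := QuotientGroup.eq.1 h3
      rw [C.mc.filt_n, mem_bot, inv_mul_eq_one] at h4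
      exact h4
    have e5 : z0 ^ (c₀ * -c₀) = z0⁻¹ := by
      obtain ⟨q, hq⟩ := hc1
      rw [show c₀ * -c₀ = -1 + (-((p : ℤ) * q) * ((p : ℤ) * q + 2)) by
        have : c₀ = -((p : ℤ) * q) - 1 := by linarith
        rw [this]; ring, zpow_add, zpow_neg_one,
        show -((p : ℤ) * q) * ((p : ℤ) * q + 2) = (p : ℤ) * (-q * ((p : ℤ) * q + 2)) by ring,
        zpow_mul, zpow_natCast, hz0p, one_zpow, mul_one]
    have e6 := congrArg Subtype.val (e4.trans e5)
    rw [← map_commutatorElement] at e6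
    rw [InvMemClass.coe_inv] at e6
    rw [← e6]
    show g _ = g _
    congr 1
  -- the centre of the normalizer is inverted
  have hane : a (n - 2) ∈ filt ↥S (n - 2) := ha _
  have hal : ((a (n - 2) : ↥S) : Ω) ∈ zpowers l := by
    have h1 : a (n - 2) = ⁅e, a (n - 3)⁆ := by
      rw [hadef, ← dseq_succ e s (by omega), show n - 3 + 1 = n - 2 by omega]
    rw [h1, coe_comm, ← commutatorElement_inv]
    exact inv_mem (φ.comm_mem _ hN3 _ he)
  have hLe : L ≤ normalizerIn S E := fun x hx => le_normalizerIn c.le (φ.L_le hx)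
  have hgl : g l = l⁻¹ := by rw [hgf (hLe φ.l_mem), φ.f_l]
  have hga := gen_apply hg.1 (hLe.trans hNU) φ.l_mem hgl hal
  have hx0S : x0 ∈ S := c.le (φ.L_le φ.x0_mem)
  have hx0Z : (⟨x0, hx0S⟩ : ↥S) ∈ filt ↥S (n - 2) :=
    coe_mem_gam.1 (C.flip_L hall φ ▸ φ.x0_mem)
  obtain ⟨_, ⟨i, rfl⟩, y, hy, hxy⟩ := mem_sup_of_normal_right.1
    (C.mc.layer_gen (by omega) (by omega) hane
      (by rwa [show n - 2 + 1 = n - 1 by omega]) hx0Z)
  rw [show n - 2 + 1 = n - 1 by omega] at hy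
  obtain ⟨_, ⟨j, rfl⟩, y', hy', hyy⟩ := mem_sup_of_normal_right.1
    (C.mc.layer_gen (by omega) (by omega) hz0m
      (by rw [show n - 1 + 1 = n by omega, C.mc.filt_n, mem_bot]; exact hz0ne) hy)
  rw [show n - 1 + 1 = n by omega, C.mc.filt_n, mem_bot] at hy'
  have hx0e : x0 = ((a (n - 2) : ↥S) : Ω) ^ i * ((z0 : ↥S) : Ω) ^ j := by
    have := congrArg Subtype.val hxy
    rw [← hyy, hy', mul_one] at this
    simpa using this.symm
  have haU : ((a (n - 2) : ↥S) : Ω) ∈ U := mem_subgroupOf.1 (h2U _ (by omega) hane)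
  have hzU : ((z0 : ↥S) : Ω) ∈ U := mem_subgroupOf.1 (h2U _ (by omega) hz0m)
  let ψ : ↥U →* Ω := MonoidHom.mk' (fun x => g x) fun x y => hg.1.map_mul x.2 y.2
  have hinv : g x0 = x0⁻¹ := by
    rw [hx0e, hg.1.map_mul (zpow_mem haU i) (zpow_mem hzU j),
      show g (((a (n - 2) : ↥S) : Ω) ^ i) = g ((a (n - 2) : ↥S) : Ω) ^ i from map_zpow ψ ⟨_, haU⟩ i,
      show g (((z0 : ↥S) : Ω) ^ j) = g ((z0 : ↥S) : Ω) ^ j from map_zpow ψ ⟨_, hzU⟩ j, hga, hgz0,
      inv_zpow, inv_zpow, _root_.mul_inv_rev]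
    exact ((gam_commute C.mc (by omega) (coe_mem_gam.2 hane) (coe_mem_gam.2 hz0m)).zpow_zpow i j).inv_inv.eq
  rw [hgf (hLe φ.x0_mem), φ.f_x0] at hinv
  exact φ.x0_ne (eq_one_of_inv_eq (by have := C.five; omega) C.mc.isPGroup hx0S hinv.symm)

theorem false_five (h5 : n = 5) : False := by
  subst h5
  have hodd : p ≠ 2 := by have := C.five; omega
  have hZ := C.centre_le hall
  have c := C.cand_self
  have hm := C.mc
  by_cases hlast : dseq e s 3 ∈ filt ↥S 4
  swap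
  · obtain ⟨r, hr⟩ := C.even_n hall φ he he' hs ha2 hlast
    omega
  set a := dseq e s with hadef
  have ha : ∀ i, a i ∈ filt ↥S i := dseq_mem e s
  have hN : normalizerIn S E = chainU S 5 E 3 := normalizerIn_eq hm c le_rfl hZ
  have hEN : E ≤ chainU S 5 E 3 := le_sup_left
  have hgen : zpowers (e : Ω) ⊔ gam S 3 = E := by
    haveI : Finite E := finite_of_le c.le
    have hle : zpowers (e : Ω) ⊔ gam S 3 ≤ E := sup_le (zpowers_le.2 he) hZ
    haveI : Finite ↥(zpowers (e : Ω) ⊔ gam S 3 : Subgroup Ω) := finite_of_le (hle.trans c.le)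
    refine Subgroup.eq_of_le_of_card_ge hle ?_
    obtain ⟨k, hk⟩ := IsPGroup.iff_card.1 (hm.isPGroup.to_le (hle.trans c.le))
    have h1 : Nat.card ↥(gam S 3) < Nat.card ↥(zpowers (e : Ω) ⊔ gam S 3 : Subgroup Ω) :=
      lt_of_le_of_ne (Subgroup.card_le_of_le le_sup_right) fun hh => he'
        ((Subgroup.eq_of_le_of_card_ge le_sup_right hh.ge).ge (mem_sup_left (mem_zpowers _)))
    rw [card_gam hm (by omega) (by omega), hk] at h1
    rw [c.card, hk]
    exact Nat.pow_le_pow_right hp.out.pos (by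
      have := (Nat.pow_lt_pow_iff_right hp.out.one_lt).1 h1
      omega)
  have hEV := inf_gam hm c le_rfl hZ (show 2 ≤ 3 by omega) (by omega)
  -- the commutator with `e`
  have ha3 : a 3 = ⁅e, a 2⁆ := dseq_succ e s (by omega)
  have ha3ne : a 3 ≠ 1 := by
    intro h1
    rw [ha3] at h1
    have hEc : ((a 2 : ↥S) : Ω) ∈ centralizerIn S E := by
      refine ⟨(a 2).2, ?_⟩
      have hle : E ≤ centralizer ({((a 2 : ↥S) : Ω)} : Set Ω) := by
        refine hgen.ge.trans (sup_le (zpowers_le.2 (mem_centralizer_singleton_iff.2 ?_))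
          fun y hy => mem_centralizer_singleton_iff.2 ?_)
        · have h2 := congrArg Subtype.val (commutatorElement_eq_one_iff_mul_comm.1 h1)
          exact h2
        · exact (gam_commute hm (by omega) hy (coe_mem_gam.2 (ha 2))).eq
      exact mem_centralizer_iff.2 fun y hy => mem_centralizer_singleton_iff.1 (hle hy)
    rw [c.cent] at hEc
    exact ha2 (coe_mem_gam.1 (hEV.le ⟨hEc, coe_mem_gam.2 (ha 2)⟩))
  have ha2N : ((a 2 : ↥S) : Ω) ∈ normalizerIn S E := hN ▸ mem_sup_right (coe_mem_gam.2 (ha 2))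
  have heN : (e : Ω) ∈ normalizerIn S E := le_normalizerIn c.le he
  have ha3l : ((a 3 : ↥S) : Ω) ∈ zpowers l := by
    rw [ha3, coe_comm, ← commutatorElement_inv]
    exact inv_mem (φ.comm_mem _ ha2N _ he)
  have hlE : L ≤ normalizerIn S E := fun x hx => le_normalizerIn c.le (φ.L_le hx)
  have hfl : ∀ x ∈ zpowers l, f x = x⁻¹ := fun x hx =>
    gen_apply φ.iso.1 hlE φ.l_mem φ.f_l hx
  have h4 : ∀ x ∈ gam S 4, x ∈ zpowers l := by
    intro x hx
    obtain ⟨_, ⟨i, rfl⟩, y, hy, e1⟩ := mem_sup_of_normal_right.1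
      (hm.layer_gen (i := 4) (by omega) le_rfl hlast
        (by rw [hm.filt_n, mem_bot]; exact ha3ne) (coe_mem_gam (x := ⟨x, gam_le _ hx⟩).1 hx))
    rw [hm.filt_n, mem_bot] at hy
    rw [hy, mul_one] at e1
    have := congrArg Subtype.val e1
    simp only [SubgroupClass.coe_zpow] at this
    exact this ▸ zpow_mem ha3l i
  -- extend to `S`
  have h2f := C.flip_two hall φ
  have hiso : IsIso F (chainU S 5 E 3) (chainU S 5 E 3) f := hN ▸ φ.iso
  have h3f : ∀ x ∈ gam S 2, f x ∈ gam S 2 := C.image_gam hall le_rfl le_rfl hiso h2f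
  have h4f : ∀ x ∈ gam S 4, f x ∈ gam S 4 := fun x hx => by
    rw [hfl x (h4 x hx)]
    exact inv_mem hx
  let D : ℕ → Subgroup Ω := fun i =>
    if i = 0 then ⊥ else if i < 4 then gam S (5 - i) else chainU S 5 E 3
  have hmono : Monotone D := by
    intro i j hij
    simp only [D]
    split_ifs with h1 h2 h3 h4 h5 <;>
      first
      | exact bot_le
      | exact le_rfl
      | omega
      | exact gam_antitone (by omega)
      | exact (gam_antitone (show 5 - 3 ≤ 5 - i by omega)).trans le_sup_right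
  have hU4 : Nat.card ↥(chainU S 5 E 3) = p ^ (3 + 1) :=
    card_chainU hm c le_rfl hZ (by omega) le_rfl
  have hfD : ∀ i, i ≤ 4 → ∀ x ∈ D i, f x ∈ D i := by
    intro i hi x hx
    simp only [D] at hx ⊢
    split_ifs at hx ⊢ with h1 h2
    · rw [mem_bot] at hx ⊢
      rw [hx, hiso.1.map_one]
    · rcases (by omega : i = 1 ∨ i = 2 ∨ i = 3) with rfl | rfl | rfl
      · exact h4f x hx
      · exact h2f x hx
      · exact h3f x hx
    · exact hiso.mem hx
  have hstab : ∀ b ∈ normalizerIn S (chainU S 5 E 3), ∀ i, i < 4 → ∀ x ∈ D (i + 1),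
      x⁻¹ * (b * x * b⁻¹) ∈ D i := by
    intro b hb i hi x hx
    have e1 : x⁻¹ * (b * x * b⁻¹) = ⁅x⁻¹, b⁆ := by simp [commutatorElement_def, mul_assoc]
    rw [e1, ← commutatorElement_inv]
    refine inv_mem ?_
    rcases Nat.lt_or_ge i 3 with hlt | hge
    · simp only [D] at hx ⊢
      rw [if_neg (by omega), if_pos (by omega)] at hx
      have h2 := gam_comm_one hb.1 (inv_mem hx)
      split_ifs with h0
      · subst h0
        exact gam_n hm ▸ h2
      · exact gam_antitone (show 5 - i ≤ 5 - (i + 1) + 1 by omega) h2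
    · obtain rfl : i = 3 := by omega
      have hxU : x ∈ chainU S 5 E 3 := hx
      show ⁅b, x⁻¹⁆ ∈ gam S (5 - 3)
      exact gam_comm (mem_gam_one hb.1) (mem_gam_one (chainU_le c.le _ (inv_mem hxU)))
  obtain ⟨g, hg, hge⟩ := extend_series hm.isPGroup C.sat
    (C.fullyNormalized_chainU hall (by omega) le_rfl) hiso D 4 hmono rfl rfl hfD hstab
  have hNS : normalizerIn S (chainU S 5 E 3) = S := by
    refine Subgroup.eq_of_le_of_card_ge inf_le_left ?_
    rw [card_normalizer_chainU hm c le_rfl hZ (by omega) le_rfl, hm.card]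
  rw [hNS] at hg
  set Φ := toSHom hg.1 with hΦ
  let g' : ↥S → ↥S := fun x => Φ ⟨x, mem_subgroupOf.2 x.2⟩
  have hg'c : ∀ x y : ↥S, g' ⁅x, y⁆ = ⁅g' x, g' y⁆ := fun x y => by
    show Φ _ = ⁅Φ _, Φ _⁆
    rw [← map_commutatorElement]
    congr 1
  have hgU : ∀ x ∈ chainU S 5 E 3, g x = f x := fun x hx => hge hx
  -- decomposition of `g s`
  set U' := (chainU S 5 E 3).subgroupOf S with hU'
  have hfiltU : filt ↥S 2 ≤ U' := fun x hx => mem_subgroupOf.2 (mem_sup_right (coe_mem_gam.2 hx))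
  have he2 : e ∉ filt ↥S 2 := fun h2 => he' (hEV.le ⟨he, coe_mem_gam.2 h2⟩)
  have htop : zpowers s ⊔ U' = ⊤ := by
    by_contra hne
    have h1 := card_of_between hm (K := zpowers s ⊔ U') (hfiltU.trans le_sup_right) hne
      (mem_sup_right (mem_subgroupOf.2 (hEN he))) he2
    have h2 : Nat.card ↥U' = p ^ 4 := by
      rw [Nat.card_congr (subgroupOfEquivOfLe (chainU_le c.le _)).toEquiv, hU4]
    have e1 := Subgroup.eq_of_le_of_card_ge (le_sup_right : U' ≤ zpowers s ⊔ U') (h1.trans h2.symm).le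
    exact hs (mem_subgroupOf.1 (e1.ge (mem_sup_left (mem_zpowers s))))
  haveI : U'.Normal := by
    refine normalizer_eq_top_iff.1 (eq_top_iff.2 fun x _ => mem_normalizer_of_conj fun y hy =>
      mem_subgroupOf.2 ?_)
    have hx' : (x : Ω) ∈ normalizer (chainU S 5 E 3 : Set Ω) := (hNS.ge x.2).2
    exact conj_mem_of_mem_normalizer hx' (mem_subgroupOf.1 hy)
  obtain ⟨_, ⟨u, rfl⟩, c0, hc0, hgs⟩ := mem_sup_of_normal_right.1
    (htop.ge (mem_top (g' s)))
  -- the two relations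
  have he2' : ∀ x ∈ filt ↥S 3, ⁅e, x⁆ = 1 := fun x hx => C.e_comm hall φ he he' hs hx
  have hec : ∀ x : ↥S, (x : Ω) ∈ chainU S 5 E 3 → ⁅e, x⁆ ∈ filt ↥S 3 := by
    intro x hx
    rw [← coe_mem_gam, coe_comm]
    have h1 : (x : Ω) ∈ normalizerIn S E := hN ▸ hx
    rw [← commutatorElement_inv]
    refine inv_mem (zpowers_le.2 ?_ (φ.comm_mem _ h1 _ he))
    have := φ.l_mem
    rwa [C.flip_L hall φ] at this
  obtain ⟨w, hw, hge'⟩ : ∃ w ∈ filt ↥S 3, g' e = e ^ (-1 : ℤ) * w := by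
    have h1 := φ.f_E _ he
    rw [C.flip_L hall φ] at h1
    refine ⟨⟨f (e : Ω) * (e : Ω), gam_le _ h1⟩, coe_mem_gam.1 h1, Subtype.ext ?_⟩
    show g (e : Ω) = ((e ^ (-1 : ℤ) : ↥S) : Ω) * (f (e : Ω) * (e : Ω))
    rw [zpow_neg_one, hgU _ (hEN he), InvMemClass.coe_inv]
    have hfe : f (e : Ω) ∈ E := by
      have h2 : f (e : Ω) ∈ f '' (E : Set Ω) := ⟨_, he, rfl⟩
      rw [φ.image] at h2
      exact h2
    have := congrArg Subtype.val (c.comm.is_comm.comm (⟨(e : Ω), he⟩ : ↥E) ⟨f (e : Ω), hfe⟩)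
    simp only [Subgroup.coe_mul] at this
    rw [← this, inv_mul_cancel_left]
  have ha2e : a 2 = ⁅e, s⁆ := dseq_succ e s le_rfl
  have hrel : QuotientGroup.mk' (filt ↥S 3) (g' (a 2)) =
      QuotientGroup.mk' (filt ↥S 3) (a 2) ^ (-u : ℤ) := by
    have hw1 : ∀ x : ↥S, ⁅w, x⁆ ∈ filt ↥S 3 := fun x => filt_antitone (by omega)
      (filt_commutator 3 1 (commutator_mem_commutator hw (mem_top x)))
    rw [ha2e, hg'c, hge', ← hgs]
    have e1 : ⁅e ^ (-1 : ℤ) * w, s ^ u * c0⁆ =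
        e ^ (-1 : ℤ) * ⁅w, s ^ u * c0⁆ * (e ^ (-1 : ℤ))⁻¹ * ⁅e ^ (-1 : ℤ), s ^ u * c0⁆ := by
      simp only [commutatorElement_def]; group
    have h1 : QuotientGroup.mk' (filt ↥S 3) ⁅w, s ^ u * c0⁆ = 1 :=
      (QuotientGroup.eq_one_iff _).2 (hw1 _)
    have h2 : QuotientGroup.mk' (filt ↥S 3) ⁅e ^ (-1 : ℤ), c0⁆ = 1 := by
      refine (QuotientGroup.eq_one_iff _).2 ?_
      have h3 : ⁅e ^ (-1 : ℤ), c0⁆ = e⁻¹ * ⁅e, c0⁆⁻¹ * e := by
        simp only [commutatorElement_def]; group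
      rw [h3]
      simpa using (filt_normal 3).conj_mem _ (inv_mem (hec c0 (mem_subgroupOf.1 hc0))) e⁻¹
    rw [e1, map_mul, map_mul, map_mul, map_inv, h1, mul_one, mul_inv_cancel, one_mul,
      comm_layer_mul_right (j := 1) (i := 1) (by omega) (mem_top _) (mem_top _), h2, mul_one,
      comm_layer_zpow (j := 1) (i := 1) (by omega) (mem_top _) (mem_top _), neg_one_mul]
  have hfix : g' (a 2) * (a 2)⁻¹ ∈ filt ↥S 3 := by
    refine coe_mem_gam.1 ?_
    show g ((a 2 : ↥S) : Ω) * ((a 2 : ↥S) : Ω)⁻¹ ∈ gam S 3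
    have hU2 : ((a 2 : ↥S) : Ω) ∈ chainU S 5 E 3 := mem_sup_right (coe_mem_gam.2 (ha 2))
    rw [hgU _ hU2]
    exact hEV.le ⟨φ.f_N _ ha2N,
      (gam S 2).mul_mem (h3f _ (coe_mem_gam.2 (ha 2))) ((gam S 2).inv_mem (coe_mem_gam.2 (ha 2)))⟩
  have hu : (p : ℤ) ∣ -u - 1 := by
    refine dvd_of_zpow_mem hm (x := a 2) ha2 ((QuotientGroup.eq_one_iff _).1 ?_)
    show QuotientGroup.mk' (filt ↥S 3) (a 2 ^ (-u - 1)) = 1
    rw [zpow_sub, zpow_one, map_mul, map_zpow, ← hrel, ← map_mul]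
    exact (QuotientGroup.eq_one_iff _).2 hfix
  -- the layer below
  set b := ⁅s, a 2⁆ with hb
  have hbm : b ∈ filt ↥S 3 := filt_commutator 1 2 (commutator_mem_commutator (mem_top s) (ha 2))
  have heC : e ∈ twoStep ↥S (2 - 1) :=
    layer_le_of_mem hm le_rfl (by omega) (ha 2) ha2 (by rw [← ha3]; exact hlast)
  have hUC : U' ≤ twoStep ↥S (2 - 1) := by
    intro x hx
    have hle : chainU S 5 E 3 ≤ (twoStep ↥S (2 - 1)).map S.subtype := by
      refine sup_le (hgen.ge.trans (sup_le (zpowers_le.2 ⟨e, heC, rfl⟩) ?_)) ?_ <;>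
        intro y hy
      · exact ⟨⟨y, gam_le _ hy⟩, filt_two_le_twoStep hm 2 (by omega)
          (filt_antitone (by omega) (coe_mem_gam (x := ⟨y, gam_le _ hy⟩).1 hy)), rfl⟩
      · exact ⟨⟨y, gam_le _ hy⟩, filt_two_le_twoStep hm 2 (by omega)
          (coe_mem_gam (x := ⟨y, gam_le _ hy⟩).1 hy), rfl⟩
    obtain ⟨x', hx', e'⟩ := hle (mem_subgroupOf.1 hx)
    rwa [← Subtype.ext e']
  have hbne : b ∉ filt ↥S 4 := by
    intro hb4
    refine hm.twoStep_ne (i := 2) le_rfl (by omega) (top_le_iff.1 (htop.ge.trans (sup_le ?_ hUC)))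
    exact zpowers_le.2 (layer_le_of_mem hm le_rfl (by omega) (ha 2) ha2 hb4)
  have hrel2 : QuotientGroup.mk' (filt ↥S 4) (g' b) = QuotientGroup.mk' (filt ↥S 4) b ^ u := by
    rw [hb, hg'c, ← hgs]
    have hz : (a 2)⁻¹ * g' (a 2) ∈ filt ↥S (2 + 1) := by
      have := (filt_normal 3).conj_mem _ hfix (a 2)⁻¹
      simpa [mul_assoc] using this
    rw [comm_layer_congr (j := 1) (i := 2) (k := 4) (by omega) (u := s) (v := a 2) (w := c0)
      (z := (a 2)⁻¹ * g' (a 2)) (a := u) (b := 1) (mem_top _) (ha 2) rfl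
      (fun x hx => (mem_twoStep' (by omega)).1 (hUC hc0) x hx) (by rw [zpow_one, mul_inv_cancel_left])
      hz, mul_one]
  -- the fixed element
  have hx0S : x0 ∈ S := c.le (φ.L_le φ.x0_mem)
  set x : ↥S := ⟨x0, hx0S⟩
  have hx0Z : x ∈ filt ↥S 3 := coe_mem_gam.1 (C.flip_L hall φ ▸ φ.x0_mem)
  obtain ⟨_, ⟨j, rfl⟩, y, hy, hxy⟩ := mem_sup_of_normal_right.1
    (hm.layer_gen (i := 3) (by omega) (by omega) hbm hbne hx0Z)
  have hgx : g' x = x := Subtype.ext (by
    show g x0 = x0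
    rw [hgU x0 (hEN (φ.L_le φ.x0_mem)), φ.f_x0])
  have hgy : QuotientGroup.mk' (filt ↥S 4) (g' y) = 1 := by
    refine (QuotientGroup.eq_one_iff _).2 (coe_mem_gam.1 ?_)
    show g ((y : ↥S) : Ω) ∈ gam S 4
    rw [hgU _ (mem_sup_right (gam_antitone (by omega) (coe_mem_gam.2 hy)))]
    exact h4f _ (coe_mem_gam.2 hy)
  have hgxy : g' x = g' b ^ j * g' y := by
    show Φ _ = Φ _ ^ j * Φ _
    rw [← map_zpow, ← map_mul]
    congr 1
    refine Subtype.ext ?_
    rw [Subgroup.coe_mul, SubgroupClass.coe_zpow]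
    exact hxy.symm
  have hπy : QuotientGroup.mk' (filt ↥S 4) y = 1 := (QuotientGroup.eq_one_iff _).2 hy
  have heq : QuotientGroup.mk' (filt ↥S 4) b ^ (u * j) = QuotientGroup.mk' (filt ↥S 4) b ^ j := by
    calc QuotientGroup.mk' (filt ↥S 4) b ^ (u * j)
        = QuotientGroup.mk' (filt ↥S 4) (g' x) := by
          rw [hgxy, map_mul, map_zpow, hrel2, hgy, mul_one, zpow_mul]
      _ = QuotientGroup.mk' (filt ↥S 4) b ^ j := by
          rw [hgx, ← hxy, map_mul, map_zpow, hπy, mul_one]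
  have hd : (p : ℤ) ∣ u * j - j := by
    refine dvd_of_zpow_mem hm hbne ((QuotientGroup.eq_one_iff _).1 ?_)
    show QuotientGroup.mk' (filt ↥S 4) (b ^ (u * j - j)) = 1
    rw [map_zpow, zpow_sub, heq, mul_inv_cancel]
  have hj : (p : ℤ) ∣ j := by
    obtain ⟨q, hq⟩ := hu
    have h2 : (p : ℤ) ∣ 2 * j := by
      have : 2 * j = -(u * j - j) + (p : ℤ) * (-q * j) := by
        have : u = -((p : ℤ) * q) - 1 := by linarith
        rw [this]; ring
      rw [this]
      exact dvd_add (dvd_neg.2 hd) (Dvd.intro _ rfl)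
    rcases Int.Prime.dvd_mul' hp.out h2 with h3 | h3
    · exact absurd ((Nat.prime_dvd_prime_iff_eq hp.out Nat.prime_two).1 (by exact_mod_cast h3)) hodd
    · exact h3
  have hx4 : x ∈ filt ↥S 4 := by
    obtain ⟨q, rfl⟩ := hj
    rw [← hxy]
    refine mul_mem ?_ hy
    show b ^ ((p : ℤ) * q) ∈ filt ↥S 4
    rw [zpow_mul, zpow_natCast]
    obtain ⟨w', hw'⟩ := hm.exists_cfg
    exact zpow_mem (hw'.pow_p_mem_succ (by omega) hbm) q
  have hinv := hfl x0 (h4 x0 (coe_mem_gam.2 hx4))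
  rw [φ.f_x0] at hinv
  exact φ.x0_ne (eq_one_of_inv_eq hodd hm.isPGroup hx0S hinv.symm)

end Ctx

theorem Ctx.false_all (C : Ctx F p n E)
    (hall : ∀ E', F.IsConj E E' → gam S (n - 2) ≤ E') : False := by
  obtain ⟨f, L, l, x0, φ⟩ := C.exists_flip
  obtain ⟨e, s, he, he', hs, -, ha2⟩ := C.setup hall φ
  rcases Nat.lt_or_ge n 6 with h | h
  · exact C.false_five hall φ he he' hs ha2 (by have := C.hn; omega)
  · exact C.false_big hall φ he he' hs ha2 h

end Cfsg.Agent.MaxEss41
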