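import Cfsg.Agent.MaxEss41.TypeOne

/-!
The case of a conjugate not containing the second centre.
-/

set_option autoImplicit false
set_option linter.unusedSectionVars false
set_option linter.style.haveILetI false

namespace Cfsg.Agent.MaxEss41

open Subgroup FG38 SectRank81 FG72.MaxClass
open Cfsg.Agent.Fusion
open Cfsg.FusionSystem (normalizerIn centralizerIn)
open scoped commutatorElement

variable {Ω : Type*} [Group Ω] {S : Subgroup Ω} {F : Cfsg.FusionSystem S} {p n : ℕ}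
  [hp : Fact p.Prime] {E : Subgroup Ω} [Finite ↥S]

theorem twoStep_eq_first {G : Type*} [Group G] [Finite G] (h : MaxCl p n G) (hp5 : 5 ≤ p) {k : ℕ}
    (hk : 2 ≤ k) (hkn : k + 3 ≤ n) : twoStep G (k - 1) = twoStep G (2 - 1) :=
  (Subgroup.eq_of_le_of_card_ge (twoStep_first_le h hp5 k hk hkn)
    ((card_le_of_ne_top h (h.twoStep_ne hk (by omega))).trans
      (card_twoStep_ge h le_rfl (by omega)))).symm

/-- An automorphism of the system on all of `S`, as a homomorphism. -/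
def selfHom {g : Ω → Ω} (hg : IsMap F S g) : ↥S →* ↥S :=
  MonoidHom.mk' (fun x => ⟨g x, hg.apply_mem x.2⟩) fun x y => Subtype.ext (hg.map_mul x.2 y.2)

theorem selfHom_apply {g : Ω → Ω} (hg : IsMap F S g) (x : ↥S) : ((selfHom hg x : ↥S) : Ω) = g x :=
  rfl

theorem exists_layer {G : Type*} [Group G] {x : G} {m : ℕ} (hm : 2 ≤ m) (h2 : x ∈ filt G 2)
    (hnot : x ∉ filt G m) : ∃ j, 2 ≤ j ∧ j < m ∧ x ∈ filt G j ∧ x ∉ filt G (j + 1) := by
  induction m, hm using Nat.le_induction with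
  | base => exact absurd h2 hnot
  | succ m hm ih =>
    by_cases h : x ∈ filt G m
    · exact ⟨m, hm, Nat.lt_succ_self m, h, hnot⟩
    · obtain ⟨j, a, b, c, d⟩ := ih h
      exact ⟨j, a, b.trans (Nat.lt_succ_self m), c, d⟩

namespace Ctx

variable (C : Ctx F p n E) {f : Ω → Ω} {L : Subgroup Ω} {l x0 : Ω} (φ : Flip F p E f L l x0)
include C φ

theorem flip_image_L : ∀ x ∈ L, f x ∈ L := by
  intro x hx
  have hfx : f x ∈ E := by
    have : f x ∈ f '' (E : Set Ω) := ⟨x, φ.L_le hx, rfl⟩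
    rw [φ.image] at this
    exact this
  refine (φ.L_iff _ hfx).2 fun g hg => ?_
  obtain ⟨g', hg', rfl⟩ := φ.iso.exists_preimage hg
  have hxN : x ∈ normalizerIn S E := le_normalizerIn C.ess.1.1 (φ.L_le hx)
  show f g' * f x = f x * f g'
  rw [← φ.iso.1.map_mul hg' hxN, ← φ.iso.1.map_mul hxN hg',
    ((φ.L_iff x (φ.L_le hx)).1 hx g' hg').eq]

/-- The centre of the normalizer is invariant under its normalizer. -/
theorem L_invariant : normalizerIn S (normalizerIn S E) ≤ normalizer (L : Set Ω) := by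
  haveI : Finite L := finite_of_le (φ.L_le.trans C.ess.1.1)
  intro a ha
  refine mem_normalizer_of_conj fun x hx => ?_
  have hall : ∀ g ∈ normalizerIn S E, Commute g (a * x * a⁻¹) := by
    intro g hg
    have hg' : a⁻¹ * g * a ∈ normalizerIn S E := by
      have := conj_mem_of_mem_normalizer (inv_mem ha.2) hg
      simpa using this
    have h1 := (φ.L_iff x (φ.L_le hx)).1 hx _ hg'
    calc g * (a * x * a⁻¹) = a * ((a⁻¹ * g * a) * x) * a⁻¹ := by group
      _ = a * (x * (a⁻¹ * g * a)) * a⁻¹ := by rw [h1.eq]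
      _ = a * x * a⁻¹ * g := by group
  have hmem : a * x * a⁻¹ ∈ E := by
    rw [← C.cand_self.cent]
    exact ⟨S.mul_mem (S.mul_mem ha.1 (C.ess.1.1 (φ.L_le hx))) (S.inv_mem ha.1),
      mem_centralizer_iff.2 fun y hy => (hall y (le_normalizerIn C.ess.1.1 hy)).eq⟩
  exact (φ.L_iff _ hmem).2 hall

variable (hZ : ¬ gam S (n - 2) ≤ E)
include hZ

theorem two_facts :
    gam S (n - 1) ≤ zpowers l ∧ gam S (n - 1) ≤ L ∧ gam S (n - 2) ≤ normalizerIn S E ∧
      (∃ e : ↥S, (e : Ω) ∈ E ∧ (e : Ω) ∉ L ∧ e ∈ twoStep ↥S (2 - 1) ∧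
        e ∉ twoStep ↥S (n - 2 - 1) ∧ E ≤ zpowers (e : Ω) ⊔ L) ∧
      x0 ∉ gam S (n - 1) ∧ L ≤ gam S (n - 3) := by
  have hn := C.hn
  have c := C.cand_self
  have hm := C.mc
  have hp1 := hp.out.one_lt
  haveI : Finite E := finite_of_le c.le
  haveI : Finite L := finite_of_le (φ.L_le.trans c.le)
  have hodd : p ≠ 2 := by have := C.five; omega
  have hZ1E : gam S (n - 1) ≤ E := c.cent.symm ▸ le_inf (gam_le _) fun z hz =>
    mem_centralizer_iff.2 fun x hx => (gam_commute hm (by omega) (mem_gam_one (c.le hx)) hz).eq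
  have hZ2N : gam S (n - 2) ≤ normalizerIn S E := fun z hz => ⟨gam_le _ hz,
    mem_normalizer_of_conj fun x hx => by
      rw [conj_eq_comm_mul]
      refine mul_mem (hZ1E (gam_antitone (show n - 1 ≤ n - 2 + 1 by omega) ?_)) hx
      rw [← commutatorElement_inv]
      exact inv_mem (gam_comm_one (c.le hx) hz)⟩
  obtain ⟨z, hz, hzE⟩ := SetLike.not_le_iff_exists.1 hZ
  have hzS := gam_le _ hz
  -- an element moved by `z`
  obtain ⟨e₀, he₀, hcom⟩ : ∃ e₀ ∈ E, ¬ Commute z e₀ := by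
    by_contra! hc
    exact hzE (c.cent ▸ ⟨hzS, mem_centralizer_iff.2 fun x hx => (hc x hx).eq.symm⟩)
  have hZ1l : gam S (n - 1) ≤ zpowers l := by
    have h1 : ⁅e₀, z⁆ ∈ gam S (n - 1) :=
      (show n - 2 + 1 = n - 1 by omega) ▸ gam_comm_one (c.le he₀) hz
    have h2 : ⁅e₀, z⁆ ∈ zpowers l := by
      rw [← commutatorElement_inv]
      exact inv_mem (φ.comm_mem _ (hZ2N hz) _ he₀)
    have hne : ⁅e₀, z⁆ ≠ 1 := fun h =>
      hcom (commutatorElement_eq_one_iff_commute.1 h).symm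
    have hc := card_gam hm (i := n - 1) (by omega) (by omega)
    rw [show n - (n - 1) = 1 by omega, pow_one] at hc
    haveI : Finite ↥(gam S (n - 1)) := finite_of_le (gam_le _)
    intro x hx
    obtain ⟨_, ⟨i, rfl⟩, y, hy, e⟩ := mem_sup_of_normal_right.1
      (hm.layer_gen (i := n - 1) (by omega) (by omega)
        (coe_mem_gam (x := ⟨⁅e₀, z⁆, gam_le _ h1⟩).1 h1)
        (by rw [show n - 1 + 1 = n by omega, hm.filt_n, mem_bot]
            exact fun h => hne (congrArg Subtype.val h))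
        (coe_mem_gam (x := ⟨x, gam_le _ hx⟩).1 hx))
    rw [show n - 1 + 1 = n by omega, hm.filt_n, mem_bot] at hy
    rw [hy, mul_one] at e
    have := congrArg Subtype.val e
    simp only [SubgroupClass.coe_zpow] at this
    exact this ▸ zpow_mem h2 i
  have hlN : L ≤ normalizerIn S E := fun x hx => le_normalizerIn c.le (φ.L_le hx)
  have hZ1L : gam S (n - 1) ≤ L := fun x hx => zpowers_le.2 φ.l_mem (hZ1l hx)
  have hx0S : x0 ∈ S := c.le (φ.L_le φ.x0_mem)
  have hx0n1 : x0 ∉ gam S (n - 1) := fun h => by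
    have h1 := gen_apply φ.iso.1 hlN φ.l_mem φ.f_l (hZ1l h)
    rw [φ.f_x0] at h1
    exact φ.x0_ne (eq_one_of_inv_eq hodd hm.isPGroup hx0S h1.symm)
  obtain ⟨e₁, he₁, he₁L⟩ : ∃ e ∈ E, e ∉ L := by
    by_contra! hc
    have := Subgroup.card_le_of_le (show E ≤ L from hc)
    rw [c.card, φ.card_L] at this
    exact absurd ((Nat.pow_le_pow_iff_right hp1).1 this) (by omega)
  have hgenN : normalizerIn S E ≤ E ⊔ gam S (n - 2) := by
    haveI : Finite ↥(normalizerIn S E) := finite_of_le inf_le_left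
    have hle : E ⊔ gam S (n - 2) ≤ normalizerIn S E := sup_le (le_normalizerIn c.le) hZ2N
    haveI : Finite ↥(E ⊔ gam S (n - 2) : Subgroup Ω) := finite_of_le (hle.trans inf_le_left)
    refine (Subgroup.eq_of_le_of_card_ge hle ?_).ge
    obtain ⟨k, hk⟩ := IsPGroup.iff_card.1 (hm.isPGroup.to_le (hle.trans inf_le_left))
    have h1 : Nat.card ↥E < Nat.card ↥(E ⊔ gam S (n - 2) : Subgroup Ω) :=
      lt_of_le_of_ne (Subgroup.card_le_of_le le_sup_left) fun hh => hzE
        ((Subgroup.eq_of_le_of_card_ge le_sup_left hh.ge).ge (mem_sup_right hz))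
    rw [c.card, hk] at h1
    rw [c.card_N, hk]
    exact Nat.pow_le_pow_right hp.out.pos ((Nat.pow_lt_pow_iff_right hp1).1 h1)
  -- `L` is the part of `E` centralising the second centre
  set K := twoStep ↥S (n - 2 - 1) with hK
  have hKmem : ∀ x : ↥S, x ∈ K ↔ ∀ w ∈ gam S (n - 2), Commute (x : Ω) w := by
    intro x
    rw [hK, mem_twoStep' (by omega), show n - 2 + 2 = n by omega, hm.filt_n]
    constructor
    · intro h w hw
      have h1 := mem_bot.1 (h ⟨w, gam_le _ hw⟩ (coe_mem_gam.1 hw))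
      exact commutatorElement_eq_one_iff_commute.1 ((coe_comm x ⟨w, gam_le _ hw⟩).symm.trans
        (congrArg Subtype.val h1))
    · intro h w hw
      rw [mem_bot, commutatorElement_eq_one_iff_commute]
      exact Subtype.ext (h w (coe_mem_gam.2 hw)).eq
  have he₁K : (⟨e₁, c.le he₁⟩ : ↥S) ∉ K := by
    intro hk
    refine he₁L ((φ.L_iff e₁ he₁).2 fun g hg => ?_)
    have hle : E ⊔ gam S (n - 2) ≤ centralizer ({e₁} : Set Ω) := by
      refine sup_le (fun x hx => mem_centralizer_singleton_iff.2 ?_) fun x hx =>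
        mem_centralizer_singleton_iff.2 ?_
      · exact congrArg Subtype.val (c.comm.is_comm.comm (⟨x, hx⟩ : ↥E) ⟨e₁, he₁⟩)
      · exact ((hKmem _).1 hk x hx).eq.symm
    exact mem_centralizer_singleton_iff.1 (hle (hgenN hg))
  have hx0K : (⟨x0, hx0S⟩ : ↥S) ∈ K := (hKmem _).2 fun w hw =>
    ((φ.L_iff x0 (φ.L_le φ.x0_mem)).1 φ.x0_mem w (hZ2N hw)).symm
  have hKne : K ≠ ⊤ := hm.twoStep_ne (by omega) (by omega)
  have hx02 : (⟨x0, hx0S⟩ : ↥S) ∈ filt ↥S 2 := by
    by_contra h2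
    refine comm_not_mem hm (filt_two_le_twoStep hm (n - 2) (by omega)) hx0K h2 he₁K ?_
    have h1 : (⁅(⟨e₁, c.le he₁⟩ : ↥S), ⟨x0, hx0S⟩⁆ : ↥S) = 1 :=
      commutatorElement_eq_one_iff_commute.2 (Subtype.ext
        ((φ.L_iff x0 (φ.L_le φ.x0_mem)).1 φ.x0_mem e₁ (le_normalizerIn c.le he₁)).eq)
    rw [h1]
    exact one_mem _
  have hx0Z2 : (⟨x0, hx0S⟩ : ↥S) ∉ filt ↥S (n - 2) := by
    intro h2
    refine hZ fun y hy => ?_
    obtain ⟨_, ⟨i, rfl⟩, w, hw, e⟩ := mem_sup_of_normal_right.1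
      (hm.layer_gen (i := n - 2) (by omega) (by omega) h2
        (fun h3 => hx0n1 ((show n - 2 + 1 = n - 1 by omega) ▸ coe_mem_gam.2 h3))
        (coe_mem_gam (x := ⟨y, gam_le _ hy⟩).1 hy))
    rw [show n - 2 + 1 = n - 1 by omega] at hw
    have := congrArg Subtype.val e
    simp only [Subgroup.coe_mul, SubgroupClass.coe_zpow] at this
    exact this ▸ mul_mem (zpow_mem (φ.L_le φ.x0_mem) i) (hZ1E (coe_mem_gam.2 hw))
  obtain ⟨j, hj2, hjn, hxj, hxj'⟩ := exists_layer (by omega) hx02 hx0Z2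
  have he₁C : (⟨e₁, c.le he₁⟩ : ↥S) ∈ twoStep ↥S (2 - 1) := by
    rw [← twoStep_eq_first hm C.five hj2 (by omega)]
    refine layer_le_of_mem hm hj2 (by omega) hxj hxj' ?_
    have h1 : (⁅(⟨e₁, c.le he₁⟩ : ↥S), ⟨x0, hx0S⟩⁆ : ↥S) = 1 :=
      commutatorElement_eq_one_iff_commute.2 (Subtype.ext
        ((φ.L_iff x0 (φ.L_le φ.x0_mem)).1 φ.x0_mem e₁ (le_normalizerIn c.le he₁)).eq)
    rw [h1]
    exact one_mem _
  -- `E` is generated by `e₁` and `L`
  have hEgen : E ≤ zpowers e₁ ⊔ L := by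
    have hle : zpowers e₁ ⊔ L ≤ E := sup_le (zpowers_le.2 he₁) φ.L_le
    haveI : Finite ↥(zpowers e₁ ⊔ L : Subgroup Ω) := finite_of_le (hle.trans c.le)
    refine (Subgroup.eq_of_le_of_card_ge hle ?_).ge
    obtain ⟨k, hk⟩ := IsPGroup.iff_card.1 (hm.isPGroup.to_le (hle.trans c.le))
    have h1 : Nat.card ↥L < Nat.card ↥(zpowers e₁ ⊔ L : Subgroup Ω) :=
      lt_of_le_of_ne (Subgroup.card_le_of_le le_sup_right) fun hh => he₁L
        ((Subgroup.eq_of_le_of_card_ge le_sup_right hh.ge).ge (mem_sup_left (mem_zpowers e₁)))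
    rw [φ.card_L, hk] at h1
    rw [c.card, hk]
    exact Nat.pow_le_pow_right hp.out.pos ((Nat.pow_lt_pow_iff_right hp1).1 h1)
  have hLgen : L ≤ zpowers x0 ⊔ gam S (n - 1) := by
    have hle : zpowers x0 ⊔ gam S (n - 1) ≤ L := sup_le (zpowers_le.2 φ.x0_mem) hZ1L
    haveI : Finite ↥(zpowers x0 ⊔ gam S (n - 1) : Subgroup Ω) :=
      finite_of_le (hle.trans (φ.L_le.trans c.le))
    refine (Subgroup.eq_of_le_of_card_ge hle ?_).ge
    obtain ⟨k, hk⟩ := IsPGroup.iff_card.1 (hm.isPGroup.to_le (hle.trans (φ.L_le.trans c.le)))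
    have h1 : Nat.card ↥(gam S (n - 1)) < Nat.card ↥(zpowers x0 ⊔ gam S (n - 1) : Subgroup Ω) :=
      lt_of_le_of_ne (Subgroup.card_le_of_le le_sup_right) fun hh => hx0n1
        ((Subgroup.eq_of_le_of_card_ge le_sup_right hh.ge).ge (mem_sup_left (mem_zpowers x0)))
    rw [card_gam hm (by omega) (by omega), hk] at h1
    rw [φ.card_L, hk]
    exact Nat.pow_le_pow_right hp.out.pos (by
      have := (Nat.pow_lt_pow_iff_right hp1).1 h1
      omega)
  -- the third centre normalises `E`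
  have hZ3N : gam S (n - 3) ≤ normalizerIn S E := by
    intro w hw
    refine ⟨gam_le _ hw, mem_normalizer_of_conj fun x hx => ?_⟩
    rw [conj_eq_comm_mul]
    refine mul_mem (hZ1E ?_) hx
    have hsS : (⟨w, gam_le _ hw⟩ : ↥S) ∈ filt ↥S (n - 3) := coe_mem_gam.1 hw
    obtain ⟨y₁, hy₁, y₂, hy₂, rfl⟩ : ∃ y₁ ∈ zpowers e₁, ∃ y₂ ∈ L, y₁ * y₂ = x := by
      letI : CommGroup ↥E := { (inferInstance : Group ↥E) with mul_comm := c.comm.is_comm.comm }
      have h1 : (⟨x, hx⟩ : ↥E) ∈ (zpowers e₁ ⊔ L).subgroupOf E := hEgen hx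
      rw [Subgroup.subgroupOf_sup (zpowers_le.2 he₁) φ.L_le, Subgroup.mem_sup] at h1
      obtain ⟨a, ha, b, hb, hab⟩ := h1
      exact ⟨a, ha, b, hb, congrArg Subtype.val hab⟩
    have h2 : ∀ y ∈ L, y ∈ gam S 2 := fun y hy =>
      (hLgen.trans (sup_le (zpowers_le.2 (coe_mem_gam.2 hx02)) (gam_antitone (by omega)))) hy
    have hy₂' : ⁅w, y₂⁆ ∈ gam S (n - 1) :=
      gam_antitone (by omega) (gam_comm hw (h2 y₂ hy₂))
    have hy₁' : ⁅w, y₁⁆ ∈ gam S (n - 1) := by
      have hmem : (⟨y₁, c.le (zpowers_le.2 he₁ hy₁)⟩ : ↥S) ∈ twoStep ↥S (n - 3 - 1) := by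
        rw [twoStep_eq_first hm C.five (by omega) (by omega)]
        obtain ⟨i, rfl⟩ := hy₁
        exact zpow_mem he₁C i
      have h3 := coe_mem_gam.2 ((mem_twoStep' (by omega)).1 hmem _ hsS)
      rw [coe_comm, show n - 3 + 2 = n - 1 by omega] at h3
      rw [← commutatorElement_inv]
      exact inv_mem h3
    have e : ⁅w, y₁ * y₂⁆ = ⁅w, y₁⁆ * (y₁ * ⁅w, y₂⁆ * y₁⁻¹) := by
      simp only [commutatorElement_def]; group
    rw [e]
    exact mul_mem hy₁' (gam_conj (c.le (zpowers_le.2 he₁ hy₁)) hy₂')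
  have hLZ3 : L ≤ gam S (n - 3) := by
    haveI : Finite ↥(normalizerIn S E) := finite_of_le inf_le_left
    set V := K.map S.subtype ⊓ normalizerIn S E with hV
    haveI : Finite ↥V := finite_of_le (inf_le_right.trans inf_le_left)
    have hle : gam S (n - 3) ≤ V := le_inf
      (fun w hw => ⟨⟨w, gam_le _ hw⟩, filt_two_le_twoStep hm (n - 2) (by omega)
        (filt_antitone (by omega) (coe_mem_gam (x := ⟨w, gam_le _ hw⟩).1 hw)), rfl⟩) hZ3N
    have hVc : Nat.card ↥V ≤ p ^ 3 := by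
      obtain ⟨k, hk⟩ := IsPGroup.iff_card.1
        (hm.isPGroup.to_le (inf_le_right.trans inf_le_left : V ≤ S))
      have h1 : Nat.card ↥V < p ^ 4 := by
        rw [← c.card_N]
        refine lt_of_le_of_ne (Subgroup.card_le_of_le inf_le_right) fun hh => he₁K ?_
        obtain ⟨y, hy, hye⟩ := ((Subgroup.eq_of_le_of_card_ge inf_le_right hh.ge).ge
          (le_normalizerIn c.le he₁) : e₁ ∈ V).1
        rwa [← show y = ⟨e₁, c.le he₁⟩ from Subtype.ext hye]
      rw [hk] at h1 ⊢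
      exact Nat.pow_le_pow_right hp.out.pos (by
        have := (Nat.pow_lt_pow_iff_right hp1).1 h1
        omega)
    have hVeq := Subgroup.eq_of_le_of_card_ge hle (hVc.trans
      (by rw [card_gam hm (by omega) (by omega), show n - (n - 3) = 3 by omega]))
    rw [hVeq]
    refine hLgen.trans (sup_le (zpowers_le.2 ⟨⟨_, hx0K, rfl⟩, hlN φ.x0_mem⟩) ?_)
    exact (gam_antitone (show n - 3 ≤ n - 1 by omega)).trans hle
  exact ⟨hZ1l, hZ1L, hZ2N, ⟨⟨e₁, c.le he₁⟩, he₁, he₁L, he₁C, he₁K, hEgen⟩, hx0n1, hLZ3⟩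

theorem false_two : False := by
  have hn := C.hn
  have c := C.cand_self
  have hm := C.mc
  have hp1 := hp.out.one_lt
  have hodd : p ≠ 2 := by have := C.five; omega
  obtain ⟨hZ1l, hZ1L, -, ⟨e, he, heL, heC, heK, hEgen⟩, hx0n1, hLZ3⟩ := C.two_facts φ hZ
  haveI : Finite E := finite_of_le c.le
  haveI : Finite L := finite_of_le (φ.L_le.trans c.le)
  set N := normalizerIn S E with hN
  haveI : Finite N := finite_of_le inf_le_left
  have hEN : E ≤ N := le_normalizerIn c.le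
  set K := twoStep ↥S (n - 2 - 1) with hKdef
  have hKne : K ≠ ⊤ := hm.twoStep_ne (by omega) (by omega)
  have he2 : e ∉ filt ↥S 2 := fun h => heK (filt_two_le_twoStep hm (n - 2) (by omega) h)
  have heg2 : (e : Ω) ∉ gam S 2 := fun h => he2 (coe_mem_gam.1 h)
  have hecomm : ∀ i, 2 ≤ i → i + 3 ≤ n → ∀ w ∈ gam S i, ⁅(e : Ω), w⁆ ∈ gam S (i + 2) := by
    intro i hi hin w hw
    have h1 : e ∈ twoStep ↥S (i - 1) := (twoStep_eq_first hm C.five hi hin).symm ▸ heC
    exact coe_comm e ⟨w, gam_le _ hw⟩ ▸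
      coe_mem_gam.2 ((mem_twoStep' (by omega)).1 h1 ⟨w, gam_le _ hw⟩ (coe_mem_gam.1 hw))
  have cZ3 : Nat.card ↥(gam S (n - 3)) = p ^ 3 := by
    rw [card_gam hm (by omega) (by omega), show n - (n - 3) = 3 by omega]
  -- `N` is generated by `e` and the third centre
  have hEinf : E ⊓ gam S (n - 3) = L := inf_eq_of_not_le (l := 2) c.card φ.card_L φ.L_le hLZ3
    fun hle => heg2 (gam_antitone (by omega) (hle he))
  have hNeq : N = E ⊔ gam S (n - 3) := by
    have hle : E ⊔ gam S (n - 3) ≤ N := by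
      refine sup_le hEN fun w hw => ⟨gam_le _ hw, mem_normalizer_of_conj fun x hx => ?_⟩
      have hall : E ≤ E.comap (MulAut.conj w).toMonoidHom := by
        refine hEgen.trans (sup_le (zpowers_le.2 ?_) fun y hy => ?_)
        · show w * (e : Ω) * w⁻¹ ∈ E
          rw [conj_eq_comm_mul]
          refine mul_mem ?_ he
          rw [← commutatorElement_inv]
          refine inv_mem (φ.L_le (hZ1L ?_))
          have := hecomm (n - 3) (by omega) (by omega) w hw
          rwa [show n - 3 + 2 = n - 1 by omega] at this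
        · show w * y * w⁻¹ ∈ E
          rw [conj_eq_comm_mul]
          exact mul_mem (φ.L_le (hZ1L (gam_antitone (by omega) (gam_comm hw (hLZ3 hy)))))
            (φ.L_le hy)
      exact hall hx
    haveI : Finite ↥(E ⊔ gam S (n - 3) : Subgroup Ω) := finite_of_le (hle.trans inf_le_left)
    refine (Subgroup.eq_of_le_of_card_ge hle ?_).symm
    have h1 := PLocalB.card_sup_mul_card_inf E (gam S (n - 3)) (c.le.trans gam_le_normalizer)
    rw [hEinf, φ.card_L, c.card, cZ3, ← pow_add] at h1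
    refine Nat.le_of_mul_le_mul_right ?_ (pow_pos hp.out.pos 2)
    rw [h1, c.card_N, ← pow_add]
  have hNgen : N ≤ zpowers (e : Ω) ⊔ gam S (n - 3) := by
    rw [hNeq]
    exact sup_le (hEgen.trans (sup_le le_sup_left (hLZ3.trans le_sup_right))) le_sup_right
  have hZ3N : gam S (n - 3) ≤ N := hNeq ▸ le_sup_right
  have hinfN : N ⊓ gam S 2 = gam S (n - 3) := inf_eq_of_not_le (l := 3) c.card_N cZ3 hZ3N
    (gam_antitone (by omega)) fun hle => heg2 (hle (hEN he))
  -- normalising `N`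
  have hnormN : ∀ i, 1 ≤ i → ∀ w ∈ gam S i, ⁅(e : Ω), w⁆ ∈ gam S (n - 3) →
      w ∈ normalizerIn S N := by
    intro i hi w hw hew
    refine ⟨gam_le _ hw, mem_normalizer_of_conj fun x hx => ?_⟩
    have hall : N ≤ N.comap (MulAut.conj w).toMonoidHom := by
      refine hNgen.trans (sup_le (zpowers_le.2 ?_) fun y hy => ?_)
      · show w * (e : Ω) * w⁻¹ ∈ N
        rw [conj_eq_comm_mul]
        refine mul_mem (hZ3N ?_) (hEN he)
        rw [← commutatorElement_inv]
        exact inv_mem hew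
      · exact hZ3N (gam_conj (gam_le _ hw) hy)
    exact hall hx
  set M := normalizerIn S N with hM
  haveI : Finite M := finite_of_le inf_le_left
  have hMmeet : M ⊓ normalizer (E : Set Ω) = N := by
    refine le_antisymm (le_inf (inf_le_left.trans inf_le_left) inf_le_right)
      (le_inf (fun y hy => ⟨hy.1, le_normalizer hy⟩) inf_le_right)
  have horb := orbit_count (p := p) (U := N) (V := gam S (n - 3)) (L := L) (E := E) (M := M)
    (l := 2) (m := 3) hEN hZ3N hEinf c.card φ.card_L c.card_N cZ3 inf_le_right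
    (inf_le_left.trans gam_le_normalizer) (C.L_invariant φ)
  rw [hMmeet, c.card_N, show p ^ (3 - 2) * p ^ 4 = p ^ 5 by
    rw [← pow_add]] at horb
  rcases (by omega : n = 5 ∨ 6 ≤ n) with h5 | h6
  · -- the centre of a normal `N` would be normal
    subst h5
    have hMS : M = S := by
      refine Subgroup.eq_of_le_of_card_ge inf_le_left ?_
      rw [hm.card]
      have hlt : N < S := lt_of_le_of_ne inf_le_left fun h => by
        have := c.card_N
        rw [← hN, h, hm.card] at this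
        exact absurd (Nat.pow_right_injective hp.out.two_le this) (by omega)
      have h2 := lt_normalizerIn hm.isPGroup hlt
      have hMp : IsPGroup p ↥M := hm.isPGroup.to_le inf_le_left
      obtain ⟨k, hk⟩ := IsPGroup.iff_card.1 hMp
      have h3 : Nat.card ↥N < Nat.card ↥M := lt_of_le_of_ne (Subgroup.card_le_of_le h2.le)
        fun hh => h2.ne (Subgroup.eq_of_le_of_card_ge h2.le hh.ge)
      rw [c.card_N, hk] at h3
      rw [hk]
      exact Nat.pow_le_pow_right hp.out.pos ((Nat.pow_lt_pow_iff_right hp1).1 h3)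
    have hx0S : x0 ∈ S := c.le (φ.L_le φ.x0_mem)
    have hx0Z : x0 ∉ gam S 3 := fun h3 => hZ fun y hy => by
      obtain ⟨_, ⟨i, rfl⟩, w, hw, e'⟩ := mem_sup_of_normal_right.1
        (hm.layer_gen (i := 3) (by omega) (by omega) (coe_mem_gam (x := ⟨x0, hx0S⟩).1 h3)
          (fun h4 => hx0n1 (coe_mem_gam.2 h4)) (coe_mem_gam (x := ⟨y, gam_le _ hy⟩).1 hy))
      have := congrArg Subtype.val e'
      simp only [Subgroup.coe_mul, SubgroupClass.coe_zpow] at this
      exact φ.L_le (this ▸ mul_mem (zpow_mem φ.x0_mem i) (hZ1L (coe_mem_gam.2 hw)))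
    haveI : Finite ↥(gam S 3) := finite_of_le (gam_le _)
    have hinfL : L ⊓ gam S 3 = gam S 4 := inf_eq_of_not_le (l := 1) φ.card_L
      (by rw [card_gam hm (by omega) (by omega)]) hZ1L (gam_antitone (by omega))
      fun hle => hx0Z (hle φ.x0_mem)
    refine hm.twoStep_ne (i := 2) le_rfl (by omega) (eq_top_iff.2 fun s _ => ?_)
    refine layer_le_of_mem hm le_rfl (by omega) (coe_mem_gam (x := ⟨x0, hx0S⟩).1 (hLZ3 φ.x0_mem))
      (fun h3 => hx0Z (coe_mem_gam.2 h3)) (coe_mem_gam.1 ?_)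
    rw [coe_comm]
    refine hinfL.le ⟨?_, gam_comm_one s.2 (hLZ3 φ.x0_mem)⟩
    have h1 := C.L_invariant φ (hMS.ge s.2)
    exact L.mul_mem (conj_mem_of_mem_normalizer h1 φ.x0_mem) (L.inv_mem φ.x0_mem)
  have hZ4M : gam S (n - 4) ≤ M := fun w hw => hnormN (n - 4) (by omega) w hw
    (gam_antitone (by omega) (hecomm (n - 4) (by omega) (by omega) w hw))
  set N1 := N ⊔ gam S (n - 4) with hN1
  haveI : Finite ↥N1 := finite_of_le (sup_le inf_le_left (gam_le _))
  have hN1M : N1 ≤ M := sup_le (le_normalizerIn inf_le_left) hZ4M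
  have cN1 : Nat.card ↥N1 = p ^ 5 := by
    have hi : N ⊓ gam S (n - 4) = gam S (n - 3) := inf_eq_of_not_le (l := 3) c.card_N cZ3 hZ3N
      (gam_antitone (by omega)) fun hle => heg2 (gam_antitone (by omega) (hle (hEN he)))
    have h1 := PLocalB.card_sup_mul_card_inf N (gam S (n - 4))
      (inf_le_left.trans gam_le_normalizer)
    rw [hi, cZ3, c.card_N, card_gam hm (by omega) (by omega), ← pow_add] at h1
    refine Nat.eq_of_mul_eq_mul_right (pow_pos hp.out.pos 3) (h1.trans ?_)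
    rw [← pow_add]
    congr 1
    omega
  have hMeq : N1 = M := Subgroup.eq_of_le_of_card_ge hN1M (horb.1.trans cN1.ge)
  rcases (by omega : n = 6 ∨ 7 ≤ n) with h6' | h7
  swap
  · have hle : gam S (n - 5) ≤ N1 := hMeq ▸ fun w hw => hnormN (n - 5) (by omega) w hw
      (gam_antitone (by omega) (hecomm (n - 5) (by omega) (by omega) w hw))
    have heq := Subgroup.eq_of_le_of_card_ge hle (by
      rw [cN1, card_gam hm (by omega) (by omega), show n - (n - 5) = 5 by omega])
    exact heg2 (gam_antitone (by omega) (heq.ge (mem_sup_left (hEN he))))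
  subst h6'
  clear h6
  have hcov := horb.2 (hMeq ▸ cN1.ge)
  have hLN : L ≤ N := φ.L_le.trans hEN
  -- the flip preserves the third centre
  have hf3 : ∀ x ∈ gam S 3, f x ∈ gam S 3 := by
    intro x hx
    by_contra hout
    have hxL : x ∉ L := fun h => hout (hLZ3 (C.flip_image_L φ x h))
    obtain ⟨a, ha, haE⟩ := hcov (f x) (φ.iso.mem (hZ3N hx)) hout
    have hconj : F.IsConj E (E.map (MulAut.conj a).toMonoidHom) :=
      IsIso.isConj (f := fun y => a * y * a⁻¹) ⟨isMap_conj c.le ha.1, rfl⟩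
    have hle : E.map (MulAut.conj a).toMonoidHom ≤ N := by
      rintro _ ⟨y, hy, rfl⟩
      exact conj_mem_of_mem_normalizer ha.2 (hEN hy)
    obtain ⟨gi, hgi, hgil, -⟩ := φ.iso.exists_inv
    obtain ⟨E₁, -, hE₁⟩ := hgi.restrict hle
    have hxE₁ : x ∈ E₁ := by
      rw [← hgil x (hZ3N hx)]
      exact hE₁.mem ⟨a⁻¹ * f x * a, haE, by simp [mul_assoc]⟩
    have hLE₁ : L ≤ E₁ := by
      intro y hy
      rw [← hgil y (hLN hy)]
      refine hE₁.mem ⟨a⁻¹ * f y * a, φ.L_le ?_, by simp [mul_assoc]⟩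
      have := conj_mem_of_mem_normalizer (inv_mem (C.L_invariant φ ha)) (C.flip_image_L φ y hy)
      simpa using this
    have hc1 : F.IsConj E E₁ := isConj_trans hconj hE₁.isConj
    have c1 := C.cand E₁ hc1
    haveI : Finite E₁ := finite_of_le c1.le
    by_cases hle1 : E₁ ≤ gam S 3
    · exact C.not_le_two hc1 (hle1.trans (gam_antitone (by omega)))
    · exact hxL ((inf_eq_of_not_le (l := 2) c1.card φ.card_L hLE₁ hLZ3 hle1).le ⟨hxE₁, hx⟩)
  -- `N` is fully normalised
  have hNfn : F.IsFullyNormalized N := by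
    refine ⟨inf_le_left, fun Q hQ => ?_⟩
    obtain ⟨g, hg⟩ := isConj_iff.1 hQ
    obtain ⟨E', -, hE'⟩ := hg.restrict hEN
    have c' := C.cand E' hE'.isConj
    have hQS : Q ≤ S := hg.cod_le
    haveI : Finite Q := finite_of_le hQS
    have hQle : Q ≤ normalizerIn S E' := by
      intro y hy
      obtain ⟨x, hx, rfl⟩ := hg.exists_preimage hy
      exact map_mem_normalizer hg.1 hEN hE'.2 hx hx.2
    have hE'Q : E' ≤ Q := by
      intro y hy
      obtain ⟨x, hx, rfl⟩ := hE'.exists_preimage hy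
      exact hg.mem (hEN hx)
    rw [← hM, ← hMeq, cN1]
    haveI : Finite ↥(normalizerIn S Q) := finite_of_le inf_le_left
    have hQp : IsPGroup p ↥(normalizerIn S Q) := hm.isPGroup.to_le inf_le_left
    obtain ⟨k, hk⟩ := IsPGroup.iff_card.1 hQp
    rw [hk]
    refine Nat.pow_le_pow_right hp.out.pos ?_
    by_contra hk5
    have hall : normalizerIn S Q = S := by
      refine Subgroup.eq_of_le_of_card_ge inf_le_left ?_
      rw [hm.card, hk]
      exact Nat.pow_le_pow_right hp.out.pos (by omega)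
    -- a normal subgroup of index `p ^ 2` is the derived subgroup
    have hQc : Nat.card ↥Q = p ^ 4 := hg.card_eq.symm.trans c.card_N
    haveI hQn : (Q.subgroupOf S).Normal :=
      (normal_subgroupOf_iff_le_normalizer hQS).2 (hall.ge.trans inf_le_right)
    have hq : Nat.card (↥S ⧸ Q.subgroupOf S) = p ^ 2 := by
      have h1 := card_eq_card_quotient_mul_card_subgroup (Q.subgroupOf S)
      rw [hm.card, Nat.card_congr (subgroupOfEquivOfLe hQS).toEquiv, hQc,
        show (6 : ℕ) = 2 + 4 from rfl, pow_add] at h1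
      exact (Nat.eq_of_mul_eq_mul_right (pow_pos hp.out.pos 4) h1).symm
    have hcomm := IsPGroup.isMulCommutative_of_card_eq_prime_sq hq
    have hle : filt ↥S 2 ≤ Q.subgroupOf S := by
      rw [filt_two, _root_.commutator_def, commutator_le]
      intro a _ b _
      rw [← QuotientGroup.eq_one_iff]
      show QuotientGroup.mk' (Q.subgroupOf S) ⁅a, b⁆ = 1
      rw [map_commutatorElement, commutatorElement_eq_one_iff_mul_comm]
      exact hcomm.is_comm.comm _ _
    have hle' : gam S 2 ≤ Q := by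
      rintro _ ⟨y, hy, rfl⟩
      exact hle hy
    have := Subgroup.eq_of_le_of_card_ge hle'
      (by rw [hQc, card_gam hm (by omega) (by omega)])
    exact C.not_le_two hE'.isConj (hE'Q.trans this.ge)
  -- first extension
  have hN1two : ∀ b ∈ N1, ∀ x ∈ gam S 3, ⁅b, x⁆ ∈ gam S 5 := by
    intro b hb x hx
    have hle : N1 ≤ (twoStep ↥S (3 - 1)).map S.subtype := by
      refine sup_le (hNgen.trans (sup_le (zpowers_le.2 ⟨e, ?_, rfl⟩) ?_)) ?_
      · rw [twoStep_eq_first hm C.five (by omega) (by omega)]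
        exact heC
      all_goals
        intro y hy
        exact ⟨⟨y, gam_le _ hy⟩, filt_two_le_twoStep hm 3 (by omega)
          (filt_antitone (by omega) (coe_mem_gam (x := ⟨y, gam_le _ hy⟩).1 hy)), rfl⟩
    obtain ⟨y, hy, rfl⟩ := hle hb
    exact coe_comm y ⟨x, gam_le _ hx⟩ ▸
      coe_mem_gam.2 ((mem_twoStep' (by omega)).1 hy ⟨x, gam_le _ hx⟩ (coe_mem_gam.1 hx))
  have hlN : L ≤ N := hLN
  have hf5 : ∀ x ∈ gam S 5, f x ∈ gam S 5 := fun x hx => by
    rw [gen_apply φ.iso.1 hlN φ.l_mem φ.f_l (hZ1l hx)]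
    exact inv_mem hx
  let D : ℕ → Subgroup Ω := fun i =>
    if i = 0 then ⊥ else if i = 1 then gam S 5 else if i = 2 then L else if i = 3 then gam S 3 else N
  have hmono : Monotone D := by
    refine monotone_nat_of_le_succ fun i => ?_
    rcases (by omega : i = 0 ∨ i = 1 ∨ i = 2 ∨ i = 3 ∨ 4 ≤ i) with rfl | rfl | rfl | rfl | h4
    · exact bot_le
    · exact hZ1L
    · exact hLZ3
    · exact hZ3N
    · simp only [D]
      rw [if_neg (by omega), if_neg (by omega), if_neg (by omega), if_neg (by omega),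
        if_neg (by omega), if_neg (by omega), if_neg (by omega), if_neg (by omega)]
  have hfD : ∀ i, i ≤ 4 → ∀ x ∈ D i, f x ∈ D i := by
    intro i hi x hx
    rcases (by omega : i = 0 ∨ i = 1 ∨ i = 2 ∨ i = 3 ∨ i = 4) with rfl | rfl | rfl | rfl | rfl
    · have hx1 : x = 1 := mem_bot.1 hx
      rw [hx1, φ.iso.1.map_one]
      exact one_mem _
    · exact hf5 x hx
    · exact C.flip_image_L φ x hx
    · exact hf3 x hx
    · exact φ.iso.mem hx
  have hstab : ∀ b ∈ normalizerIn S N, ∀ i, i < 4 → ∀ x ∈ D (i + 1),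
      x⁻¹ * (b * x * b⁻¹) ∈ D i := by
    intro b hb i hi x hx
    have e1 : x⁻¹ * (b * x * b⁻¹) = ⁅x⁻¹, b⁆ := by simp [commutatorElement_def, mul_assoc]
    rw [e1, ← commutatorElement_inv]
    refine inv_mem ?_
    have hb1 : b ∈ N1 := hMeq ▸ hb
    rcases (by omega : i = 0 ∨ i = 1 ∨ i = 2 ∨ i = 3) with rfl | rfl | rfl | rfl
    · have h2 := gam_comm_one hb.1 (inv_mem (show x ∈ gam S 5 from hx))
      rw [gam_n hm] at h2
      exact h2
    · exact hN1two b hb1 _ (inv_mem (hLZ3 hx))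
    · exact hZ1L (hN1two b hb1 _ (inv_mem (show x ∈ gam S 3 from hx)))
    · have hxN : x ∈ N := hx
      exact hinfN.le ⟨N.mul_mem (conj_mem_of_mem_normalizer hb.2 (N.inv_mem hxN))
        (N.inv_mem (N.inv_mem hxN)),
        gam_comm (mem_gam_one hb.1) (mem_gam_one (S.inv_mem ((inf_le_left : N ≤ S) hxN)))⟩
  obtain ⟨f1, hf1, hf1e⟩ := extend_series hm.isPGroup C.sat hNfn φ.iso D 4 hmono rfl rfl hfD hstab
  rw [← hM, ← hMeq] at hf1
  -- `N1` is normal
  have hN1S : N1 ≤ S := hMeq.le.trans inf_le_left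
  have hN1n : normalizerIn S N1 = S := by
    have hlt : N1 < S := lt_of_le_of_ne hN1S fun h => by
      rw [h, hm.card] at cN1
      exact absurd (Nat.pow_right_injective hp.out.two_le cN1) (by omega)
    haveI : Finite ↥(normalizerIn S N1) := finite_of_le inf_le_left
    have h2 := lt_normalizerIn hm.isPGroup hlt
    have hMp : IsPGroup p ↥(normalizerIn S N1) := hm.isPGroup.to_le inf_le_left
    obtain ⟨k, hk⟩ := IsPGroup.iff_card.1 hMp
    have h3 : Nat.card ↥N1 < Nat.card ↥(normalizerIn S N1) :=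
      lt_of_le_of_ne (Subgroup.card_le_of_le h2.le)
        fun hh => h2.ne (Subgroup.eq_of_le_of_card_ge h2.le hh.ge)
    refine Subgroup.eq_of_le_of_card_ge inf_le_left ?_
    rw [cN1, hk] at h3
    rw [hm.card, hk]
    exact Nat.pow_le_pow_right hp.out.pos ((Nat.pow_lt_pow_iff_right hp1).1 h3)
  have hSN1 : S ≤ normalizer (N1 : Set Ω) := hN1n.ge.trans inf_le_right
  have hg2N1 : gam S 2 ≤ N1 := le_sup_right
  -- the second covering
  have hinfN2 : N ⊓ gam S 2 = gam S 3 := hinfN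
  have hmeetS : S ⊓ normalizer (N : Set Ω) = N1 := hMeq.symm
  have hcov2 := (orbit_count (p := p) (U := N1) (V := gam S 2) (L := gam S 3) (E := N) (M := S)
    (l := 3) (m := 4) le_sup_left hg2N1 hinfN2 c.card_N
    (by rw [card_gam hm (by omega) (by omega)]) cN1
    (by rw [card_gam hm (by omega) (by omega)]) hSN1 gam_le_normalizer gam_le_normalizer).2
    (by rw [hmeetS, cN1, hm.card, ← pow_add])
  have hf1N : ∀ x ∈ N, f1 x = f x := fun x hx => hf1e hx
  have hg3 : ∀ x ∈ gam S 3, f1 x ∈ gam S 3 := fun x hx => by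
    rw [hf1N x (hZ3N hx)]; exact hf3 x hx
  have hg2 : ∀ x ∈ gam S 2, f1 x ∈ gam S 2 := by
    intro x hx
    by_contra hout
    have hx3 : x ∉ gam S 3 := fun h => hout (gam_antitone (by omega) (hg3 x h))
    obtain ⟨a, ha, haN⟩ := hcov2 (f1 x) (hf1.mem (hg2N1 hx)) hout
    have hle : N.map (MulAut.conj a).toMonoidHom ≤ N1 := by
      rintro _ ⟨y, hy, rfl⟩
      exact conj_mem_of_mem_normalizer (hSN1 ha) (mem_sup_left hy)
    have hleE : E.map (MulAut.conj a).toMonoidHom ≤ N1 := (map_mono hEN).trans hle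
    have hconj : F.IsConj E (E.map (MulAut.conj a).toMonoidHom) :=
      IsIso.isConj (f := fun y => a * y * a⁻¹) ⟨isMap_conj c.le ha, rfl⟩
    obtain ⟨gi, hgi, hgil, -⟩ := hf1.exists_inv
    obtain ⟨Q, -, hQ⟩ := hgi.restrict hle
    obtain ⟨E₁, -, hE₁⟩ := hgi.restrict hleE
    have hxQ : x ∈ Q := by
      rw [← hgil x (hg2N1 hx)]
      exact hQ.mem ⟨a⁻¹ * f1 x * a, haN, by simp [mul_assoc]⟩
    have hZQ : gam S 3 ≤ Q := by
      intro y hy
      rw [← hgil y (mem_sup_left (hZ3N hy))]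
      refine hQ.mem ⟨a⁻¹ * f1 y * a, hZ3N ?_, by simp [mul_assoc]⟩
      simpa using gam_conj (inv_mem ha) (hg3 y hy)
    have hE₁Q : E₁ ≤ Q := by
      intro y hy
      obtain ⟨z, hz, rfl⟩ := hE₁.exists_preimage hy
      exact hQ.mem (map_mono hEN hz)
    haveI : Finite Q := finite_of_le hQ.cod_le
    have hQc : Nat.card ↥Q = p ^ (3 + 1) := by
      rw [← hQ.card_eq, card_map_of_injective (MulAut.conj a).injective, c.card_N]
    by_cases hle1 : Q ≤ gam S 2
    · exact C.not_le_two (isConj_trans hconj hE₁.isConj) (hE₁Q.trans hle1)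
    · exact hx3 ((inf_eq_of_not_le (l := 3) hQc (by rw [card_gam hm (by omega) (by omega)]) hZQ
        (gam_antitone (by omega)) hle1).le ⟨hxQ, hx⟩)
  -- an element outside the two-step centralisers
  obtain ⟨g, hgout⟩ := exists_not_mem hm.isPGroup ({2, 4} : Finset ℕ)
    (Finset.card_le_two.trans (by have := C.five; omega)) (fun i => twoStep ↥S (i - 1)) (fun i hi => by
      simp only [Finset.mem_insert, Finset.mem_singleton] at hi
      rcases hi with rfl | rfl <;> exact hm.twoStep_ne (by omega) (by omega))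
  have hgC2 : g ∉ twoStep ↥S (2 - 1) := hgout 2 (by simp)
  have hgC3 : g ∉ twoStep ↥S (3 - 1) := by
    rw [twoStep_eq_first hm C.five (by omega) (by omega)]
    exact hgC2
  set a := dseq g e with hadef
  have ha : ∀ i, a i ∈ filt ↥S i := dseq_mem g e
  have ha2 : a 2 ∉ filt ↥S 3 := by
    rw [hadef, show (2 : ℕ) = 1 + 1 from rfl, dseq_succ g e le_rfl, dseq_one]
    exact comm_not_mem hm (filt_two_le_twoStep hm 2 (by omega)) heC he2 hgC2
  have ha3 : a 3 ∉ filt ↥S 4 := by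
    rw [hadef, show (3 : ℕ) = 2 + 1 from rfl, dseq_succ g e (by omega)]
    exact fun h => hgC2 (layer_le_of_mem hm le_rfl (by omega) (ha 2) ha2 h)
  have ha4 : a 4 ∉ filt ↥S 5 := by
    rw [hadef, show (4 : ℕ) = 3 + 1 from rfl, dseq_succ g e (by omega)]
    exact fun h => hgC3 (layer_le_of_mem hm (by omega) (by omega) (ha 3) ha3 h)
  have heC3 : ∀ x ∈ filt ↥S 3, ⁅e, x⁆ ∈ filt ↥S 5 := by
    have : e ∈ twoStep ↥S (3 - 1) :=
      (twoStep_eq_first hm C.five (k := 3) (by omega) (by omega)).symm ▸ heC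
    exact (mem_twoStep' (by omega)).1 this
  have ha23 : ⁅a 2, a 3⁆ ≠ 1 := by
    intro h1
    have hk : ∀ i, 1 ≤ i → i < 4 →
        ⁅g, ⁅dseq g e i, dseq g e (4 - i)⁆⁆ ∈ filt ↥S (4 + 2) := by
      intro i hi hi4
      have h5 : ⁅dseq g e i, dseq g e (4 - i)⁆ ∈ filt ↥S 5 := by
        rcases (by omega : i = 1 ∨ i = 2 ∨ i = 3) with rfl | rfl | rfl
        · exact heC3 _ (ha 3)
        · rw [commutatorElement_self]; exact one_mem _
        · rw [← commutatorElement_inv]
          exact inv_mem (heC3 _ (ha 3))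
      have := filt_commutator 1 5 (commutator_mem_commutator
        (show g ∈ filt ↥S 1 from mem_top g) h5)
      exact this
    have h2 := alternate (m := 4) (by omega) hk 1 le_rfl (by omega)
    rw [show (1 : ℕ) + 1 = 2 from rfl, show (4 : ℕ) - 1 = 3 from rfl,
      show (4 : ℕ) + 1 - 1 = 4 from rfl, ← hadef, h1, map_one, eq_comm, inv_eq_one] at h2
    exact heK (layer_le_of_mem hm (by omega) (by omega) (ha 4) ha4
      ((QuotientGroup.eq_one_iff _).1 h2))
  have hg4 : ∀ x ∈ gam S 4, f1 x ∈ gam S 4 := by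
    intro x hx
    by_contra hout
    have hy3 := hg3 x (gam_antitone (by omega) hx)
    have hle : gam S 3 ≤ zpowers (f1 x) ⊔ gam S 4 := gam_gen hm (by omega) (by omega) hy3 hout
    have hcom : gam S 3 ≤ centralizer ({((a 2 : ↥S) : Ω)} : Set Ω) := by
      refine hle.trans (sup_le (zpowers_le.2 (mem_centralizer_singleton_iff.2 ?_)) fun y hy =>
        mem_centralizer_singleton_iff.2 ?_)
      · obtain ⟨y, hy, hyy⟩ := hf1.exists_preimage (hg2N1 (coe_mem_gam.2 (ha 2)))
        rw [← hyy, ← hf1.1.map_mul (hg2N1 (gam_antitone (by omega) hx)) hy,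
          ← hf1.1.map_mul hy (hg2N1 (gam_antitone (by omega) hx))]
        congr 1
        have hy2 : y ∈ gam S 2 := by
          obtain ⟨y', hy', hyy'⟩ := surjOn_of_card_le (gam_le 2)
            (hf1.1.injOn.mono hg2N1) hg2 le_rfl _ (coe_mem_gam.2 (ha 2))
          have : y = y' := hf1.1.injOn hy (hg2N1 hy') (hyy.trans hyy'.symm)
          exact this ▸ hy'
        exact (gam_commute hm (by omega) hx hy2).eq
      · exact (gam_commute hm (by omega) hy (coe_mem_gam.2 (ha 2))).eq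
    refine ha23 (commutatorElement_eq_one_iff_commute.2 (Subtype.ext ?_))
    exact (mem_centralizer_singleton_iff.1 (hcom (coe_mem_gam.2 (ha 3)))).symm
  -- second extension
  let D2 : ℕ → Subgroup Ω := fun i => if i = 0 then ⊥ else if i < 5 then gam S (6 - i) else N1
  have hmono2 : Monotone D2 := by
    intro i j hij
    simp only [D2]
    split_ifs with h1 h2 h3 h4 h5 <;>
      first
      | exact bot_le
      | exact le_rfl
      | omega
      | exact gam_antitone (by omega)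
      | exact (gam_antitone (by omega)).trans hg2N1
  have hfD2 : ∀ i, i ≤ 5 → ∀ x ∈ D2 i, f1 x ∈ D2 i := by
    intro i hi x hx
    rcases (by omega : i = 0 ∨ i = 1 ∨ i = 2 ∨ i = 3 ∨ i = 4 ∨ i = 5) with
      rfl | rfl | rfl | rfl | rfl | rfl
    · have hx1 : x = 1 := mem_bot.1 hx
      rw [hx1, hf1.1.map_one]
      exact one_mem _
    · show f1 x ∈ gam S 5
      rw [hf1N x (hZ3N (gam_antitone (by omega) (show x ∈ gam S 5 from hx)))]
      exact hf5 x hx
    · exact hg4 x hx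
    · exact hg3 x hx
    · exact hg2 x hx
    · exact hf1.mem hx
  have hstab2 : ∀ b ∈ normalizerIn S N1, ∀ i, i < 5 → ∀ x ∈ D2 (i + 1),
      x⁻¹ * (b * x * b⁻¹) ∈ D2 i := by
    intro b hb i hi x hx
    have e1 : x⁻¹ * (b * x * b⁻¹) = ⁅x⁻¹, b⁆ := by simp [commutatorElement_def, mul_assoc]
    rw [e1, ← commutatorElement_inv]
    refine inv_mem ?_
    rcases (by omega : i = 0 ∨ i = 1 ∨ i = 2 ∨ i = 3 ∨ i = 4) with
      rfl | rfl | rfl | rfl | rfl
    · have h2 := gam_comm_one hb.1 (inv_mem (show x ∈ gam S 5 from hx))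
      rw [gam_n hm] at h2
      exact h2
    · exact gam_comm_one hb.1 (inv_mem (show x ∈ gam S 4 from hx))
    · exact gam_comm_one hb.1 (inv_mem (show x ∈ gam S 3 from hx))
    · exact gam_comm_one hb.1 (inv_mem (show x ∈ gam S 2 from hx))
    · have hxN : x ∈ N1 := hx
      exact gam_comm (mem_gam_one hb.1) (mem_gam_one (inv_mem (hN1S hxN)))
  obtain ⟨f2, hf2, hf2e⟩ := extend_series hm.isPGroup C.sat
    (⟨hN1S, fun Q _ => hN1n.symm ▸ Subgroup.card_le_of_le inf_le_left⟩ : F.IsFullyNormalized N1)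
    hf1 D2 5 hmono2 rfl rfl hfD2 hstab2
  rw [hN1n] at hf2
  set Φ := selfHom hf2.1 with hΦ
  have hΦN : ∀ x : ↥S, (x : Ω) ∈ N → ((Φ x : ↥S) : Ω) = f x := fun x hx => by
    rw [hΦ, selfHom_apply, hf2e (mem_sup_left hx), hf1N _ hx]
  -- decomposition of the image of `g`
  set C2 := twoStep ↥S (2 - 1) with hC2
  have hC2n : C2.Normal := by
    refine normalizer_eq_top_iff.1 (eq_top_iff.2 fun x _ => mem_normalizer_of_conj fun y hy => ?_)
    rw [conj_eq_comm_mul]
    refine mul_mem (filt_two_le_twoStep hm 2 (by omega) ?_) hy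
    exact filt_commutator 1 1 (commutator_mem_commutator (mem_top x) (mem_top y))
  have htop : zpowers g ⊔ C2 = ⊤ := by
    refine Subgroup.eq_top_of_le_card _ ?_
    obtain ⟨k, hk⟩ := PGroup.exists_card_eq_pow hm.isPGroup (zpowers g ⊔ C2)
    have h1 : Nat.card ↥C2 < Nat.card ↥(zpowers g ⊔ C2 : Subgroup ↥S) :=
      lt_of_le_of_ne (Subgroup.card_le_of_le le_sup_right) fun hh => hgC2
        ((Subgroup.eq_of_le_of_card_ge le_sup_right hh.ge).ge (mem_sup_left (mem_zpowers g)))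
    have h2 := (card_twoStep_ge hm (i := 2) le_rfl (by omega)).trans_lt h1
    rw [hk] at h2
    rw [hm.card, hk]
    exact Nat.pow_le_pow_right hp.out.pos (by
      have := (Nat.pow_lt_pow_iff_right hp1).1 h2
      omega)
  obtain ⟨_, ⟨u, rfl⟩, c0, hc0, hΦg⟩ := mem_sup_of_normal_right.1 (htop.ge (mem_top (Φ g)))
  -- the three congruences
  have hc0e : ⁅c0, e⁆ ∈ filt ↥S 3 := by
    by_contra hne
    set B := zpowers e ⊔ filt ↥S 2 with hB
    have hBeq : B = C2 := by
      have h1 : B ≤ C2 := sup_le (zpowers_le.2 heC) (filt_two_le_twoStep hm 2 (by omega))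
      have hBne : B ≠ ⊤ := fun h => hm.twoStep_ne (i := 2) le_rfl (by omega) (top_le_iff.1 (h ▸ h1))
      refine Subgroup.eq_of_le_of_card_ge h1 ?_
      rw [card_of_between hm le_sup_right hBne (mem_sup_left (mem_zpowers e)) he2]
      exact card_le_of_ne_top hm (hm.twoStep_ne (i := 2) le_rfl (by omega))
    obtain ⟨_, ⟨i, rfl⟩, w, hw, hcw⟩ := mem_sup_of_normal_right.1 (hBeq.ge hc0)
    refine hne ?_
    rw [← hcw]
    have e1 : ⁅e ^ i * w, e⁆ = e ^ i * ⁅w, e⁆ * (e ^ i)⁻¹ := by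
      simp only [commutatorElement_def]; group
    show ⁅e ^ i * w, e⁆ ∈ _
    rw [e1]
    exact (filt_normal 3).conj_mem _
      (filt_commutator 2 1 (commutator_mem_commutator hw (mem_top e))) _
  obtain ⟨w, hw, hΦe⟩ : ∃ w ∈ filt ↥S 3, Φ e = e ^ (-1 : ℤ) * w := by
    have h1 := φ.f_E _ he
    refine ⟨⟨f (e : Ω) * (e : Ω), c.le (φ.L_le h1)⟩, coe_mem_gam.1 (hLZ3 h1), Subtype.ext ?_⟩
    rw [hΦN e (hEN he)]
    show f (e : Ω) = ((e ^ (-1 : ℤ) : ↥S) : Ω) * (f (e : Ω) * (e : Ω))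
    rw [zpow_neg_one, InvMemClass.coe_inv]
    have hfe : f (e : Ω) ∈ E := by
      have h2 : f (e : Ω) ∈ f '' (E : Set Ω) := ⟨_, he, rfl⟩
      rw [φ.image] at h2
      exact h2
    have := congrArg Subtype.val (c.comm.is_comm.comm (⟨(e : Ω), he⟩ : ↥E) ⟨f (e : Ω), hfe⟩)
    simp only [Subgroup.coe_mul] at this
    rw [← this, inv_mul_cancel_left]
  have hC3 : C2 = twoStep ↥S (3 - 1) := (twoStep_eq_first hm C.five (by omega) (by omega)).symm
  have stepUp : ∀ (i : ℕ) (k : ℤ), 2 ≤ i → i ≤ 3 → (a i ^ k)⁻¹ * Φ (a i) ∈ filt ↥S (i + 1) →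
      (a (i + 1) ^ (u * k))⁻¹ * Φ (a (i + 1)) ∈ filt ↥S (i + 2) := by
    intro i k hi hi3 hk
    refine QuotientGroup.eq.1 ?_
    show QuotientGroup.mk' (filt ↥S (i + 2)) (a (i + 1) ^ (u * k)) =
      QuotientGroup.mk' (filt ↥S (i + 2)) (Φ (a (i + 1)))
    rw [hadef, dseq_succ g e (by omega), map_commutatorElement Φ, ← hadef, ← hΦg, map_zpow]
    refine (comm_layer_congr (j := 1) (i := i) (k := i + 2) (by omega) (u := g) (v := a i)
      (w := c0) (z := (a i ^ k)⁻¹ * Φ (a i)) (a := u) (b := k) (mem_top _) (ha i) rfl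
      (fun x hx => ?_) (mul_inv_cancel_left _ _).symm hk).symm
    have hmem : c0 ∈ twoStep ↥S (i - 1) := by
      rcases (by omega : i = 2 ∨ i = 3) with rfl | rfl
      · exact hc0
      · exact hC3 ▸ hc0
    exact (mem_twoStep' (by omega)).1 hmem x hx
  have h2rel : (a 2 ^ (-u))⁻¹ * Φ (a 2) ∈ filt ↥S 3 := by
    refine QuotientGroup.eq.1 ?_
    show QuotientGroup.mk' (filt ↥S 3) (a 2 ^ (-u)) = QuotientGroup.mk' (filt ↥S 3) (Φ (a 2))
    rw [hadef, show (2 : ℕ) = 1 + 1 from rfl, dseq_succ g e le_rfl, dseq_one,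
      map_commutatorElement Φ, ← hΦg, hΦe, map_zpow]
    have hcent : ∀ x : ↥S, QuotientGroup.mk' (filt ↥S 3) ⁅x, w⁆ = 1 := fun x =>
      (QuotientGroup.eq_one_iff _).2 (filt_antitone (by omega)
        (filt_commutator 1 3 (commutator_mem_commutator
          (show x ∈ filt ↥S 1 from mem_top x) hw)))
    have hce : QuotientGroup.mk' (filt ↥S 3) ⁅c0, e ^ (-1 : ℤ)⁆ = 1 := by
      refine (QuotientGroup.eq_one_iff _).2 ?_
      have h3 : ⁅c0, e ^ (-1 : ℤ)⁆ = e⁻¹ * ⁅c0, e⁆⁻¹ * e := by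
        simp only [commutatorElement_def]; group
      rw [h3]
      simpa using (filt_normal 3).conj_mem _ (inv_mem hc0e) e⁻¹
    rw [comm_layer_mul_right (j := 1) (i := 1) (by omega) (mem_top _) (mem_top w), hcent, mul_one,
      comm_layer_mul_left (j := 1) (i := 1) (by omega) (mem_top c0) (mem_top _), hce, mul_one,
      comm_layer_zpow (j := 1) (i := 1) (by omega) (mem_top g) (mem_top e), mul_neg_one]
  have h3rel := stepUp 2 (-u) le_rfl (by omega) h2rel
  have h4rel := stepUp 3 (u * -u) (by omega) le_rfl h3rel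
  -- the fourth layer
  have hd4 : (p : ℤ) ∣ u * (u * -u) - 1 := by
    refine dvd_of_zpow_mem hm ha4 ?_
    have hN4 : ((a 4 : ↥S) : Ω) ∈ N := hZ3N (gam_antitone (by omega) (coe_mem_gam.2 (ha 4)))
    have hfix : Φ (a 4) * (a 4)⁻¹ ∈ filt ↥S 5 := by
      refine coe_mem_gam.1 ?_
      show ((Φ (a 4) : ↥S) : Ω) * ((a 4 : ↥S) : Ω)⁻¹ ∈ gam S 5
      have hinf4 : E ⊓ gam S 4 = gam S 5 := by
        refine le_antisymm (fun y hy => ?_) (le_inf (hZ1L.trans φ.L_le) (gam_antitone (by omega)))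
        by_contra hy5
        refine hZ fun z hz => ?_
        exact (gam_gen hm (by omega) (by omega) hy.2 hy5).trans
          (sup_le (zpowers_le.2 hy.1) (hZ1L.trans φ.L_le)) hz
      refine hinf4.le ⟨?_, (gam S 4).mul_mem ?_ ((gam S 4).inv_mem (coe_mem_gam.2 (ha 4)))⟩
      · rw [hΦN _ hN4]
        exact φ.f_N _ hN4
      · rw [hΦ, selfHom_apply, hf2e (mem_sup_left hN4)]
        exact hg4 _ (coe_mem_gam.2 (ha 4))
    have h1 := mul_mem hfix ((filt_normal 5).conj_mem _ (inv_mem h4rel) (a 4))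
    have e1 : a 4 ^ (u * (u * -u) - 1) = Φ (a 4) * (a 4)⁻¹ *
        (a 4 * ((a 4 ^ (u * (u * -u)))⁻¹ * Φ (a 4))⁻¹ * (a 4)⁻¹) := by
      rw [zpow_sub_one]
      group
    rw [e1]
    exact h1
  -- the third layer
  have hd3 : (p : ℤ) ∣ u * -u - 1 := by
    have hx0S : x0 ∈ S := c.le (φ.L_le φ.x0_mem)
    set x : ↥S := ⟨x0, hx0S⟩ with hxdef
    have hx3 : x ∈ filt ↥S 3 := coe_mem_gam.1 (hLZ3 φ.x0_mem)
    have hx4 : x ∉ filt ↥S 4 := fun h4 => hZ fun z hz =>
      ((gam_gen hm (by omega) (by omega) (z := x0) (coe_mem_gam.2 h4) hx0n1).trans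
        (sup_le (zpowers_le.2 (φ.L_le φ.x0_mem)) (hZ1L.trans φ.L_le))) hz
    obtain ⟨_, ⟨i, rfl⟩, y, hy, hxy⟩ := mem_sup_of_normal_right.1
      (hm.layer_gen (i := 3) (by omega) (by omega) (ha 3) ha3 hx3)
    have hΦx : Φ x = x := Subtype.ext (by rw [hΦN x (hLN φ.x0_mem)]; exact φ.f_x0)
    have hπy : QuotientGroup.mk' (filt ↥S 4) y = 1 := (QuotientGroup.eq_one_iff _).2 hy
    have hπΦy : QuotientGroup.mk' (filt ↥S 4) (Φ y) = 1 := by
      refine (QuotientGroup.eq_one_iff _).2 (coe_mem_gam.1 ?_)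
      rw [hΦ, selfHom_apply, hf2e (hg2N1 (gam_antitone (by omega) (coe_mem_gam.2 hy)))]
      exact hg4 _ (coe_mem_gam.2 hy)
    have hπ3 : QuotientGroup.mk' (filt ↥S 4) (Φ (a 3)) =
        QuotientGroup.mk' (filt ↥S 4) (a 3) ^ (u * -u) := by
      rw [← map_zpow]
      exact (QuotientGroup.eq.2 h3rel).symm
    have hxy' : a 3 ^ i * y = x := hxy
    have hΦxy : QuotientGroup.mk' (filt ↥S 4) (Φ x) =
        QuotientGroup.mk' (filt ↥S 4) (Φ (a 3)) ^ i := by
      rw [← hxy', map_mul, map_zpow, map_mul, map_zpow, hπΦy, mul_one]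
    rw [hΦx, hπ3, ← hxy', map_mul, map_zpow, hπy, mul_one, ← zpow_mul] at hΦxy
    have h1 : (p : ℤ) ∣ (u * -u) * i - i := by
      refine dvd_of_zpow_mem hm ha3 ((QuotientGroup.eq_one_iff _).1 ?_)
      show QuotientGroup.mk' (filt ↥S 4) (a 3 ^ (u * -u * i - i)) = 1
      rw [map_zpow, zpow_sub, ← hΦxy, mul_inv_cancel]
    have h2 : (p : ℤ) ∣ (u * -u - 1) * i := by rwa [sub_mul, one_mul]
    rcases Int.Prime.dvd_mul' hp.out h2 with h3 | h3
    · exact h3
    · obtain ⟨q, rfl⟩ := h3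
      refine absurd ?_ hx4
      rw [← hxy']
      refine mul_mem ?_ hy
      rw [zpow_mul, zpow_natCast]
      obtain ⟨w', hw'⟩ := hm.exists_cfg
      exact zpow_mem (hw'.pow_p_mem_succ (by omega) (ha 3)) q
  have h2p : (p : ℤ) ∣ 2 := by
    have h1 : (p : ℤ) ∣ u - 1 := by
      have : u - 1 = (u * (u * -u) - 1) - u * (u * -u - 1) := by ring
      rw [this]
      exact dvd_sub hd4 (Dvd.dvd.mul_left hd3 u)
    have : (2 : ℤ) = -(u * -u - 1) - (u + 1) * (u - 1) := by ring
    rw [this]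
    exact dvd_sub (dvd_neg.2 hd3) (Dvd.dvd.mul_left h1 (u + 1))
  exact hodd ((Nat.prime_dvd_prime_iff_eq hp.out Nat.prime_two).1 (by exact_mod_cast h2p))

end Ctx

end Cfsg.Agent.MaxEss41
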